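import Cfsg.Agent.Lib.TwoFour.Basic

/-!
# The two nonabelian groups of order 64 with a central four-group and a fixed-point-free automorphism
of order three
-/

set_option autoImplicit false
set_option linter.unusedSimpArgs false
set_option linter.style.haveILetI false

namespace Cfsg.Lib.TwoFour

open Subgroup

variable {T : Type*} [Group T]

/-- The setting: nonabelian of order 64, elementary modulo the central four-group. -/
structure Hyp64 (ρ : T ≃* T) (V : Subgroup T) : Prop where
  fpf : FpfCube ρ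
  four : Four ρ V
  card : Nat.card T = 64
  sq_mem : ∀ x, x * x ∈ V
  nonab : ∃ x y : T, x * y ≠ y * x

/-- Generators with the relations of the two groups, `s` telling them apart. -/
structure Gens (s : Bool) (T : Type*) [Group T] where
  /-- generator -/
  a : T
  /-- generator -/
  a' : T
  /-- generator -/
  b : T
  /-- generator -/
  b' : T
  /-- central generator -/
  e : T
  /-- central generator -/
  e' : T
  cent : ∀ x : T, e * x = x * e
  cent' : ∀ x : T, e' * x = x * e'
  ee : e * e = 1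
  ee' : e' * e' = 1
  aa : a * a = if s then e else 1
  aa' : a' * a' = if s then e' else 1
  bb : b * b = if s then e' else 1
  bb' : b' * b' = if s then e * e' else 1
  a'a : a' * a = a * a'
  b'b : b' * b = b * b'
  ba : b * a = a * b * e
  ba' : b * a' = a' * b * (e * e')
  b'a : b' * a = a * b' * (e * e')
  b'a' : b' * a' = a' * b' * e'
  gen : closure {a, a', b, b', e, e'} = ⊤
  card : Nat.card T = 64

/-- coordinates -/
abbrev Six := Bool × Bool × Bool × Bool × Bool × Bool

namespace Gens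

variable {s : Bool} (G : Gens s T)

/-- the element with given coordinates. -/
def word (p : Six) : T :=
  (if p.1 then G.a else 1) * ((if p.2.1 then G.a' else 1) * ((if p.2.2.1 then G.b else 1) *
    ((if p.2.2.2.1 then G.b' else 1) * ((if p.2.2.2.2.1 then G.e else 1) * (if p.2.2.2.2.2 then G.e' else 1)))))

end Gens

/-- right multiplication by the six generators, in coordinates. -/
def stepA (s : Bool) : Six → Six
  | (i, j, k, l, m, n) => (!i, j, k, l, xor m (xor k (xor l (s && i))), xor n l)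

/-- right multiplication, in coordinates. -/
def stepA' (s : Bool) : Six → Six
  | (i, j, k, l, m, n) => (i, !j, k, l, xor m k, xor n (xor k (xor l (s && j))))

/-- right multiplication, in coordinates. -/
def stepB (s : Bool) : Six → Six
  | (i, j, k, l, m, n) => (i, j, !k, l, m, xor n (s && k))

/-- right multiplication, in coordinates. -/
def stepB' (s : Bool) : Six → Six
  | (i, j, k, l, m, n) => (i, j, k, !l, xor m (s && l), xor n (s && l))

/-- right multiplication, in coordinates. -/
def stepE : Six → Six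
  | (i, j, k, l, m, n) => (i, j, k, l, !m, n)

/-- right multiplication, in coordinates. -/
def stepE' : Six → Six
  | (i, j, k, l, m, n) => (i, j, k, l, m, !n)

namespace Gens

variable {s : Bool} (G : Gens s T)

theorem pre (x : T) {u v : T} (h : u = v) : u * x = v * x := by rw [h]

set_option maxHeartbeats 4000000 in
theorem word_step (p : Six) :
    G.word p * G.a = G.word (stepA s p) ∧ G.word p * G.a' = G.word (stepA' s p) ∧
    G.word p * G.b = G.word (stepB s p) ∧ G.word p * G.b' = G.word (stepB' s p) ∧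
    G.word p * G.e = G.word (stepE p) ∧ G.word p * G.e' = G.word (stepE' p) := by
  obtain ⟨i, j, k, l, m, n⟩ := p
  have c1 := G.a'a; have c2 := G.b'b; have c3 := G.ba; have c4 := G.ba'; have c5 := G.b'a; have c6 := G.b'a'
  have d1 : ∀ x, G.a' * (G.a * x) = G.a * (G.a' * x) := fun x => by rw [← mul_assoc, c1, mul_assoc]
  have d2 : ∀ x, G.b' * (G.b * x) = G.b * (G.b' * x) := fun x => by rw [← mul_assoc, c2, mul_assoc]
  have d3 : ∀ x, G.b * (G.a * x) = G.a * (G.b * (G.e * x)) := fun x => by
    rw [← mul_assoc, c3, mul_assoc, mul_assoc]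
  have d4 : ∀ x, G.b * (G.a' * x) = G.a' * (G.b * (G.e * (G.e' * x))) := fun x => by
    rw [← mul_assoc, c4, mul_assoc, mul_assoc, mul_assoc]
  have d5 : ∀ x, G.b' * (G.a * x) = G.a * (G.b' * (G.e * (G.e' * x))) := fun x => by
    rw [← mul_assoc, c5, mul_assoc, mul_assoc, mul_assoc]
  have d6 : ∀ x, G.b' * (G.a' * x) = G.a' * (G.b' * (G.e' * x)) := fun x => by
    rw [← mul_assoc, c6, mul_assoc, mul_assoc]
  have c3' : G.b * G.a = G.a * (G.b * G.e) := by rw [c3, mul_assoc]
  have c4' : G.b * G.a' = G.a' * (G.b * (G.e * G.e')) := by rw [c4, mul_assoc]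
  have c5' : G.b' * G.a = G.a * (G.b' * (G.e * G.e')) := by rw [c5, mul_assoc]
  have c6' : G.b' * G.a' = G.a' * (G.b' * G.e') := by rw [c6, mul_assoc]
  have f1 : ∀ x, G.e * (G.a * x) = G.a * (G.e * x) := fun x => by rw [← mul_assoc, G.cent, mul_assoc]
  have f2 : ∀ x, G.e * (G.a' * x) = G.a' * (G.e * x) := fun x => by rw [← mul_assoc, G.cent, mul_assoc]
  have f3 : ∀ x, G.e * (G.b * x) = G.b * (G.e * x) := fun x => by rw [← mul_assoc, G.cent, mul_assoc]
  have f4 : ∀ x, G.e * (G.b' * x) = G.b' * (G.e * x) := fun x => by rw [← mul_assoc, G.cent, mul_assoc]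
  have g1 : ∀ x, G.e' * (G.a * x) = G.a * (G.e' * x) := fun x => by rw [← mul_assoc, G.cent', mul_assoc]
  have g2 : ∀ x, G.e' * (G.a' * x) = G.a' * (G.e' * x) := fun x => by rw [← mul_assoc, G.cent', mul_assoc]
  have g3 : ∀ x, G.e' * (G.b * x) = G.b * (G.e' * x) := fun x => by rw [← mul_assoc, G.cent', mul_assoc]
  have g4 : ∀ x, G.e' * (G.b' * x) = G.b' * (G.e' * x) := fun x => by rw [← mul_assoc, G.cent', mul_assoc]
  have g5 : ∀ x, G.e' * (G.e * x) = G.e * (G.e' * x) := fun x => by rw [← mul_assoc, G.cent', mul_assoc]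
  have e1 := G.cent G.a; have e2 := G.cent G.a'; have e3 := G.cent G.b; have e4 := G.cent G.b'
  have e1' := G.cent' G.a; have e2' := G.cent' G.a'; have e3' := G.cent' G.b; have e4' := G.cent' G.b'
  have e5 := G.cent' G.e
  have h5 := G.ee; have h6 := G.ee'
  have k5 : ∀ x, G.e * (G.e * x) = x := fun x => by rw [← mul_assoc, h5, one_mul]
  have k6 : ∀ x, G.e' * (G.e' * x) = x := fun x => by rw [← mul_assoc, h6, one_mul]
  have a1 := G.aa; have a2 := G.aa'; have a3 := G.bb; have a4 := G.bb'
  cases s <;> simp only [Bool.false_eq_true, if_false, if_true] at a1 a2 a3 a4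
  · have k1 : ∀ x, G.a * (G.a * x) = x := fun x => by rw [← mul_assoc, a1, one_mul]
    have k2 : ∀ x, G.a' * (G.a' * x) = x := fun x => by rw [← mul_assoc, a2, one_mul]
    have k3 : ∀ x, G.b * (G.b * x) = x := fun x => by rw [← mul_assoc, a3, one_mul]
    have k4 : ∀ x, G.b' * (G.b' * x) = x := fun x => by rw [← mul_assoc, a4, one_mul]
    cases i <;> cases j <;> cases k <;> cases l <;> cases m <;> cases n <;>
      simp [word, stepA, stepA', stepB, stepB', stepE, stepE', mul_assoc,
        c1, c2, c3', c4', c5', c6', d1, d2, d3, d4, d5, d6, f1, f2, f3, f4, g1, g2, g3, g4, g5,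
        e1, e2, e3, e4, e1', e2', e3', e4', e5, h5, h6, k5, k6, a1, a2, a3, a4, k1, k2, k3, k4]
  · have k1 : ∀ x, G.a * (G.a * x) = G.e * x := fun x => by rw [← mul_assoc, a1]
    have k2 : ∀ x, G.a' * (G.a' * x) = G.e' * x := fun x => by rw [← mul_assoc, a2]
    have k3 : ∀ x, G.b * (G.b * x) = G.e' * x := fun x => by rw [← mul_assoc, a3]
    have k4 : ∀ x, G.b' * (G.b' * x) = G.e * (G.e' * x) := fun x => by rw [← mul_assoc, a4, mul_assoc]
    cases i <;> cases j <;> cases k <;> cases l <;> cases m <;> cases n <;>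
      simp [word, stepA, stepA', stepB, stepB', stepE, stepE', mul_assoc,
        c1, c2, c3', c4', c5', c6', d1, d2, d3, d4, d5, d6, f1, f2, f3, f4, g1, g2, g3, g4, g5,
        e1, e2, e3, e4, e1', e2', e3', e4', e5, h5, h6, k5, k6, a1, a2, a3, a4, k1, k2, k3, k4]

theorem word_one : G.word (false, false, false, false, false, false) = 1 := by simp [word]

theorem word_bijective [Finite T] : Function.Bijective G.word := by
  have hs : Function.Surjective G.word := by
    intro x
    have hx : x ∈ closure ({G.a, G.a', G.b, G.b', G.e, G.e'} : Set T) := by rw [G.gen]; trivial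
    induction hx using Subgroup.closure_induction_right with
    | one => exact ⟨_, G.word_one⟩
    | mul_right x hx y hy ih =>
      obtain ⟨p, rfl⟩ := ih
      obtain ⟨h1, h2, h3, h4, h5, h6⟩ := G.word_step p
      simp only [Set.mem_insert_iff, Set.mem_singleton_iff] at hy
      rcases hy with rfl | rfl | rfl | rfl | rfl | rfl
      exacts [⟨_, h1.symm⟩, ⟨_, h2.symm⟩, ⟨_, h3.symm⟩, ⟨_, h4.symm⟩, ⟨_, h5.symm⟩, ⟨_, h6.symm⟩]
    | mul_inv_cancel x hx y hy ih =>
      obtain ⟨p, rfl⟩ := ih
      have key : ∀ (g : T) (st : Six → Six), (∀ q, G.word q * g = G.word (st q)) →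
          ∃ q, G.word q = G.word p * g⁻¹ := by
        intro g st hst
        obtain ⟨r, hr⟩ : ∃ r : ℕ, g⁻¹ = g ^ r := ⟨orderOf g - 1,
          inv_eq_of_mul_eq_one_right (by
            rw [← pow_succ', Nat.sub_add_cancel (orderOf_pos g), pow_orderOf_eq_one])⟩
        refine ⟨st^[r] p, ?_⟩
        rw [hr]
        clear hr
        induction r with
        | zero => simp
        | succ r ih => rw [Function.iterate_succ_apply', ← hst, ih, mul_assoc, ← pow_succ]
      simp only [Set.mem_insert_iff, Set.mem_singleton_iff] at hy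
      rcases hy with rfl | rfl | rfl | rfl | rfl | rfl
      exacts [key _ _ (fun q => (G.word_step q).1), key _ _ (fun q => (G.word_step q).2.1),
        key _ _ (fun q => (G.word_step q).2.2.1), key _ _ (fun q => (G.word_step q).2.2.2.1),
        key _ _ (fun q => (G.word_step q).2.2.2.2.1), key _ _ (fun q => (G.word_step q).2.2.2.2.2)]
  refine (Nat.bijective_iff_surjective_and_card _).2 ⟨hs, ?_⟩
  rw [G.card, Nat.card_eq_fintype_card]
  simp [Six]

include G in
theorem nonempty_mulEquiv [Finite T] {T' : Type*} [Group T'] [Finite T'] (G' : Gens s T') :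
    Nonempty (T ≃* T') := by
  let e := (Equiv.ofBijective _ G.word_bijective).symm.trans (Equiv.ofBijective _ G'.word_bijective)
  have he : ∀ p, e (G.word p) = G'.word p := fun p => by
    show G'.word ((Equiv.ofBijective _ G.word_bijective).symm (G.word p)) = _
    rw [← Equiv.ofBijective_apply G.word (hf := G.word_bijective), Equiv.symm_apply_apply]
  have he1 : e 1 = 1 := by rw [← G.word_one, he, G'.word_one]
  have main : ∀ (g : T) (g' : T') (st : Six → Six), (∀ q, G.word q * g = G.word (st q)) →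
      (∀ q, G'.word q * g' = G'.word (st q)) → ∀ x, e (x * g) = e x * g' := by
    intro g g' st h h' x
    obtain ⟨p, rfl⟩ := G.word_bijective.2 x
    rw [h, he, he, h']
  let S : Subgroup T :=
    { carrier := {y | ∀ x, e (x * y) = e x * e y}
      one_mem' := fun x => by rw [mul_one, he1, mul_one]
      mul_mem' := fun {y z} hy hz x => by rw [← mul_assoc, hz, hy, hz, mul_assoc]
      inv_mem' := fun {y} hy x => by
        have h1 := hy (x * y⁻¹)
        have h2 := hy y⁻¹
        rw [inv_mul_cancel_right] at h1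
        rw [inv_mul_cancel, he1] at h2
        rw [h1, mul_assoc, mul_eq_one_comm.1 h2.symm, mul_one] }
  have hS : S = ⊤ := by
    rw [← top_le_iff, ← G.gen, closure_le]
    have base : ∀ g g', (∀ x, e (x * g) = e x * g') → g ∈ S := fun g g' h x => by
      have := h 1
      rw [one_mul, he1, one_mul] at this
      rw [h x, this]
    intro y hy
    simp only [Set.mem_insert_iff, Set.mem_singleton_iff] at hy
    rcases hy with rfl | rfl | rfl | rfl | rfl | rfl
    exacts [base _ _ (main _ G'.a _ (fun q => (G.word_step q).1) fun q => (G'.word_step q).1),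
      base _ _ (main _ G'.a' _ (fun q => (G.word_step q).2.1) fun q => (G'.word_step q).2.1),
      base _ _ (main _ G'.b _ (fun q => (G.word_step q).2.2.1) fun q => (G'.word_step q).2.2.1),
      base _ _ (main _ G'.b' _ (fun q => (G.word_step q).2.2.2.1) fun q => (G'.word_step q).2.2.2.1),
      base _ _ (main _ G'.e _ (fun q => (G.word_step q).2.2.2.2.1) fun q => (G'.word_step q).2.2.2.2.1),
      base _ _ (main _ G'.e' _ (fun q => (G.word_step q).2.2.2.2.2) fun q => (G'.word_step q).2.2.2.2.2)]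
  exact ⟨{ e with map_mul' := fun x y => (show y ∈ S from hS ▸ Subgroup.mem_top y) x }⟩

end Gens

namespace Hyp64

variable {ρ : T ≃* T} {V : Subgroup T}

/-- the commutator `[x, y]`, central of order at most two. -/
theorem comm_mem (H : Hyp64 ρ V) (x y : T) : x * y * x⁻¹ * y⁻¹ ∈ V := by
  have key : x * y * x⁻¹ * y⁻¹ = (x * y) * (x * y) * ((y⁻¹ * (x * x)⁻¹ * y) * ((y * y))⁻¹) := by group
  rw [key]
  refine V.mul_mem (H.sq_mem _) (V.mul_mem ?_ (V.inv_mem (H.sq_mem _)))
  rw [mul_assoc, ← H.four.central _ (V.inv_mem (H.sq_mem x)) y, ← mul_assoc, inv_mul_cancel, one_mul]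
  exact V.inv_mem (H.sq_mem x)

/-- write `y * x` through the commutator. -/
theorem exists_swap (H : Hyp64 ρ V) (x y : T) : ∃ c ∈ V, y * x = x * y * c := by
  refine ⟨y⁻¹ * x⁻¹ * (y * x), ?_, by group⟩
  have h := H.comm_mem y⁻¹ x⁻¹
  rwa [inv_inv, inv_inv, mul_assoc (y⁻¹ * x⁻¹)] at h

theorem step [Finite T] (H : Hyp64 ρ V) : ∀ (a : T), a ∉ V → (∃ b, b ∉ V ⊔ closure {a, ρ a}) ∧
    ∀ b, b ∉ V ⊔ closure {a, ρ a} → ∃ E ∈ V, E ≠ 1 ∧
    b * a = a * b * E ∧ b * ρ a = ρ a * b * ρ (ρ E) ∧ ρ b * a = a * ρ b * ρ (ρ E) ∧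
    ρ b * ρ a = ρ a * ρ b * ρ E ∧ closure ((V : Set T) ∪ {a, ρ a, b, ρ b}) = ⊤ := by
  classical
  have h := H.fpf
  have hV := H.four
  have hc := hV.central
  have hcl : ∀ v ∈ V, ∀ x, v * x = x * v := fun v hv x => (hc v hv x).symm
  have hexp : ∀ v ∈ V, v⁻¹ = v := fun v hv => hV.inv_self hv
  intro a ha
  set U := V ⊔ closure {a, ρ a} with hU
  haveI : V.Normal := ⟨fun v hv g => by rw [hc v hv g, mul_inv_cancel_right]; exact hv⟩
  have haU : a ∈ U := le_sup_right (a := V) (subset_closure (by simp))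
  have hraU : ρ a ∈ U := le_sup_right (a := V) (subset_closure (by simp))
  have hVU : V ≤ U := le_sup_left
  have hUinv : ∀ x ∈ U, ρ x ∈ U := by
    have : U ≤ U.comap ρ.toMonoidHom := by
      refine sup_le (fun v hv => hVU (hV.inv v hv)) ((closure_le _).2 ?_)
      intro x hx
      simp only [Set.mem_insert_iff, Set.mem_singleton_iff] at hx
      rcases hx with rfl | rfl
      · exact hraU
      · show ρ (ρ a) ∈ U
        rw [h.rho_sq]
        exact U.inv_mem (U.mul_mem haU hraU)
    exact fun x hx => this hx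
  have hgen : ∀ b', b' ∉ U → closure ((V : Set T) ∪ {a, ρ a, b', ρ b'}) = ⊤ := by
    intro b hb
    set H5 := closure ((V : Set T) ∪ {a, ρ a, b, ρ b}) with hH5
    have dbl : ∀ (A B : Subgroup T) (x : T), A ≤ B → x ∈ B → x ∉ A → 2 * Nat.card A ≤ Nat.card B := by
      intro A B x hAB hxB hxA
      have hd := Subgroup.card_dvd_of_le hAB
      have hlt : Nat.card A < Nat.card B := by
        rcases lt_or_eq_of_le (Subgroup.card_le_of_le hAB) with h' | h'
        · exact h'
        · exact absurd (Subgroup.eq_of_le_of_card_ge hAB h'.ge ▸ hxB) hxA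
      obtain ⟨r, hr⟩ := hd
      rcases r with - | - | r
      · rw [Nat.mul_zero] at hr; exact absurd hr Nat.card_pos.ne'
      · omega
      · rw [hr, mul_comm]; exact Nat.mul_le_mul_left _ (by omega)
    have h1 : 2 * Nat.card V ≤ Nat.card (V ⊔ closure {a} : Subgroup T) :=
      dbl _ _ a le_sup_left (le_sup_right (a := V) (subset_closure rfl)) ha
    have h2 : 2 * Nat.card (V ⊔ closure {a} : Subgroup T) ≤ Nat.card U := by
      refine dbl _ _ (ρ a) (sup_le_sup_left (Subgroup.closure_mono (by simp)) _) hraU fun hmem => ?_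
      have hx : ρ a * a⁻¹ ∈ V ∨ ρ a ∈ V := by
        have hle : ∀ x ∈ (V ⊔ closure {a} : Subgroup T), x ∈ V ∨ x * a⁻¹ ∈ V := by
          intro x hx
          obtain ⟨v, hv, w, hw, rfl⟩ := Subgroup.mem_sup_of_normal_left.1 hx
          obtain ⟨k, rfl⟩ := Subgroup.mem_closure_singleton.1 hw
          rcases Int.even_or_odd k with ⟨r, rfl⟩ | ⟨r, rfl⟩
          · left
            refine V.mul_mem hv ?_
            rw [← two_mul, zpow_mul, zpow_two]
            exact V.zpow_mem (H.sq_mem a) r
          · right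
            rw [zpow_add, zpow_one, mul_assoc, mul_assoc, mul_inv_cancel, mul_one, zpow_mul, zpow_two]
            exact V.mul_mem hv (V.zpow_mem (H.sq_mem a) r)
        exact (hle _ hmem).symm
      rcases hx with hx | hx
      · refine ha (mem_of_fixed_mod h.fix hV.inv ?_)
        have e : a⁻¹ * ρ a = a⁻¹ * (ρ a * a⁻¹) * a := by group
        rw [e, mul_assoc, hcl _ hx, ← mul_assoc, inv_mul_cancel, one_mul]
        exact hx
      · have := hV.inv _ (hV.inv _ hx)
        rw [h.cube] at this
        exact ha this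
    have hUH : U ≤ H5 := sup_le (fun v hv => subset_closure (Or.inl hv))
      (Subgroup.closure_mono (by intro x hx; simp only [Set.mem_insert_iff, Set.mem_singleton_iff, Set.mem_union] at hx ⊢; tauto))
    have hbH : b ∈ H5 := subset_closure (Or.inr (by simp))
    have hrbH : ρ b ∈ H5 := subset_closure (Or.inr (by simp))
    have h3 : 2 * Nat.card U ≤ Nat.card (U ⊔ closure {b} : Subgroup T) :=
      dbl _ _ b le_sup_left (le_sup_right (a := U) (subset_closure rfl)) hb
    have hUn : U.Normal := ⟨fun x hx g => by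
      obtain ⟨c, hcV, he⟩ := H.exists_swap x g
      rw [he, mul_assoc, hcl c hcV, mul_assoc, mul_inv_cancel_left]
      exact U.mul_mem hx (hVU hcV)⟩
    have h4 : 2 * Nat.card (U ⊔ closure {b} : Subgroup T) ≤ Nat.card H5 := by
      refine dbl _ _ (ρ b) (sup_le hUH ((closure_le _).2 (by simpa using hbH))) hrbH fun hmem => ?_
      haveI := hUn
      obtain ⟨u, hu, w, hw, e⟩ := Subgroup.mem_sup_of_normal_left.1 hmem
      obtain ⟨k, rfl⟩ := Subgroup.mem_closure_singleton.1 hw
      rcases Int.even_or_odd k with ⟨r, rfl⟩ | ⟨r, rfl⟩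
      · have : ρ b ∈ U := by
          rw [← e]
          refine U.mul_mem hu (hVU ?_)
          rw [← two_mul, zpow_mul, zpow_two]
          exact V.zpow_mem (H.sq_mem b) r
        have := hUinv _ (hUinv _ this)
        rw [h.cube] at this
        exact hb this
      · refine hb (mem_of_fixed_mod h.fix hUinv ?_)
        rw [← e, zpow_add, zpow_one]
        have e2 : b⁻¹ * (u * (b ^ (2 * r) * b)) = (b⁻¹ * u * b) * (b ^ (2 * r)) := by
          have : b ^ (2 * r) * b = b * b ^ (2 * r) := ((Commute.refl b).zpow_left _).eq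
          rw [this]; group
        rw [e2]
        refine U.mul_mem ?_ (hVU ?_)
        · have := hUn.conj_mem u hu b⁻¹
          rwa [inv_inv] at this
        · rw [zpow_mul, zpow_two]; exact V.zpow_mem (H.sq_mem b) r
    rw [hV.card] at h1
    refine Subgroup.eq_top_of_card_eq _ (le_antisymm (Subgroup.card_le_card_group _) ?_)
    rw [H.card]
    omega
  obtain ⟨b, hb⟩ : ∃ b, b ∉ U := by
    by_contra hall
    push Not at hall
    obtain ⟨x, y, hxy⟩ := H.nonab
    refine hxy ?_
    have hab : ∀ z ∈ U, ∀ w ∈ U, z * w = w * z := by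
      have hUc : U ≤ closure ((V : Set T) ∪ {a, ρ a}) :=
        sup_le (fun v hv => subset_closure (Or.inl hv)) (Subgroup.closure_mono fun z hz => Or.inr hz)
      intro z hz w hw
      haveI : IsMulCommutative (closure ((V : Set T) ∪ {a, ρ a})) := Subgroup.isMulCommutative_closure (by
        have key : ∀ p ∈ ((V : Set T) ∪ {a, ρ a}), p ∈ V ∨ p = a ∨ p = ρ a := by
          intro p hp; simp at hp; tauto
        intro p hp q hq
        rcases key p hp with hp | hp | hp
        · exact hcl p hp q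
        · rw [hp]
          rcases key q hq with hq | hq | hq
          · exact hc q hq _
          · rw [hq]
          · rw [hq]; exact h.comm a
        · rw [hp]
          rcases key q hq with hq | hq | hq
          · exact hc q hq _
          · rw [hq]; exact (h.comm a).symm
          · rw [hq])
      exact Subtype.ext_iff.1 (mul_comm' (⟨z, hUc hz⟩ : closure ((V : Set T) ∪ {a, ρ a})) ⟨w, hUc hw⟩)
    exact hab x (hall x) y (hall y)
  refine ⟨⟨b, hb⟩, ?_⟩
  clear hb b
  intro b hb
  -- the commutators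
  obtain ⟨E, hE, he⟩ := H.exists_swap a b
  obtain ⟨F, hF, hf⟩ := H.exists_swap (ρ a) b
  obtain ⟨F2, hF2, hf2⟩ := H.exists_swap a (ρ b)
  have hr : ρ b * ρ a = ρ a * ρ b * ρ E := by rw [← map_mul, he, map_mul, map_mul]
  -- `ρ (a b)` commutes with `a b`
  have hFF : F2 = F := by
    have e := h.comm (a * b)
    rw [map_mul] at e
    have eL : a * b * (ρ a * ρ b) = a * ρ a * b * ρ b * F := by
      calc a * b * (ρ a * ρ b) = a * (b * ρ a) * ρ b := by group
        _ = a * ρ a * b * (F * ρ b) := by rw [hf]; group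
        _ = _ := by rw [hcl F hF]; group
    have eR : ρ a * ρ b * (a * b) = a * ρ a * b * ρ b * F2 := by
      calc ρ a * ρ b * (a * b) = ρ a * (ρ b * a) * b := by group
        _ = (ρ a * a) * ρ b * (F2 * b) := by rw [hf2]; group
        _ = (ρ a * a) * (ρ b * b) * F2 := by rw [hcl F2 hF2]; group
        _ = _ := by rw [← h.comm a, ← h.comm b]; group
    exact (mul_left_cancel (eR.symm.trans (e.symm.trans eL)))
  subst F2
  -- `F = ρ² E`
  have hFE : F = ρ (ρ E) := by
    have h3 : ρ (ρ b) * ρ a = ρ a * ρ (ρ b) * ρ F := by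
      rw [← map_mul, hf2, map_mul, map_mul]
    have h4 : ρ (ρ b) * ρ a = ρ a * ρ (ρ b) * (F * ρ E) := by
      rw [h.rho_sq b, mul_inv_rev]
      have swap : ∀ x y c, c ∈ V → x * y = y * x * c → x⁻¹ * y = y * x⁻¹ * c := by
        intro x y c hcV e
        calc x⁻¹ * y = x⁻¹ * (y * x * c) * c⁻¹ * x⁻¹ := by group
          _ = y * (c⁻¹ * x⁻¹) := by rw [← e]; group
          _ = _ := by rw [hexp c hcV, hcl c hcV, mul_assoc]
      have i1 : b⁻¹ * ρ a = ρ a * b⁻¹ * F := swap _ _ _ hF hf
      have i2 : (ρ b)⁻¹ * ρ a = ρ a * (ρ b)⁻¹ * ρ E := swap _ _ _ (hV.inv E hE) hr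
      calc (ρ b)⁻¹ * b⁻¹ * ρ a = (ρ b)⁻¹ * (b⁻¹ * ρ a) := mul_assoc _ _ _
        _ = ((ρ b)⁻¹ * ρ a) * (b⁻¹ * F) := by rw [i1]; group
        _ = ρ a * (ρ b)⁻¹ * (ρ E * (b⁻¹ * F)) := by rw [i2]; group
        _ = _ := by
          rw [← mul_assoc (ρ E), hcl _ (hV.inv E hE) b⁻¹, mul_assoc b⁻¹, hcl F hF (ρ E)]
          group
    have h5 : ρ F = F * ρ E := mul_left_cancel (h3.symm.trans h4)
    have h6 : ρ (ρ F) = ρ E := by
      rw [h.rho_sq F, h5, ← mul_assoc, hV.sq F hF, one_mul, hexp _ (hV.inv E hE)]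
    have := congrArg ρ h6
    rwa [h.cube] at this
  rw [hFE] at hf hf2
  refine ⟨E, hE, ?_, he, hf, hf2, hr, hgen b hb⟩
  intro hE1
  obtain ⟨x, y, hxy⟩ := H.nonab
  apply hxy
  rw [hE1, map_one, map_one] at hf hf2
  rw [hE1, map_one] at hr
  rw [hE1] at he
  rw [mul_one] at he hf hf2 hr
  haveI : IsMulCommutative (closure ((V : Set T) ∪ {a, ρ a, b, ρ b})) := Subgroup.isMulCommutative_closure (by
    have key : ∀ p ∈ ((V : Set T) ∪ {a, ρ a, b, ρ b}), p ∈ V ∨ p = a ∨ p = ρ a ∨ p = b ∨ p = ρ b := by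
      intro p hp; simp at hp; tauto
    intro p hp q hq
    rcases key p hp with hp | hp | hp | hp | hp
    · exact hcl p hp q
    all_goals rcases key q hq with hq | hq | hq | hq | hq
    all_goals try exact hc q hq _
    all_goals rw [hp, hq]
    exacts [h.comm a, he.symm, hf2.symm, (h.comm a).symm, hf.symm, hr.symm, he, hf, h.comm b, hf2, hr, (h.comm b).symm])
  have hmem : ∀ z, z ∈ closure ((V : Set T) ∪ {a, ρ a, b, ρ b}) := fun z => by rw [hgen b hb]; trivial
  exact Subtype.ext_iff.1 (mul_comm' (⟨x, hmem x⟩ : closure ((V : Set T) ∪ {a, ρ a, b, ρ b})) ⟨y, hmem y⟩)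

theorem exists_gens [Finite T] (H : Hyp64 ρ V) :
    Nonempty (Gens (T := T) false) ∧ (∃ x, x ∉ V ∧ x * x = 1) ∨
    Nonempty (Gens (T := T) true) ∧ ¬ (∃ x, x ∉ V ∧ x * x = 1) := by
  classical
  have h := H.fpf
  have hV := H.four
  have hc := hV.central
  have hcl : ∀ v ∈ V, ∀ x, v * x = x * v := fun v hv x => (hc v hv x).symm
  have hexp : ∀ v ∈ V, v⁻¹ = v := fun v hv => hV.inv_self hv
  have step := H.step
  -- change of the second generator
  have shift : ∀ (a b E u : T), a * u = u * a → b * a = a * b * E → E ∈ V →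
      (b * u) * a = a * (b * u) * E := by
    intro a b E u hu he hE
    rw [mul_assoc, ← hu, ← mul_assoc, he, mul_assoc (a * b), hcl E hE u]; group
  -- build the record
  have mk : ∀ (s : Bool) (a b E : T), a ∉ V → E ∈ V → E ≠ 1 → b * a = a * b * E →
      b * ρ a = ρ a * b * ρ (ρ E) → ρ b * a = a * ρ b * ρ (ρ E) → ρ b * ρ a = ρ a * ρ b * ρ E →
      closure ((V : Set T) ∪ {a, ρ a, b, ρ b}) = ⊤ →
      a * a = (if s then E else 1) → b * b = (if s then ρ E else 1) → Nonempty (Gens (T := T) s) := by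
    intro s a b E ha hE hE1 he hf hf2 hr hgen haa hbb
    have e2 : ρ (ρ E) = E * ρ E := by
      rw [h.rho_sq, mul_inv_rev, hexp E hE, hexp _ (hV.inv E hE), hcl _ (hV.inv E hE)]
    rw [e2] at hf hf2
    refine ⟨{ a := a, a' := ρ a, b := b, b' := ρ b, e := E, e' := ρ E
              cent := hcl E hE, cent' := hcl _ (hV.inv E hE), ee := hV.sq E hE,
              ee' := hV.sq _ (hV.inv E hE), aa := haa
              aa' := by rw [← map_mul, haa]; cases s <;> simp
              bb := hbb
              bb' := by rw [← map_mul, hbb]; cases s <;> simp [e2]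
              a'a := (h.comm a).symm, b'b := (h.comm b).symm
              ba := he, ba' := hf, b'a := hf2, b'a' := hr, gen := ?_, card := H.card }⟩
    rw [← top_le_iff, ← hgen, closure_le]
    intro z hz
    simp only [Set.mem_union, SetLike.mem_coe, Set.mem_insert_iff, Set.mem_singleton_iff] at hz
    rcases hz with hz | hz
    · have hEm : E ∈ closure ({a, ρ a, b, ρ b, E, ρ E} : Set T) := subset_closure (by simp)
      have hEm' : ρ E ∈ closure ({a, ρ a, b, ρ b, E, ρ E} : Set T) := subset_closure (by simp)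
      rcases hV.cases h hE hE1 hz with rfl | rfl | rfl | rfl
      · exact one_mem _
      · exact hEm
      · exact hEm'
      · rw [e2]; exact mul_mem hEm hEm'
    · exact subset_closure (by simp only [Set.mem_insert_iff, Set.mem_singleton_iff]; tauto)
  by_cases hinv : ∃ x, x ∉ V ∧ x * x = 1
  · refine Or.inl ⟨?_, hinv⟩
    obtain ⟨a, ha, haa⟩ := hinv
    obtain ⟨⟨b₀, hb₀⟩, hstep⟩ := step a ha
    obtain ⟨E₀, hE₀, hE₀1, he₀, hf₀, hf₀', -, -⟩ := hstep b₀ hb₀
    have hr₀ := hV.inv _ hE₀
    -- a correcting element `u` of `U` turning the square of `b₀` to one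
    obtain ⟨u, huU, hu⟩ : ∃ u ∈ V ⊔ closure {a, ρ a}, (b₀ * u) * (b₀ * u) = 1 := by
      have haU : a ∈ V ⊔ closure {a, ρ a} := le_sup_right (a := V) (subset_closure (by simp))
      have hraU : ρ a ∈ V ⊔ closure {a, ρ a} := le_sup_right (a := V) (subset_closure (by simp))
      have sqmul : ∀ u C, C ∈ V → b₀ * u = u * b₀ * C → (b₀ * u) * (b₀ * u) = (b₀ * b₀) * (u * u) * C := by
        intro u C hC e
        have e' : u * b₀ = b₀ * u * C := by
          rw [e, mul_assoc (u * b₀), hV.sq C hC, mul_one]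
        calc (b₀ * u) * (b₀ * u) = b₀ * (u * b₀) * u := by group
          _ = b₀ * b₀ * u * (C * u) := by rw [e']; group
          _ = _ := by rw [hcl C hC u]; group
      rcases hV.cases h hE₀ hE₀1 (H.sq_mem b₀) with hB | hB | hB | hB
      · exact ⟨1, one_mem _, by rw [mul_one, hB]⟩
      · refine ⟨a, haU, ?_⟩
        rw [sqmul a E₀ hE₀ he₀, haa, mul_one, hB, hV.sq _ hE₀]
      · refine ⟨a * ρ a, mul_mem haU hraU, ?_⟩
        have hC : b₀ * (a * ρ a) = a * ρ a * b₀ * ρ E₀ := by
          have e2 : ρ (ρ E₀) = E₀ * ρ E₀ := by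
            rw [h.rho_sq, mul_inv_rev, hexp _ hE₀, hexp _ hr₀, hcl _ hr₀]
          calc b₀ * (a * ρ a) = a * b₀ * (E₀ * ρ a) := by rw [← mul_assoc, he₀]; group
            _ = a * (b₀ * ρ a) * E₀ := by rw [hcl _ hE₀]; group
            _ = a * ρ a * b₀ * (ρ (ρ E₀) * E₀) := by rw [hf₀]; group
            _ = _ := by rw [e2, mul_assoc E₀ (ρ E₀) E₀, hcl _ hr₀ E₀, ← mul_assoc E₀ E₀, hV.sq _ hE₀, one_mul]
        rw [sqmul _ _ hr₀ hC, show (a * ρ a) * (a * ρ a) = (a * a) * ρ (a * a) by
          rw [map_mul, mul_assoc a (ρ a), ← mul_assoc (ρ a) a, ← h.comm a]; group, haa, map_one,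
          mul_one, mul_one, hB, hV.sq _ hr₀]
      · refine ⟨ρ a, hraU, ?_⟩
        rw [sqmul _ _ (hV.inv _ hr₀) hf₀, ← map_mul, haa, map_one, mul_one, hB,
          hV.sq _ (hV.inv _ hr₀)]
    have hb : b₀ * u ∉ V ⊔ closure {a, ρ a} := fun e => hb₀ (by
      have := mul_mem e (inv_mem huU)
      rwa [mul_inv_cancel_right] at this)
    obtain ⟨E, hE, hE1, he, hf, hf', hr, hgen⟩ := hstep _ hb
    exact mk false a (b₀ * u) E ha hE hE1 he hf hf' hr hgen (by simpa using haa) (by simpa using hu)
  · refine Or.inr ⟨?_, hinv⟩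
    push Not at hinv
    obtain ⟨a, ha⟩ : ∃ a, a ∉ V := by
      by_contra hall
      push Not at hall
      obtain ⟨x, y, hxy⟩ := H.nonab
      exact hxy (hc y (hall y) x)
    obtain ⟨⟨b₀, hb₀⟩, hstep⟩ := step a ha
    obtain ⟨E₀, hE₀, hE₀1, he₀, hf₀, hf₀', -, -⟩ := hstep b₀ hb₀
    have hA := H.sq_mem a
    have hA1 : a * a ≠ 1 := hinv a ha
    set U := V ⊔ closure {a, ρ a} with hU
    have haU : a ∈ U := le_sup_right (a := V) (subset_closure (by simp))
    have hraU : ρ a ∈ U := le_sup_right (a := V) (subset_closure (by simp))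
    have hUinv : ∀ x ∈ U, ρ x ∈ U := by
      have : U ≤ U.comap ρ.toMonoidHom := by
        refine sup_le (fun v hv => le_sup_left (b := closure {a, ρ a}) (hV.inv v hv)) ((closure_le _).2 ?_)
        intro x hx
        simp only [Set.mem_insert_iff, Set.mem_singleton_iff] at hx
        rcases hx with rfl | rfl
        · exact hraU
        · show ρ (ρ a) ∈ U
          rw [h.rho_sq]
          exact U.inv_mem (U.mul_mem haU hraU)
      exact fun x hx => this hx
    have hrot : ∀ b, b ∉ U → ρ b ∉ U := fun b hb e => hb (by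
      have := hUinv _ (hUinv _ e)
      rwa [h.cube] at this)
    -- arrange `[a, b] = a²`
    obtain ⟨b, hb, hbE⟩ : ∃ b, b ∉ U ∧ b * a = a * b * (a * a) := by
      rcases hV.cases h hE₀ hE₀1 hA with hB | hB | hB | hB
      · exact absurd hB hA1
      · exact ⟨b₀, hb₀, by rw [hB]; exact he₀⟩
      · refine ⟨ρ (ρ b₀), hrot _ (hrot _ hb₀), ?_⟩
        obtain ⟨Ep, hEp, -, hep, -, hfp, -, -⟩ := hstep (ρ b₀) (hrot _ hb₀)
        have : Ep = ρ (ρ E₀) := mul_left_cancel (hep.symm.trans hf₀')
        rw [this, h.cube] at hfp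
        rw [hB]; exact hfp
      · refine ⟨ρ b₀, hrot _ hb₀, ?_⟩
        rw [hB]; exact hf₀'
    obtain ⟨E, hE, hE1, he, hf, hf', hr, hgen⟩ := hstep b hb
    have hEA : E = a * a := mul_left_cancel (he.symm.trans hbE)
    have hB1 : b * b ≠ 1 := hinv b fun e => hb (le_sup_left (b := closure {a, ρ a}) e)
    have hrE := hV.inv _ hE
    have hrrE := hV.inv _ hrE
    have hbr : b * ρ a ∉ U := fun e => hb (by
      have := U.mul_mem e (U.inv_mem hraU)
      rwa [mul_inv_cancel_right] at this)
    have hsq : b * ρ a * (b * ρ a) = (b * b) * (ρ E * ρ (ρ E)) := by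
      calc b * ρ a * (b * ρ a) = ρ a * b * (ρ (ρ E) * b) * ρ a := by nth_rewrite 1 [hf]; group
        _ = ρ a * (b * b) * ρ (ρ E) * ρ a := by rw [hcl _ hrrE]; group
        _ = (b * b) * (ρ (ρ E) * (ρ a * ρ a)) := by
          rw [hc _ (H.sq_mem b) (ρ a), mul_assoc (b * b * ρ a), hcl _ hrrE (ρ a),
            hcl _ hrrE (ρ a * ρ a)]; group
        _ = _ := by rw [← map_mul, ← hEA, hcl _ hrrE]
    -- correct the square of `b`
    rcases hV.cases h hE hE1 (H.sq_mem b) with hB | hB | hB | hB
    · exact absurd hB hB1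
    · exfalso
      refine hinv (b * ρ a) (fun e => hbr (le_sup_left (b := closure {a, ρ a}) e)) ?_
      rw [hsq, hB, ← mul_assoc, h.norm]
    · exact mk true a b E ha hE hE1 he hf hf' hr hgen (by simp [hEA]) (by simp [hB])
    · obtain ⟨En, hEn, hEn1, hen, hfn, hfn', hrn, hgenn⟩ := hstep _ hbr
      have : En = E := mul_left_cancel (hen.symm.trans (shift a b E (ρ a) (h.comm a) he hE))
      subst En
      refine mk true a (b * ρ a) E ha hE hE1 hen hfn hfn' hrn hgenn (by simp [hEA]) ?_
      rw [if_pos rfl, hsq, hB, hcl _ hrE, ← mul_assoc, hV.sq _ hrrE, one_mul]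

end Hyp64

end Cfsg.Lib.TwoFour
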