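import Cfsg.Agent.Lib.TwoFour.Class64
import Cfsg.Agent.Lib.U3Even.Sylow
import Cfsg.Agent.Lib.Linear.SLBasic

/-!
# Sylow 2-subgroups of `PSL₃(4)` and `PSU₃(4)` in the two classes of order 64
-/

set_option autoImplicit false
set_option linter.style.haveILetI false

namespace Cfsg.Lib.TwoFour

open Subgroup Matrix

variable {T : Type*} [Group T]

/-- The two classes are isomorphism classes. -/
theorem Hyp64.nonempty_mulEquiv [Finite T] {T' : Type*} [Group T'] [Finite T'] {ρ : T ≃* T}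
    {V : Subgroup T} (H : Hyp64 ρ V) {ρ' : T' ≃* T'} {V' : Subgroup T'} (H' : Hyp64 ρ' V')
    (hiff : (∃ x, x ∉ V ∧ x * x = 1) ↔ (∃ x, x ∉ V' ∧ x * x = 1)) : Nonempty (T ≃* T') := by
  rcases H.exists_gens with ⟨⟨G⟩, hx⟩ | ⟨⟨G⟩, hx⟩ <;> rcases H'.exists_gens with ⟨⟨G'⟩, hx'⟩ | ⟨⟨G'⟩, hx'⟩
  · exact G.nonempty_mulEquiv G'
  · exact absurd (hiff.1 hx) hx'
  · exact absurd (hiff.2 hx') hx
  · exact G.nonempty_mulEquiv G'

/-- A cube root of unity. -/
theorem exists_cube_root {F : Type*} [Field F] [Fintype F] (h : 3 ∣ Fintype.card F - 1) :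
    ∃ l : F, l * l * l = 1 ∧ l ≠ 1 ∧ l ≠ 0 := by
  classical
  haveI : Fact (Nat.Prime 3) := ⟨Nat.prime_three⟩
  obtain ⟨u, hu⟩ := exists_prime_orderOf_dvd_card' (G := Fˣ) 3
    (by rw [Nat.card_eq_fintype_card, Fintype.card_units]; exact h)
  refine ⟨u, ?_, fun e => ?_, u.ne_zero⟩
  · have := congrArg Units.val (pow_orderOf_eq_one u)
    rw [hu, Units.val_pow_eq_pow_val, pow_three, Units.val_one] at this
    rw [mul_assoc]; exact this
  · rw [Units.ext (e.trans Units.val_one.symm), orderOf_one] at hu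
    omega

section Unitary

/-- The Sylow 2-subgroups of `PSU₃(4)`. -/
theorem hyp64_psu [Finite T] {F : Type*} [Field F] [Fintype F] (hF : Fintype.card F = 16)
    (c : Cfsg.Lib.U3Even.Coords F (2 ^ 2) T) :
    ∃ (ρ : T ≃* T) (V : Subgroup T), Hyp64 ρ V ∧ ¬ ∃ x, x ∉ V ∧ x * x = 1 := by
  have hn : (1 : ℕ) ≤ 2 := by norm_num
  have hF' : Fintype.card F = (2 ^ 2) ^ 2 := by rw [hF]; norm_num
  haveI := Cfsg.Lib.U3Even.charP_two hn hF'
  obtain ⟨l, hl, hl1, hl0⟩ := exists_cube_root (F := F) (by rw [hF]; norm_num)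
  have hl4 : l ^ (2 ^ 2) = l := by
    show l ^ 4 = l
    linear_combination l * hl
  have hex : ∀ g : T, ∃ g' : T, c.A g' = l * c.A g ∧ c.B g' = l * l * c.B g := fun g =>
    c.exists_mk _ _ (by
      have e := c.cond g
      rw [pow_succ (c.A g)] at e
      rw [mul_pow (l * l), mul_pow l l, hl4, pow_succ (l * c.A g), mul_pow l, hl4]
      linear_combination (l * l) * e)
  choose f hfA hfB using hex
  have hmul : ∀ g h, f (g * h) = f g * f h := fun g h => c.inj _ _
    (by rw [hfA, c.A_mul, c.A_mul, hfA, hfA]; ring)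
    (by rw [hfB, c.B_mul, c.B_mul, hfB, hfB, hfA, hfA, mul_pow, hl4]; ring)
  have hcube : ∀ g, f (f (f g)) = g := fun g => c.inj _ _
    (by rw [hfA, hfA, hfA]; linear_combination c.A g * hl)
    (by rw [hfB, hfB, hfB]; linear_combination (c.B g * (l * l * l + 1)) * hl)
  let ρ : T ≃* T :=
    { toFun := f, invFun := fun g => f (f g), left_inv := hcube, right_inv := hcube, map_mul' := hmul }
  let V : Subgroup T :=
    { carrier := {g | c.A g = 0}
      one_mem' := c.A_one hn hF'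
      mul_mem' := fun {a b} ha hb => by
        simp only [Set.mem_setOf_eq] at ha hb ⊢; rw [c.A_mul, ha, hb, add_zero]
      inv_mem' := fun {a} ha => by simp only [Set.mem_setOf_eq] at ha ⊢; rw [c.A_inv hn hF', ha] }
  have hV : V = Subgroup.center T := Subgroup.ext fun g => (c.mem_center_iff hn hF' g).symm
  have hll : l * l ≠ 1 := fun e => hl1 (by linear_combination hl - l * e)
  refine ⟨ρ, V, ⟨⟨hcube, ?_⟩, ⟨?_, ?_, ?_, ?_⟩, ?_, ?_, ?_⟩, ?_⟩
  · intro g hg
    have hA : l * c.A g = c.A g := (hfA g).symm.trans (congrArg c.A hg)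
    have hB : l * l * c.B g = c.B g := (hfB g).symm.trans (congrArg c.B hg)
    refine c.inj _ _ ?_ ?_
    · rw [c.A_one hn hF']
      by_contra hne
      exact hl1 (mul_right_cancel₀ hne (hA.trans (one_mul _).symm))
    · rw [c.B_one hn hF']
      by_contra hne
      exact hll (mul_right_cancel₀ hne (hB.trans (one_mul _).symm))
  · rw [hV, c.card_center hn hF']; norm_num
  · exact fun v hv => (c.A_eq_zero_iff hn hF' v).1 hv
  · intro v hv x
    rw [hV] at hv
    exact Subgroup.mem_center_iff.1 hv x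
  · intro v hv
    show c.A (f v) = 0
    rw [hfA, show c.A v = 0 from hv, mul_zero]
  · rw [c.card_eq hn hF']; norm_num
  · exact fun x => c.A_sq hn hF' x
  · by_contra hall
    push Not at hall
    have h1 : Subgroup.center T = ⊤ := (Subgroup.eq_top_iff' _).2 fun x =>
      Subgroup.mem_center_iff.2 fun y => hall y x
    have h2 := c.card_center hn hF'
    rw [h1, Subgroup.card_top, c.card_eq hn hF'] at h2
    norm_num at h2
  · rintro ⟨x, hxV, hx⟩
    exact hxV ((c.A_eq_zero_iff hn hF' x).2 hx)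

end Unitary

section Linear

variable {F : Type*} [Field F]

/-- upper unitriangular matrices -/
def tri (x y z : F) : Matrix.SpecialLinearGroup (Fin 3) F :=
  ⟨!![1, x, z; 0, 1, y; 0, 0, 1], by simp [Matrix.det_fin_three]⟩

theorem tri_mul (x y z x' y' z' : F) :
    tri x y z * tri x' y' z' = tri (x + x') (y + y') (z + z' + x * y') := by
  apply Subtype.ext
  show !![1, x, z; 0, 1, y; 0, 0, 1] * !![1, x', z'; 0, 1, y'; 0, 0, 1] = _
  ext i j
  fin_cases i <;> fin_cases j <;> simp [tri, Matrix.mul_apply, Fin.sum_univ_three] <;> ring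

theorem tri_zero : tri (0 : F) 0 0 = 1 := by
  apply Subtype.ext
  ext i j
  fin_cases i <;> fin_cases j <;> simp [tri]

/-- the image in the projective group -/
def ptri (x y z : F) : Matrix.ProjectiveSpecialLinearGroup (Fin 3) F :=
  (tri x y z : Matrix.SpecialLinearGroup (Fin 3) F)

theorem ptri_mul (x y z x' y' z' : F) :
    ptri x y z * ptri x' y' z' = ptri (x + x') (y + y') (z + z' + x * y') := by
  rw [ptri, ptri, ptri, ← tri_mul]; rfl

theorem ptri_zero : ptri (0 : F) 0 0 = 1 := by rw [ptri, tri_zero]; rfl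

theorem ptri_inj {x y z x' y' z' : F} (e : ptri x y z = ptri x' y' z') : x = x' ∧ y = y' ∧ z = z' := by
  rw [ptri, ptri, QuotientGroup.eq, Matrix.SpecialLinearGroup.mem_center_iff] at e
  obtain ⟨r, -, hr⟩ := e
  have hinv : (tri x y z)⁻¹ = tri (-x) (-y) (-z + x * y) := inv_eq_of_mul_eq_one_right (by
    rw [tri_mul, ← tri_zero]; congr 1 <;> ring)
  rw [hinv, tri_mul] at hr
  have e00 := congrFun (congrFun hr 0) 0
  have e01 := congrFun (congrFun hr 0) 1
  have e02 := congrFun (congrFun hr 0) 2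
  have e12 := congrFun (congrFun hr 1) 2
  simp [tri] at e00 e01 e02 e12
  have h1 : x = x' := by linear_combination e01
  have h2 : y = y' := by linear_combination e12
  subst h1; subst h2
  exact ⟨rfl, rfl, by linear_combination e02⟩

variable [Fintype F]

/-- The Sylow 2-subgroups of `PSL₃(4)`. -/
theorem hyp64_psl (hF : Fintype.card F = 4)
    (P : Sylow 2 (Matrix.ProjectiveSpecialLinearGroup (Fin 3) F)) :
    ∃ (ρ : (P : Subgroup (Matrix.ProjectiveSpecialLinearGroup (Fin 3) F)) ≃*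
        (P : Subgroup (Matrix.ProjectiveSpecialLinearGroup (Fin 3) F)))
      (V : Subgroup (P : Subgroup (Matrix.ProjectiveSpecialLinearGroup (Fin 3) F))),
      Hyp64 ρ V ∧ ∃ x, x ∉ V ∧ x * x = 1 := by
  classical
  haveI : Fact (Nat.Prime 2) := ⟨Nat.prime_two⟩
  haveI : CharP F 2 := by
    refine (CharP.charP_iff_prime_eq_zero Nat.prime_two).2 ?_
    have h := Nat.cast_card_eq_zero F
    rw [hF] at h
    have h4 : (2 : F) ^ 2 = 0 := by rw [← h]; norm_num
    simpa using h4
  have two0 : ∀ x : F, x + x = 0 := fun x => CharTwo.add_self_eq_zero x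
  let U : Subgroup (Matrix.ProjectiveSpecialLinearGroup (Fin 3) F) :=
    { carrier := {g | ∃ x y z : F, ptri x y z = g}
      one_mem' := ⟨0, 0, 0, ptri_zero⟩
      mul_mem' := by rintro _ _ ⟨x, y, z, rfl⟩ ⟨x', y', z', rfl⟩; exact ⟨_, _, _, (ptri_mul ..).symm⟩
      inv_mem' := by
        rintro _ ⟨x, y, z, rfl⟩
        refine ⟨-x, -y, -z + x * y, (inv_eq_of_mul_eq_one_right ?_).symm⟩
        rw [ptri_mul, ← ptri_zero]; congr 1 <;> ring }
  have hbij : Function.Bijective (fun p : F × F × F => (⟨ptri p.1 p.2.1 p.2.2, _, _, _, rfl⟩ : U)) := by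
    refine ⟨fun p q e => ?_, ?_⟩
    · obtain ⟨h1, h2, h3⟩ := ptri_inj (congrArg Subtype.val e)
      exact Prod.ext h1 (Prod.ext h2 h3)
    · rintro ⟨g, x, y, z, rfl⟩
      exact ⟨(x, y, z), rfl⟩
  have hU : Nat.card U = 64 := by
    rw [← Nat.card_eq_of_bijective _ hbij, Nat.card_prod, Nat.card_prod, Nat.card_eq_fintype_card, hF]
  obtain ⟨Q, hQ⟩ := (IsPGroup.of_card (p := 2) (n := 6) (hU.trans (by norm_num)) : IsPGroup 2 U).exists_le_sylow
  have hQU : U = Q := by
    refine Subgroup.eq_of_le_of_card_ge hQ ?_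
    have hG : 3 * (3 * Nat.card (Matrix.ProjectiveSpecialLinearGroup (Fin 3) F)) = 181440 := by
      have h1 := Cfsg.Lib.Linear.card_SL_mul (F := F) 3 (by norm_num)
      rw [Cfsg.Lib.Linear.card_SL_eq_gcd_mul_card_PSL, hF, Fintype.card_fin] at h1
      simp [Fin.prod_univ_three] at h1
      rw [Nat.card_eq_fintype_card]
      exact h1
    obtain ⟨k, hk⟩ := IsPGroup.iff_card.1 Q.isPGroup'
    have hdvd : 2 ^ k ∣ 64 * 315 := by
      have := Subgroup.card_subgroup_dvd_card (Q : Subgroup (Matrix.ProjectiveSpecialLinearGroup (Fin 3) F))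
      rw [hk] at this
      rwa [show Nat.card (Matrix.ProjectiveSpecialLinearGroup (Fin 3) F) = 64 * 315 by omega] at this
    have := Nat.le_of_dvd (by norm_num) ((Nat.Coprime.pow_left k (by norm_num : Nat.Coprime 2 315)).dvd_of_dvd_mul_right hdvd)
    rw [hU, hk]
    exact this
  let φ := (Sylow.equiv P Q).trans (MulEquiv.subgroupCongr hQU.symm)
  have hex : ∀ g : (P : Subgroup (Matrix.ProjectiveSpecialLinearGroup (Fin 3) F)), ∃ p : F × F × F,
      ptri p.1 p.2.1 p.2.2 = (φ g : Matrix.ProjectiveSpecialLinearGroup (Fin 3) F) := fun g =>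
    ⟨⟨(φ g).2.choose, (φ g).2.choose_spec.choose, (φ g).2.choose_spec.choose_spec.choose⟩,
      (φ g).2.choose_spec.choose_spec.choose_spec⟩
  choose co hco using hex
  have hinj : ∀ g h, co g = co h → g = h := fun g h e =>
    φ.injective (Subtype.ext (by rw [← hco, ← hco, e]))
  have hsurj : ∀ p : F × F × F, ∃ g, co g = p := fun p => by
    refine ⟨φ.symm ⟨ptri p.1 p.2.1 p.2.2, _, _, _, rfl⟩, ?_⟩
    have := hco (φ.symm ⟨ptri p.1 p.2.1 p.2.2, _, _, _, rfl⟩)
    rw [φ.apply_symm_apply] at this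
    obtain ⟨h1, h2, h3⟩ := ptri_inj this
    exact Prod.ext h1 (Prod.ext h2 h3)
  have hmul : ∀ g h, (co (g * h)).1 = (co g).1 + (co h).1 ∧ (co (g * h)).2.1 = (co g).2.1 + (co h).2.1 ∧
      (co (g * h)).2.2 = (co g).2.2 + (co h).2.2 + (co g).1 * (co h).2.1 := fun g h =>
    ptri_inj (by rw [hco, map_mul, Subgroup.coe_mul, ← hco, ← hco, ptri_mul])
  have hone : co 1 = (0, 0, 0) := by
    have := hco 1
    rw [map_one, Subgroup.coe_one, ← ptri_zero] at this
    obtain ⟨h1, h2, h3⟩ := ptri_inj this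
    exact Prod.ext h1 (Prod.ext h2 h3)
  obtain ⟨l, hl, hl1, hl0⟩ := exists_cube_root (F := F) (by rw [hF])
  choose mkg hmkg using hsurj
  let f := fun g => mkg (l * (co g).1, l * (co g).2.1, l * l * (co g).2.2)
  have hf : ∀ g, co (f g) = (l * (co g).1, l * (co g).2.1, l * l * (co g).2.2) := fun g => hmkg _
  have hcube : ∀ g, f (f (f g)) = g := fun g => hinj _ _ (by
    rw [hf, hf, hf]
    refine Prod.ext ?_ (Prod.ext ?_ ?_) <;> simp only
    · linear_combination (co g).1 * hl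
    · linear_combination (co g).2.1 * hl
    · linear_combination ((co g).2.2 * (l * l * l + 1)) * hl)
  have hfmul : ∀ g h, f (g * h) = f g * f h := fun g h => hinj _ _ (by
    obtain ⟨a1, a2, a3⟩ := hmul g h
    obtain ⟨b1, b2, b3⟩ := hmul (f g) (f h)
    refine Prod.ext ?_ (Prod.ext ?_ ?_)
    · rw [b1, hf, hf, hf, a1]; ring
    · rw [b2, hf, hf, hf, a2]; ring
    · rw [b3, hf, hf, hf, a3]; ring)
  let V : Subgroup (P : Subgroup (Matrix.ProjectiveSpecialLinearGroup (Fin 3) F)) :=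
    { carrier := {g | (co g).1 = 0 ∧ (co g).2.1 = 0}
      one_mem' := by simp [hone]
      mul_mem' := fun {a b} ha hb => by
        obtain ⟨a1, a2, -⟩ := hmul a b
        exact ⟨by rw [a1, ha.1, hb.1, add_zero], by rw [a2, ha.2, hb.2, add_zero]⟩
      inv_mem' := fun {a} ha => by
        obtain ⟨a1, a2, -⟩ := hmul a a⁻¹
        rw [mul_inv_cancel, hone] at a1 a2
        simp only [ha.1, ha.2, zero_add] at a1 a2
        exact ⟨a1.symm, a2.symm⟩ }
  have hsq : ∀ g, g * g ∈ V := fun g => by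
    obtain ⟨a1, a2, -⟩ := hmul g g
    exact ⟨a1.trans (two0 _), a2.trans (two0 _)⟩
  have hll : l * l ≠ 1 := fun e => hl1 (by linear_combination hl - l * e)
  refine ⟨{ toFun := f, invFun := fun g => f (f g), left_inv := hcube, right_inv := hcube, map_mul' := hfmul },
    V, ⟨⟨hcube, ?_⟩, ⟨?_, ?_, ?_, ?_⟩, ?_, hsq, ?_⟩, ?_⟩
  · intro g hg
    have h := (hf g).symm.trans (congrArg co hg)
    simp only [Prod.ext_iff] at h
    refine hinj _ _ (hone ▸ Prod.ext ?_ (Prod.ext ?_ ?_))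
    · exact mul_left_eq_self₀.1 (by rw [h.1]) |>.resolve_left hl1
    · exact mul_left_eq_self₀.1 (by rw [h.2.1]) |>.resolve_left hl1
    · exact mul_left_eq_self₀.1 (by rw [h.2.2]) |>.resolve_left hll
  · rw [← hF, ← Nat.card_eq_fintype_card]
    exact (Nat.card_eq_of_bijective (fun z : F => (⟨mkg (0, 0, z), by
      show (co _).1 = 0 ∧ (co _).2.1 = 0
      rw [hmkg]; exact ⟨rfl, rfl⟩⟩ : V))
      ⟨fun a b e => by
        have := congrArg co (congrArg Subtype.val e)
        simpa [hmkg] using this,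
      fun v => ⟨(co v.1).2.2, Subtype.ext (hinj _ _ (by
        rw [hmkg]; exact Prod.ext v.2.1.symm (Prod.ext v.2.2.symm rfl)))⟩⟩).symm
  · intro v hv
    obtain ⟨a1, a2, a3⟩ := hmul v v
    exact hinj _ _ (by rw [hone]; exact Prod.ext (a1.trans (two0 _)) (Prod.ext (a2.trans (two0 _))
      (a3.trans (by rw [hv.1, zero_mul, add_zero]; exact two0 _))))
  · intro v hv x
    obtain ⟨a1, a2, a3⟩ := hmul x v
    obtain ⟨b1, b2, b3⟩ := hmul v x
    refine hinj _ _ (Prod.ext (by rw [a1, b1]; ring) (Prod.ext (by rw [a2, b2]; ring) ?_))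
    rw [a3, b3, hv.1, hv.2]; ring
  · intro v hv
    show (co (f v)).1 = 0 ∧ (co (f v)).2.1 = 0
    rw [hf]; simp [hv.1, hv.2]
  · rw [Nat.card_congr φ.toEquiv, hU]
  · refine ⟨mkg (1, 0, 0), mkg (0, 1, 0), fun e => ?_⟩
    have := congrArg (fun g => (co g).2.2) e
    simp [(hmul _ _).2.2, hmkg] at this
  · refine ⟨mkg (1, 0, 0), fun e => ?_, hinj _ _ ?_⟩
    · have := e.1
      simp [hmkg] at this
    · obtain ⟨a1, a2, a3⟩ := hmul (mkg (1, 0, 0)) (mkg (1, 0, 0))
      rw [hone]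
      refine Prod.ext (a1.trans (two0 _)) (Prod.ext (a2.trans (two0 _)) (a3.trans ?_))
      simp [hmkg]

end Linear

end Cfsg.Lib.TwoFour
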