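import Cfsg.Agent.Lib.TwoFour.Three

/-!
# 2-groups with exactly three involutions and a transitive automorphism: homocyclic or of order 64
-/

set_option autoImplicit false
set_option linter.style.haveILetI false

namespace Cfsg.Lib.TwoFour

open Subgroup

theorem rearr {A : Type*} [CommGroup A] {p q u v w : A} (h : p * w * (q * v * u) = 1) :
    u * v * w = p⁻¹ * q⁻¹ := by
  rw [← mul_inv, eq_inv_iff_mul_eq_one, ← h]
  ac_rfl

/-- On an abelian group: three commuting displacement maps permuted cyclically by a fixed-point-free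
automorphism, each with `δ² = -2δ`, sum trivial modulo fourth powers, have their images in fourth powers. -/
theorem image_fourth {A : Type*} [CommGroup A] (α : A ≃* A) (hn : ∀ x, x * α x * α (α x) = 1)
    (δ δ' δ'' : A →* A) (hsq : ∀ a, ∃ d, δ a = d ^ 2) (hid : ∀ a, δ (δ a) = (δ a ^ 2)⁻¹)
    (h' : ∀ a, δ' a = α (δ (α (α a)))) (h'' : ∀ a, δ'' a = α (α (δ (α a))))
    (hsum : ∀ a, ∃ q, δ a * δ' a * δ'' a = q ^ 4)
    (hom2 : ∀ x : A, x ^ 4 = 1 → ∃ c, x = c ^ 2) (hfix2 : ∀ x : A, (∃ c, x⁻¹ * α x = c ^ 2) → ∃ c, x = c ^ 2) :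
    ∀ a, ∃ q, δ a = q ^ 4 := by
  set A2 : Subgroup A := (powMonoidHom 2 : A →* A).range with hA2
  have mem2 : ∀ x, x ∈ A2 ↔ ∃ c, x = c ^ 2 := fun x => ⟨fun ⟨c, hc⟩ => ⟨c, hc.symm⟩, fun ⟨c, hc⟩ => ⟨c, hc.symm⟩⟩
  let π := QuotientGroup.mk' A2
  have hexp : ∀ x : A, π x * π x = 1 := fun x => by
    rw [← map_mul]; exact (QuotientGroup.eq_one_iff _).2 ((mem2 _).2 ⟨x, (pow_two x).symm⟩)
  have hinv : ∀ x : A, (π x)⁻¹ = π x := fun x => inv_eq_of_mul_eq_one_right (hexp x)
  have hπ0 : ∀ c : A, π (c ^ 2) = 1 := fun c => (QuotientGroup.eq_one_iff _).2 ((mem2 _).2 ⟨c, rfl⟩)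
  -- square roots modulo squares
  have sqinj : ∀ u v : A, (∃ q, u ^ 2 = v ^ 2 * q ^ 4) → π u = π v := by
    rintro u v ⟨q, hq⟩
    obtain ⟨c, hc⟩ := hom2 (u * v⁻¹ * (q ^ 2)⁻¹) (by
      have : (u * v⁻¹ * (q ^ 2)⁻¹) ^ 2 = 1 := by
        rw [mul_pow, mul_pow, hq, inv_pow, inv_pow, ← pow_mul, mul_inv_cancel_comm, mul_inv_cancel]
      rw [show (4 : ℕ) = 2 * 2 from rfl, pow_mul, this, one_pow])
    have e : u = c ^ 2 * q ^ 2 * v := by rw [← hc]; group
    rw [e, map_mul, map_mul, hπ0, hπ0, one_mul, one_mul]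
  have hαπ : ∀ u v : A, π u = π v → π (α u) = π (α v) := by
    intro u v e
    obtain ⟨c, hc⟩ := (mem2 _).1 (QuotientGroup.eq.1 e)
    refine QuotientGroup.eq.2 ((mem2 _).2 ⟨α c, ?_⟩)
    rw [← map_inv, ← map_mul, hc, map_pow]
  -- `δ a = d²` forces `δ d ≡ d²`
  have idem : ∀ a d e, δ a = d ^ 2 → δ d = e ^ 2 → π e = π d := by
    intro a d e ha hd
    have h1 := hid a
    rw [ha, map_pow, hd, ← pow_mul, ← pow_mul] at h1
    obtain ⟨c, hc⟩ := hom2 (e * d) (by rw [mul_pow, h1]; group)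
    rw [show π e = π (e * d) * (π d)⁻¹ by rw [map_mul, mul_inv_cancel_right], hc, hπ0, one_mul, hinv]
  intro a
  obtain ⟨d, hd⟩ := hsq a
  by_cases hd2 : π d = 1
  · obtain ⟨c, rfl⟩ := (mem2 _).1 ((QuotientGroup.eq_one_iff _).1 hd2)
    exact ⟨c, by rw [hd, ← pow_mul]⟩
  exfalso
  obtain ⟨e, he⟩ := hsq d
  have hed := idem a d e hd he
  obtain ⟨f, hf⟩ := hsq (α d)
  have hα2 : α (α d) = (d * α d)⁻¹ := (inv_eq_of_mul_eq_one_right (hn d)).symm
  have h2 : δ (α (α d)) = ((e * f) ^ 2)⁻¹ := by rw [hα2, map_inv, map_mul, he, hf, mul_pow]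
  obtain ⟨q, hq⟩ := hsum d
  rw [h', h'', h2, hf, he, map_inv, map_pow, map_pow, map_pow] at hq
  have h3 : π (e * α (α f)) = π (α (e * f)) := by
    refine sqinj _ _ ⟨q, ?_⟩
    rw [← hq, mul_pow]
    calc e ^ 2 * (α (α f)) ^ 2 = (α (e * f)) ^ 2 * ((e ^ 2 * ((α (e * f)) ^ 2)⁻¹) * (α (α f)) ^ 2) := by
          simp [mul_comm, mul_left_comm]
      _ = _ := rfl
  rw [map_mul, map_mul, map_mul] at h3
  -- the three conjugates of a class
  have h4 : ∀ x : A, π x * π (α x) * π (α (α x)) = 1 := fun x => by rw [← map_mul, ← map_mul, hn, map_one]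
  have hcomm : ∀ x y : A, π x * π y = π y * π x := fun x y => mul_comm _ _
  -- `f ≡ α² d`
  have h6 : π f = π (α (α d)) := by
    have e1 : π (α (α d)) = π d * π (α d) := by
      rw [← hinv (α (α d))]; exact inv_eq_of_mul_eq_one_left (h4 d)
    have e2 : π (α (α f)) = π f * π (α f) := by
      rw [← hinv (α (α f))]; exact inv_eq_of_mul_eq_one_left (h4 f)
    rw [hed, e2, hαπ e d hed] at h3
    have e3 : π d * π f = π (α d) := mul_right_cancel (by rw [mul_assoc]; exact h3)
    rw [e1, ← e3, ← mul_assoc, hexp, one_mul]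
  obtain ⟨g, hg⟩ := hsq f
  have h7 := idem (α d) f g hf hg
  -- the value at `α² d` in two ways
  obtain ⟨c, hc⟩ := (mem2 _).1 (QuotientGroup.eq.1 h6)
  obtain ⟨r, hr⟩ := hsq c
  have h8 : π g = π (e * f) := by
    refine sqinj _ _ ⟨(r * (e * f))⁻¹, ?_⟩
    have e1 : α (α d) = f * c ^ 2 := by rw [← hc, mul_inv_cancel_left]
    have e2 : δ (α (α d)) = g ^ 2 * r ^ 4 := by rw [e1, map_mul, map_pow, hg, hr, ← pow_mul]
    rw [h2] at e2
    calc g ^ 2 = (g ^ 2 * r ^ 4) * (r ^ 4)⁻¹ := by group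
      _ = ((e * f) ^ 2)⁻¹ * (r ^ 4)⁻¹ := by rw [← e2]
      _ = ((e * f) ^ 2 * ((e * f) ^ 4)⁻¹) * (r ^ 4)⁻¹ := by group
      _ = _ := by rw [inv_pow, mul_pow r, mul_inv_rev, mul_assoc]
  rw [h7, map_mul, hed] at h8
  exact hd2 (mul_eq_right.1 h8.symm)

set_option maxHeartbeats 2000000 in
/-- The dichotomy. -/
theorem Three.main {T : Type*} [Group T] [Finite T] {ρ : T ≃* T} {V : Subgroup T} {j : ℕ}
    (S : Three ρ V j) :
    (∃ n : ℕ, 1 ≤ n ∧ Nonempty (T ≃* Multiplicative (ZMod (2 ^ n) × ZMod (2 ^ n)))) ∨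
    (Hyp64 ρ V ∧ ¬ ∃ x, x ∉ V ∧ x * x = 1) := by
  classical
  haveI : Fact (Nat.Prime 2) := ⟨Nat.prime_two⟩
  obtain ⟨A, hAn, hVA, hAρ, hAab, hself⟩ := S.exists_self_centralizing
  haveI := hAn
  -- the automorphism has order three
  have hcube : ∀ x, ρ (ρ (ρ x)) = x := by
    intro x
    set d := x⁻¹ * ρ (ρ (ρ x)) with hd
    have hA3 : ∀ a ∈ A, ρ (ρ (ρ a)) = a := fun a ha => S.cube_abelian hAab hAρ ha
    have hdA : d ∈ A := hself d fun a ha => by
      have h1 := hA3 (x * a * x⁻¹) (hAn.conj_mem a ha x)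
      simp only [map_mul, map_inv, hA3 a ha] at h1
      calc d * a = x⁻¹ * (ρ (ρ (ρ x)) * a * (ρ (ρ (ρ x)))⁻¹) * ρ (ρ (ρ x)) := by rw [hd]; group
        _ = _ := by rw [h1, hd]; group
    have h1 := S.displace (x := x) (d := d) (by rw [hd, mul_inv_cancel_left]) (hA3 d hdA)
    exact (inv_mul_eq_one.1 h1).symm
  have h : FpfCube ρ := ⟨hcube, S.fix⟩
  have hV4 : Four ρ V := ⟨S.card, fun v hv => (S.mem v).1 hv, S.central, fun v hv => S.inv_mem hv⟩
  obtain ⟨v₀, hv₀, hv₀1⟩ := S.exists_ne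
  have hT : Nontrivial T := ⟨⟨v₀, 1, hv₀1⟩⟩
  by_cases hab : ∀ x y : T, x * y = y * x
  · refine Or.inl (homocyclic hab S.two h hT ?_)
    rw [← S.card]
    exact Nat.card_le_card_of_injective (fun x : {x : T // x * x = 1} => (⟨x.1, (S.mem _).2 x.2⟩ : V))
      fun x y e => Subtype.ext (congrArg (fun t : V => (t : T)) e)
  refine Or.inr ?_
  have hno : ¬ ∃ x, x ∉ V ∧ x * x = 1 := fun ⟨x, hxV, hx⟩ => hxV ((S.mem x).2 hx)
  refine ⟨?_, hno⟩
  have hAtop : ∃ x, x ∉ A := by
    by_contra hall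
    push Not at hall
    exact hab fun x y => hAab x (hall x) y (hall y)
  -- `A` as an abelian group
  letI : CommGroup A := { (inferInstance : Group A) with mul_comm := fun a b => Subtype.ext (hAab a a.2 b b.2) }
  let α : A ≃* A :=
    { toFun := fun a => ⟨ρ a, hAρ _ a.2⟩
      invFun := fun a => ⟨ρ (ρ a), hAρ _ (hAρ _ a.2)⟩
      left_inv := fun a => Subtype.ext (hcube a)
      right_inv := fun a => Subtype.ext (hcube a)
      map_mul' := fun a b => Subtype.ext (map_mul ρ _ _) }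
  have hα : FpfCube α := ⟨fun a => Subtype.ext (hcube a),
    fun a ha => Subtype.ext (S.fix a (congrArg Subtype.val ha))⟩
  have hnA : ∀ a : A, a * α a * α (α a) = 1 := fun a => hα.norm a
  let δ : T → (A →* A) := fun g =>
    MonoidHom.mk' (fun a => ⟨g * a * g⁻¹ * (a : T)⁻¹, A.mul_mem (hAn.conj_mem _ a.2 g) (A.inv_mem a.2)⟩)
      (fun a b => Subtype.ext (by
        show g * ((a : T) * b) * g⁻¹ * ((a : T) * b)⁻¹ = g * a * g⁻¹ * (a : T)⁻¹ * (g * b * g⁻¹ * (b : T)⁻¹)
        have e := hAab _ (A.mul_mem (hAn.conj_mem _ b.2 g) (A.inv_mem b.2)) _ (A.inv_mem a.2)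
        calc g * ((a : T) * b) * g⁻¹ * ((a : T) * b)⁻¹
            = g * a * g⁻¹ * (g * b * g⁻¹ * (b : T)⁻¹ * (a : T)⁻¹) := by group
          _ = _ := by rw [e]; group))
  have δval : ∀ (g : T) (a : A), ((δ g a : A) : T) = g * a * g⁻¹ * (a : T)⁻¹ := fun g a => rfl
  have δmul : ∀ (g k : T) (a : A), δ (g * k) a = δ g (δ k a) * δ k a * δ g a := by
    intro g k a
    have e1 : δ (g * k) a = δ g (δ k a * a) * δ k a := by
      apply Subtype.ext
      simp only [Subgroup.coe_mul, δval]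
      group
    rw [e1, map_mul]
    exact mul_right_comm _ _ _
  have δone : ∀ a : A, δ 1 a = 1 := fun a => Subtype.ext (by simp [δval])
  have δρ : ∀ (g : T) (a : A), δ (ρ g) (α a) = α (δ g a) := fun g a => Subtype.ext (by
    show ρ g * ρ a * (ρ g)⁻¹ * (ρ a)⁻¹ = ρ (g * a * g⁻¹ * (a : T)⁻¹)
    simp only [map_mul, map_inv])
  have δρ' : ∀ (g : T) (a : A), δ (ρ g) a = α (δ g (α (α a))) := fun g a => by rw [← δρ, hα.cube]
  have δfix : ∀ (g : T) (a : A), δ g a = 1 ↔ g * (a : T) = a * g := by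
    intro g a
    rw [Subtype.ext_iff, δval, Subgroup.coe_one, mul_inv_eq_one, mul_inv_eq_iff_eq_mul]
  have δV : ∀ (g : T) (a : A), (a : T) ∈ V → δ g a = 1 := fun g a ha => (δfix g a).2 (S.central _ ha g)
  have hAp : IsPGroup 2 A := S.two.to_subgroup A
  -- an element whose square is not one
  obtain ⟨w, hw2⟩ : ∃ w : A, w * w ≠ 1 := by
    by_contra hall
    push Not at hall
    obtain ⟨x, hx⟩ := hAtop
    exact hx (hself x fun a ha => (S.central a ((S.mem a).2 (congrArg Subtype.val (hall ⟨a, ha⟩))) x))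
  -- the four-group consists of squares
  have hsqV : ∀ a : A, (a : T) ∈ V → ∃ c : A, a = c ^ 2 := by
    obtain ⟨k, hk⟩ := hAp w
    clear hAtop
    induction k generalizing w with
    | zero => rw [pow_zero, pow_one] at hk; simp [hk] at hw2
    | succ k ih =>
      by_cases h4 : w * w * (w * w) = 1
      · intro a ha
        have hwV : ((w * w : A) : T) ∈ V := (S.mem _).2 (congrArg Subtype.val h4)
        rcases hV4.cases h hwV (fun e => hw2 (Subtype.ext e)) ha with e | e | e | e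
        · exact ⟨1, Subtype.ext (by rw [e]; simp)⟩
        · exact ⟨w, Subtype.ext (by rw [e, pow_two])⟩
        · refine ⟨α w, ?_⟩
          rw [← map_pow, pow_two]
          exact Subtype.ext e
        · refine ⟨α (α w), ?_⟩
          rw [← map_pow, ← map_pow, pow_two]
          exact Subtype.ext e
      · exact ih (w * w) h4 (by rw [← pow_two, ← pow_mul, ← pow_succ']; exact hk)
  set A2 : Subgroup A := (powMonoidHom 2 : A →* A).range with hA2
  have mem2 : ∀ x : A, x ∈ A2 ↔ ∃ c, x = c ^ 2 :=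
    fun x => ⟨fun ⟨c, hc⟩ => ⟨c, hc.symm⟩, fun ⟨c, hc⟩ => ⟨c, hc.symm⟩⟩
  have hA2α : ∀ x ∈ A2, α x ∈ A2 := by
    intro x hx
    obtain ⟨c, rfl⟩ := (mem2 x).1 hx
    exact (mem2 _).2 ⟨α c, map_pow α c 2⟩
  have hsq1 : ∀ x y : A, x ^ 2 = y ^ 2 → ((x * y⁻¹ : A) : T) ∈ V := fun x y e => by
    rw [S.mem]
    have : (x * y⁻¹) ^ 2 = 1 := by rw [mul_pow, e, inv_pow, mul_inv_cancel]
    rw [pow_two] at this
    exact congrArg Subtype.val this
  -- classes modulo squares
  obtain ⟨n, hn, a₀, ha₀, -⟩ := homocyclic_gen (T := A) mul_comm hAp hα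
    ⟨⟨⟨v₀, hVA hv₀⟩, 1, fun e => hv₀1 (congrArg Subtype.val e)⟩⟩ (by
      rw [← S.card]
      exact Nat.card_le_card_of_injective
        (fun x : {x : A // x * x = 1} => (⟨x.1, (S.mem _).2 (congrArg Subtype.val x.2)⟩ : V))
        fun x y e => Subtype.ext (Subtype.ext (congrArg (fun t : V => (t : T)) e)))
  let π := QuotientGroup.mk' A2
  have hπexp : ∀ x : A, π x * π x = 1 := fun x => by
    rw [← map_mul]; exact (QuotientGroup.eq_one_iff _).2 ((mem2 _).2 ⟨x, (pow_two x).symm⟩)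
  have hπinv : ∀ x : A, (π x)⁻¹ = π x := fun x => inv_eq_of_mul_eq_one_right (hπexp x)
  have hπ3 : ∀ x : A, π (α (α x)) = π x * π (α x) := fun x => by
    rw [← hπinv (α (α x))]
    refine inv_eq_of_mul_eq_one_left ?_
    rw [← map_mul, ← map_mul, hnA, map_one]
  have hcls : ∀ e : A, e ∉ A2 → ∀ y : A, π y = 1 ∨ π y = π e ∨ π y = π (α e) ∨ π y = π (α (α e)) := by
    have base : ∀ y : A, π y = 1 ∨ π y = π a₀ ∨ π y = π (α a₀) ∨ π y = π (α (α a₀)) := by
      intro y
      obtain ⟨i, k, rfl⟩ := ha₀ y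
      have hp : ∀ (u : A) (i : ℕ), π (u ^ i) = 1 ∨ π (u ^ i) = π u := by
        intro u i
        induction i with
        | zero => left; rw [pow_zero, map_one]
        | succ i ih =>
          rw [pow_succ, map_mul]
          rcases ih with e | e <;> rw [e]
          · right; exact one_mul _
          · left; exact hπexp u
      rw [map_mul]
      rcases hp a₀ i with e | e <;> rcases hp (α a₀) k with e' | e' <;> rw [e, e']
      · left; exact one_mul 1
      · right; right; left; exact one_mul _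
      · right; left; exact mul_one _
      · right; right; right; rw [hπ3]
    intro e he y
    have he1 : π e ≠ 1 := fun h1 => he ((QuotientGroup.eq_one_iff _).1 h1)
    have hαπ : ∀ u v : A, π u = π v → π (α u) = π (α v) := by
      intro u v huv
      refine QuotientGroup.eq.2 ?_
      rw [← map_inv, ← map_mul]
      exact hA2α _ (QuotientGroup.eq.1 huv)
    rcases base e with h1 | h1 | h1 | h1
    · exact absurd h1 he1
    · rw [h1, hαπ _ _ h1, hαπ _ _ (hαπ _ _ h1)]; exact base y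
    · rw [h1, hαπ _ _ h1, hαπ _ _ (hαπ _ _ h1), hα.cube]
      rcases base y with b | b | b | b <;> rw [b] <;> tauto
    · rw [h1, hαπ _ _ h1, hαπ _ _ (hαπ _ _ h1), hα.cube]
      rcases base y with b | b | b | b <;> rw [b] <;> tauto
  -- centralising a class and its image means centralising `A`
  have hcentral : ∀ (g : T) (e : A), e ∉ A2 → δ g e = 1 → δ g (α e) = 1 → g ∈ A := by
    intro g e he h1 h2
    have h3 : δ g (α (α e)) = 1 := by
      rw [show α (α e) = (e * α e)⁻¹ from (inv_eq_of_mul_eq_one_right (hnA e)).symm, map_inv, map_mul, h1,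
        h2, one_mul, inv_one]
    have main : ∀ y : A, ∀ m : ℕ, ∃ q : A, δ g y = δ g q ^ (2 ^ m) := by
      intro y m
      induction m generalizing y with
      | zero => exact ⟨y, by simp⟩
      | succ m ih =>
        obtain ⟨q, hq⟩ := ih y
        have key : ∀ r : A, π q = π r → δ g r = 1 → ∃ c, δ g q = δ g c ^ 2 := by
          intro r hr hr1
          obtain ⟨c, hc⟩ := (mem2 _).1 (QuotientGroup.eq.1 hr)
          refine ⟨c⁻¹, ?_⟩
          have : q = r * (c⁻¹) ^ 2 := by rw [inv_pow, ← hc]; group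
          rw [this, map_mul, hr1, one_mul, map_pow]
        obtain ⟨c, hc⟩ : ∃ c, δ g q = δ g c ^ 2 := by
          rcases hcls e he q with b | b | b | b
          · exact key 1 (b.trans (map_one π).symm) (map_one _)
          · exact key e b h1
          · exact key _ b h2
          · exact key _ b h3
        exact ⟨c, by rw [hq, hc, ← pow_mul, ← pow_succ']⟩
    obtain ⟨k, hk⟩ := IsPGroup.iff_card.1 hAp
    refine hself g fun a ha => (δfix g ⟨a, ha⟩).1 ?_
    obtain ⟨q, hq⟩ := main ⟨a, ha⟩ k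
    rw [hq, ← hk]
    exact pow_card_eq_one'
  -- squares of elements outside `A` are squares in `A`
  have hsqA : ∀ (g : T), g ∉ A → ∀ hg : g * g ∈ A, (⟨g * g, hg⟩ : A) ∈ A2 := by
    intro g hgA hg
    by_contra he
    refine hgA (hcentral g ⟨g * g, hg⟩ he ((δfix _ _).2 (by group)) ((δfix _ _).2 ?_))
    show g * ρ (g * g) = ρ (g * g) * g
    rw [map_mul]
    have hc : Commute g (ρ g) := h.comm g
    exact (hc.mul_right hc).eq
  -- the group acts trivially on `A` modulo squares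
  have hδ2 : ∀ (g : T) (a : A), δ g a ∈ A2 := by
    let C : Subgroup A :=
      { carrier := {a | ∀ g, δ g a ∈ A2}
        one_mem' := fun g => by simp
        mul_mem' := fun {a b} ha hb g => by rw [map_mul]; exact A2.mul_mem (ha g) (hb g)
        inv_mem' := fun {a} ha g => by rw [map_inv]; exact A2.inv_mem (ha g) }
    let A2T : Subgroup T := A2.map A.subtype
    have memT : ∀ a : A, (a : T) ∈ A2T ↔ a ∈ A2 :=
      fun a => ⟨fun ⟨b, hb, e⟩ => (Subtype.ext e : b = a) ▸ hb, fun ha => ⟨a, ha, rfl⟩⟩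
    haveI hA2n : A2T.Normal := ⟨fun y hy g => by
      obtain ⟨b, hb, rfl⟩ := hy
      obtain ⟨c, rfl⟩ := (mem2 b).1 hb
      refine ⟨(δ g c * c) ^ 2, (mem2 _).2 ⟨_, rfl⟩, ?_⟩
      show (((δ g c * c) ^ 2 : A) : T) = g * (((c ^ 2 : A)) : T) * g⁻¹
      rw [pow_two, pow_two, Subgroup.coe_mul, Subgroup.coe_mul, Subgroup.coe_mul, δval]
      group⟩
    let Ab : Subgroup (T ⧸ A2T) := A.map (QuotientGroup.mk' A2T)
    haveI hAbn : Ab.Normal := hAn.map _ (QuotientGroup.mk'_surjective A2T)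
    -- some class outside the squares is fixed
    obtain ⟨e, he, hec⟩ : ∃ e : A, e ∉ A2 ∧ e ∈ C := by
      have hne : Ab ≠ ⊥ := by
        intro h0
        refine hw2 ?_
        have hall : ∀ y : A, y ∈ A2 := fun y => (memT y).1 ((QuotientGroup.eq_one_iff _).1 (by
          have : ((QuotientGroup.mk' A2T) (y : T)) ∈ Ab := ⟨y, y.2, rfl⟩
          rw [h0, Subgroup.mem_bot] at this
          exact this))
        have main : ∀ (m : ℕ) (y : A), ∃ c : A, y = c ^ (2 ^ m) := by
          intro m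
          induction m with
          | zero => exact fun y => ⟨y, by simp⟩
          | succ m ih =>
            intro y
            obtain ⟨c, hc⟩ := ih y
            obtain ⟨d, hd⟩ := (mem2 _).1 (hall c)
            exact ⟨d, by rw [hc, hd, ← pow_mul, ← pow_succ']⟩
        obtain ⟨k, hk⟩ := IsPGroup.iff_card.1 hAp
        obtain ⟨c, hc⟩ := main k (w * w)
        rw [hc, ← hk]
        exact pow_card_eq_one'
      obtain ⟨q, hq⟩ := Subgroup.ne_bot_iff_exists_ne_one.1
        (Cfsg.Lib.PGroup.inf_center_ne_bot (S.two.to_quotient A2T) (N := Ab) hne)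
      obtain ⟨⟨y, hy, hyq⟩, hqZ⟩ := q.2
      refine ⟨⟨y, hy⟩, fun hy2 => hq (Subtype.ext ?_), fun g => (memT _).1 ((QuotientGroup.eq_one_iff _).1 ?_)⟩
      · rw [← hyq]
        exact (QuotientGroup.eq_one_iff _).2 ((memT ⟨y, hy⟩).2 hy2)
      · show (QuotientGroup.mk' A2T) (g * y * g⁻¹ * y⁻¹) = 1
        rw [map_mul, map_mul, map_mul, map_inv, map_inv, hyq,
          Subgroup.mem_center_iff.1 hqZ ((QuotientGroup.mk' A2T) g), mul_inv_cancel_right, mul_inv_cancel]
    have hCα : ∀ y : A, y ∈ C → α y ∈ C := fun y hy g => by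
      obtain ⟨g', rfl⟩ := ρ.surjective g
      rw [δρ]
      exact hA2α _ (hy g')
    intro g y
    have key : ∀ r : A, π y = π r → r ∈ C → δ g y ∈ A2 := by
      intro r hr hrC
      obtain ⟨c, hc⟩ := (mem2 _).1 (QuotientGroup.eq.1 hr)
      have : y = r * (c ^ 2)⁻¹ := by rw [← hc]; group
      rw [this, map_mul, map_inv, map_pow]
      exact A2.mul_mem (hrC g) (A2.inv_mem ((mem2 _).2 ⟨_, rfl⟩))
    rcases hcls e he y with b | b | b | b
    · exact key 1 (b.trans (map_one π).symm) C.one_mem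
    · exact key e b hec
    · exact key _ b (hCα _ hec)
    · exact key _ b (hCα _ (hCα _ hec))
  by_cases h4 : ∀ a : A, a ^ 4 = 1
  · -- exponent four
    have hA2V : ∀ a : A, a ∈ A2 → (a : T) ∈ V := by
      intro a ha
      obtain ⟨c, rfl⟩ := (mem2 a).1 ha
      rw [S.mem]
      have := h4 c
      rw [show (4 : ℕ) = 2 + 2 from rfl, pow_add] at this
      exact congrArg Subtype.val this
    have δadd : ∀ (g k : T) (a : A), δ (g * k) a = δ k a * δ g a := fun g k a => by
      rw [δmul, δV g _ (hA2V _ (hδ2 k a)), one_mul]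
    obtain ⟨e, he⟩ : ∃ e : A, e ∉ A2 := by
      refine ⟨a₀, fun he => ?_⟩
      obtain ⟨c, hc⟩ := (mem2 _).1 he
      refine hw2 ?_
      obtain ⟨i, k, rfl⟩ := ha₀ w
      rw [hc, map_pow, ← pow_two, mul_pow, ← pow_mul, ← pow_mul, ← pow_mul, ← pow_mul]
      rw [show 2 * (i * 2) = 4 * i by ring, show 2 * (k * 2) = 4 * k by ring, pow_mul, pow_mul, h4, h4, one_pow,
        one_pow, one_mul]
    have vrel : ∀ u : A, (u : T) ∈ V → u⁻¹ = u := fun u hu =>
      inv_eq_of_mul_eq_one_right (Subtype.ext ((S.mem _).1 hu))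
    have hR : ∀ g : T, δ g (α e) = α (α (δ g e)) := by
      intro g
      set P := δ g e
      set R := δ g (α e)
      have hP : (P : T) ∈ V := hA2V _ (hδ2 g e)
      have hRv : (R : T) ∈ V := hA2V _ (hδ2 g _)
      have hrre : δ g (α (α e)) = P * R := by
        rw [show α (α e) = (e * α e)⁻¹ from (inv_eq_of_mul_eq_one_right (hnA e)).symm, map_inv, map_mul]
        exact vrel _ (by rw [Subgroup.coe_mul]; exact V.mul_mem hP hRv)
      have h1 : δ (ρ g) e = α P * α R := by rw [δρ', hrre, map_mul]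
      have h2 : δ (ρ (ρ g)) e = α (α R) := by rw [δρ', δρ', hα.cube]
      have h3 := δone e
      rw [← h.norm g, δadd, δadd, h1, h2] at h3
      have nR : α R * α (α R) = R :=
        ((inv_eq_of_mul_eq_one_right (by rw [← mul_assoc]; exact hnA R)).symm).trans (vrel R hRv)
      have nP : α (α P) = P * α P := by
        have hv : ((P * α P : A) : T) ∈ V := V.mul_mem hP (S.inv_mem hP)
        exact ((inv_eq_of_mul_eq_one_right (hnA P)).symm).trans (vrel _ hv)
      have h5 : R * α (α P) = 1 := by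
        calc R * α (α P) = (α R * α (α R)) * (P * α P) := by rw [nR, nP]
          _ = α (α R) * ((α P * α R) * P) := by ac_rfl
          _ = 1 := h3
      rw [← vrel R hRv]
      exact inv_eq_of_mul_eq_one_right h5
    have hker : ∀ g : T, δ g e = 1 ↔ g ∈ A := by
      refine fun g => ⟨fun hg => hcentral g e he hg (by rw [hR, hg, map_one, map_one]), fun hg => ?_⟩
      exact (δfix _ _).2 (hAab g hg _ e.2)
    let f : T →* V := MonoidHom.mk' (fun g => ⟨((δ g e : A) : T), hA2V _ (hδ2 g e)⟩) (fun g k => by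
      apply Subtype.ext
      show ((δ (g * k) e : A) : T) = (δ g e : A) * (δ k e : A)
      rw [δadd]
      exact hAab _ (SetLike.coe_mem _) _ (SetLike.coe_mem _))
    have hfker : f.ker = A := by
      ext g
      rw [MonoidHom.mem_ker, ← hker]
      exact ⟨fun hg => Subtype.ext (congrArg Subtype.val hg :), fun hg => Subtype.ext (congrArg Subtype.val hg :)⟩
    obtain ⟨g₀, hg₀⟩ := hAtop
    have hsur : Function.Surjective f := by
      intro v
      have hρf : ∀ g : T, ((δ (ρ g) e : A) : T) = ρ (ρ ((δ g e : A) : T)) := by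
        intro g
        have hP := hA2V _ (hδ2 g e)
        have : δ (ρ g) e = α (α (δ g e)) := by
          rw [δρ', show α (α e) = (e * α e)⁻¹ from (inv_eq_of_mul_eq_one_right (hnA e)).symm, map_inv, map_mul,
            hR, map_inv, map_mul, hα.cube, mul_comm]
          exact inv_eq_of_mul_eq_one_right (hnA _)
        rw [this]
        rfl
      have hne : ((δ g₀ e : A) : T) ≠ 1 := fun e' => hg₀ ((hker g₀).1 (Subtype.ext e'))
      rcases hV4.cases h (hA2V _ (hδ2 g₀ e)) hne v.2 with e' | e' | e' | e'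
      · exact ⟨1, by rw [map_one]; exact Subtype.ext e'.symm⟩
      · exact ⟨g₀, Subtype.ext e'.symm⟩
      · refine ⟨ρ (ρ g₀), Subtype.ext ?_⟩
        show ((δ (ρ (ρ g₀)) e : A) : T) = _
        rw [hρf, hρf, hcube, e']
      · refine ⟨ρ g₀, Subtype.ext ?_⟩
        show ((δ (ρ g₀) e : A) : T) = _
        rw [hρf, e']
    have hA16 : Nat.card A = 16 := by
      have h1 := Subgroup.card_mul_index (powMonoidHom 2 : A →* A).ker
      rw [Subgroup.index_ker] at h1
      have hk : Nat.card (powMonoidHom 2 : A →* A).ker = 4 := by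
        rw [← S.card]
        refine Nat.card_congr (Equiv.ofBijective (fun x : (powMonoidHom 2 : A →* A).ker =>
          (⟨((x : A) : T), (S.mem _).2 (by
            have := x.2
            rw [MonoidHom.mem_ker, powMonoidHom_apply, pow_two] at this
            exact congrArg Subtype.val this)⟩ : V)) ⟨fun x y hxy => Subtype.ext (Subtype.ext (congrArg (fun t : V => (t : T)) hxy)), fun v => ?_⟩)
        refine ⟨⟨⟨v, hVA v.2⟩, ?_⟩, rfl⟩
        rw [MonoidHom.mem_ker, powMonoidHom_apply, pow_two]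
        exact Subtype.ext ((S.mem _).1 v.2)
      have hr : Nat.card (powMonoidHom 2 : A →* A).range = 4 := by
        rw [← S.card]
        refine Nat.card_congr (Equiv.ofBijective (fun x : (powMonoidHom 2 : A →* A).range =>
          (⟨((x : A) : T), hA2V _ x.2⟩ : V)) ⟨fun x y hxy => Subtype.ext (Subtype.ext (congrArg (fun t : V => (t : T)) hxy)), fun v => ?_⟩)
        exact ⟨⟨⟨v, hVA v.2⟩, (mem2 _).2 (hsqV _ v.2)⟩, rfl⟩
      rw [hk, hr] at h1
      omega
    refine ⟨h, hV4, ?_, fun x => ?_, ?_⟩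
    · have h1 := Subgroup.card_mul_index f.ker
      rw [Subgroup.index_ker, MonoidHom.range_eq_top.2 hsur, Subgroup.card_top, S.card, hfker, hA16] at h1
      omega
    · by_cases hx : x ∈ A
      · exact hA2V (⟨x, hx⟩ * ⟨x, hx⟩) ((mem2 _).2 ⟨⟨x, hx⟩, (pow_two _).symm⟩)
      · have hxx : x * x ∈ A := by
          rw [← hker, δadd]
          exact Subtype.ext ((S.mem _).1 (hA2V _ (hδ2 x e)))
        exact hA2V ⟨x * x, hxx⟩ (hsqA x hx hxx)
    · push Not at hab
      exact hab
  · exfalso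
    push Not at h4
    obtain ⟨u, hu⟩ := h4
    -- the four-group consists of fourth powers
    have hV4p : ∀ a : A, (a : T) ∈ V → ∃ c : A, a = c ^ 4 := by
      obtain ⟨k, hk⟩ := hAp u
      induction k generalizing u with
      | zero => rw [pow_zero, pow_one] at hk; simp [hk] at hu
      | succ k ih =>
        by_cases h8 : (u ^ 2) ^ 4 = 1
        · intro a ha
          have huV : ((u ^ 4 : A) : T) ∈ V := by
            rw [S.mem]
            refine congrArg Subtype.val (?_ : u ^ 4 * u ^ 4 = 1)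
            rw [← pow_add, ← h8, ← pow_mul]
          rcases hV4.cases h huV (fun e => hu (Subtype.ext e)) ha with e | e | e | e
          · exact ⟨1, Subtype.ext (by rw [e]; simp)⟩
          · exact ⟨u, Subtype.ext e⟩
          · refine ⟨α u, ?_⟩; rw [← map_pow]; exact Subtype.ext e
          · refine ⟨α (α u), ?_⟩; rw [← map_pow, ← map_pow]; exact Subtype.ext e
        · exact ih (u ^ 2) h8 (by rw [← pow_mul, ← pow_succ']; exact hk)
    have hom2 : ∀ x : A, x ^ 4 = 1 → ∃ c, x = c ^ 2 := by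
      intro x hx
      obtain ⟨c, hc⟩ := hV4p (x ^ 2) (by
        rw [S.mem]
        refine congrArg Subtype.val (?_ : x ^ 2 * x ^ 2 = 1)
        rw [← pow_add]; exact hx)
      obtain ⟨c', hc'⟩ := hsqV (x * (c ^ 2)⁻¹) (hsq1 x (c ^ 2) (by rw [← pow_mul]; exact hc))
      exact ⟨c' * c, by rw [mul_pow, ← hc', inv_mul_cancel_right]⟩
    have hfix2 : ∀ x : A, (∃ c, x⁻¹ * α x = c ^ 2) → ∃ c, x = c ^ 2 := fun x hx =>
      (mem2 x).1 (mem_of_fixed_mod hα.fix hA2α ((mem2 _).2 hx))
    -- an element central modulo `A` of order two there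
    obtain ⟨x, hxA, hxx⟩ : ∃ x, x ∉ A ∧ x * x ∈ A := by
      obtain ⟨g, hg⟩ := hAtop
      obtain ⟨k, hk⟩ := S.two g
      induction k generalizing g with
      | zero => rw [pow_zero, pow_one] at hk; exact absurd (hk ▸ A.one_mem) hg
      | succ k ih =>
        by_cases hgg : g * g ∈ A
        · exact ⟨g, hg, hgg⟩
        · exact ih (g * g) hgg (by rw [← pow_two, ← pow_mul, ← pow_succ']; exact hk)
    obtain ⟨c, hc⟩ := (mem2 _).1 (hsqA x hxA hxx)
    have hid : ∀ a, δ x (δ x a) = (δ x a ^ 2)⁻¹ := by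
      intro a
      have h1 : δ (x * x) a = 1 := (δfix _ _).2 (hAab _ hxx _ a.2)
      rw [δmul, mul_assoc, ← pow_two] at h1
      exact eq_inv_of_mul_eq_one_left h1
    have h4δ := image_fourth α hnA (δ x) (δ (ρ x)) (δ (ρ (ρ x))) (fun a => (mem2 _).1 (hδ2 x a)) hid
      (fun a => δρ' x a) (fun a => by rw [δρ', δρ', hα.cube]) (fun a => by
        have h1 := δone a
        rw [← h.norm x, δmul] at h1
        -- the double displacements are fourth powers
        obtain ⟨s, hs⟩ := (mem2 _).1 (hδ2 (ρ (ρ x)) a)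
        obtain ⟨r, hr⟩ := (mem2 _).1 (hδ2 (ρ x) a)
        obtain ⟨s', hs'⟩ := (mem2 _).1 (hδ2 (x * ρ x) s)
        obtain ⟨r', hr'⟩ := (mem2 _).1 (hδ2 x r)
        rw [hs, map_pow, hs', ← hs, δmul, hr, map_pow, hr', ← hr] at h1
        refine ⟨(s' * r')⁻¹, ?_⟩
        rw [rearr h1, inv_pow, mul_pow, ← pow_mul, ← pow_mul, mul_inv])
      hom2 hfix2
    -- so `a ↦ a² δ(a)` is onto the squares
    let m : A →* A := MonoidHom.mk' (fun a => a ^ 2 * δ x a) (fun a b => by
      rw [map_mul, mul_pow]; exact mul_mul_mul_comm _ _ _ _)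
    obtain ⟨N, hN⟩ := IsPGroup.iff_card.1 hAp
    have hkerV : ∀ a : A, m a = 1 → (a : T) ∈ V := by
      intro a ha
      have main : ∀ i : ℕ, ∃ (v : A) (b : A), (v : T) ∈ V ∧ a = v * b ^ (2 ^ i) := by
        intro i
        induction i with
        | zero => exact ⟨1, a, by simp, by simp⟩
        | succ i ih =>
          obtain ⟨v, b, hv, hab'⟩ := ih
          obtain ⟨q, hq⟩ := h4δ b
          have e1 : a ^ 2 = (q⁻¹) ^ (4 * 2 ^ i) := by
            have : a ^ 2 = (δ x a)⁻¹ := eq_inv_of_mul_eq_one_left ha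
            rw [this, hab', map_mul, map_pow, δV x v hv, one_mul, hq, ← pow_mul, inv_pow]
          refine ⟨a * ((q⁻¹) ^ (2 ^ (i + 1)))⁻¹, q⁻¹, hsq1 _ _ ?_, by rw [inv_mul_cancel_right]⟩
          rw [e1, ← pow_mul, pow_succ]
          congr 1
          ring
      obtain ⟨v, b, hv, e⟩ := main N
      rw [e, show b ^ (2 ^ N) = 1 by rw [← hN]; exact pow_card_eq_one', mul_one]
      exact hv
    have hrange : m.range = A2 := by
      refine Subgroup.eq_of_le_of_card_ge ?_ ?_
      · rintro _ ⟨a, rfl⟩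
        exact A2.mul_mem ((mem2 _).2 ⟨a, rfl⟩) (hδ2 x a)
      · have h1 := Subgroup.card_mul_index m.ker
        rw [Subgroup.index_ker] at h1
        have h2 := Subgroup.card_mul_index (powMonoidHom 2 : A →* A).ker
        rw [Subgroup.index_ker] at h2
        have hk : Nat.card m.ker ≤ Nat.card (powMonoidHom 2 : A →* A).ker :=
          Subgroup.card_le_of_le fun a ha => by
            rw [MonoidHom.mem_ker, powMonoidHom_apply, pow_two]
            exact Subtype.ext ((S.mem _).1 (hkerV a ha))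
        have : 0 < Nat.card m.ker := Nat.card_pos
        show Nat.card (powMonoidHom 2 : A →* A).range ≤ _
        nlinarith
    obtain ⟨a, ha⟩ : (⟨x * x, hxx⟩ : A)⁻¹ ∈ m.range := by
      rw [hrange]; exact A2.inv_mem ((mem2 _).2 ⟨c, hc⟩)
    refine hxA ?_
    have hv : (a : T) * x ∈ V := by
      rw [S.mem]
      have ha' : ((m a : A) : T) = (x * x)⁻¹ := congrArg Subtype.val ha
      have e : a * (δ x a * a) = m a := by
        show _ = a ^ 2 * δ x a
        rw [pow_two]; ac_rfl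
      calc (a : T) * x * ((a : T) * x) = (a : T) * ((x * a * x⁻¹ * (a : T)⁻¹) * a) * (x * x) := by group
        _ = ((m a : A) : T) * (x * x) := by rw [← e]; rfl
        _ = 1 := by rw [ha', inv_mul_cancel]
    have := A.mul_mem (A.inv_mem a.2) (hVA hv)
    rwa [inv_mul_cancel_left] at this

end Cfsg.Lib.TwoFour
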