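import Cfsg.Agent.Lib.TwoFour.Class64
import Cfsg.Agent.Lib.Invol.Basic

/-!
# Involutory automorphisms inverting the automorphism of order three
-/

set_option autoImplicit false
set_option linter.style.haveILetI false

namespace Cfsg.Lib.TwoFour

open Subgroup

/-- A nonabelian group of order eight generated as below is dihedral or quaternion. -/
theorem eight {C : Type*} [Group C] [Finite C] (hcard : Nat.card C = 8) (a b : C) (hab : a * b ≠ b * a) :
    Nonempty (C ≃* DihedralGroup 4) ∨ Nonempty (C ≃* QuaternionGroup 2) := by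
  classical
  haveI : Fact (Nat.Prime 2) := ⟨Nat.prime_two⟩
  have hord : ∀ g : C, orderOf g ∣ 8 := fun g => hcard ▸ orderOf_dvd_natCard g
  have hnot8 : ∀ g : C, orderOf g ≠ 8 := by
    intro g hg
    haveI := isCyclic_of_orderOf_eq_card g (hg.trans hcard.symm)
    exact hab ((@IsCyclic.commGroup C _ _).mul_comm a b)
  -- an element of order four
  obtain ⟨r, hr⟩ : ∃ r : C, orderOf r = 4 := by
    by_contra hno
    push Not at hno
    refine hab ?_
    have hsq : ∀ g : C, g * g = 1 := fun g => by
      have h := hord g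
      obtain ⟨k, hk, e⟩ := (Nat.dvd_prime_pow Nat.prime_two).1 (show orderOf g ∣ 2 ^ 3 from h)
      rw [← pow_two, ← orderOf_dvd_iff_pow_eq_one, e]
      interval_cases k
      · norm_num
      · norm_num
      · exact absurd e (hno g)
      · exact absurd e (hnot8 g)
    have hinv : ∀ g : C, g⁻¹ = g := fun g => inv_eq_of_mul_eq_one_right (hsq g)
    rw [← hinv (a * b), mul_inv_rev, hinv, hinv]
  obtain ⟨y, hy⟩ : ∃ y : C, y ∉ Subgroup.zpowers r := by
    by_contra hall
    push Not at hall
    have := Nat.card_zpowers r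
    rw [(Subgroup.eq_top_iff' _).2 hall, Subgroup.card_top, hcard, hr] at this
    omega
  have hidx : (Subgroup.zpowers r).index = 2 := by
    have h := (Subgroup.zpowers r).index_mul_card
    rw [Nat.card_zpowers, hr, hcard] at h
    omega
  haveI := Subgroup.normal_of_index_eq_two hidx
  have r4 : r ^ 4 = 1 := hr ▸ pow_orderOf_eq_one r
  have hpow : ∀ z ∈ Subgroup.zpowers r, ∃ k : ℕ, k < 4 ∧ z = r ^ k := by
    intro z hz
    obtain ⟨k, hk⟩ := mem_zpowers_iff_mem_range_orderOf.1 hz |> Finset.mem_image.1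
    exact ⟨k, by rw [← hr]; exact Finset.mem_range.1 hk.1, hk.2.symm⟩
  -- conjugation inverts `r`
  have hinvr : y * r * y⁻¹ = r⁻¹ := by
    obtain ⟨k, hk, e⟩ := hpow _ ((inferInstance : (Subgroup.zpowers r).Normal).conj_mem r (Subgroup.mem_zpowers r) y)
    interval_cases k
    · rw [pow_zero, conj_eq_one_iff] at e
      rw [e, orderOf_one] at hr; omega
    · -- then the group is abelian
      exfalso
      rw [pow_one, mul_inv_eq_iff_eq_mul] at e
      have hall : ∀ g : C, g * r = r * g := by
        intro g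
        by_cases hg : g ∈ Subgroup.zpowers r
        · obtain ⟨k, -, rfl⟩ := hpow g hg
          exact (Commute.refl r).pow_left k
        · have hgy : g * y⁻¹ ∈ Subgroup.zpowers r := (Subgroup.mul_mem_iff_of_index_two hidx).2 (by simp [hg, hy])
          obtain ⟨k, -, hk'⟩ := hpow _ hgy
          rw [show g = r ^ k * y by rw [← hk']; group, mul_assoc, e, ← mul_assoc, ← mul_assoc,
            (Commute.refl r).pow_left k]
      refine hab ?_
      by_cases ha : a ∈ Subgroup.zpowers r
      · obtain ⟨k, -, rfl⟩ := hpow a ha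
        exact (((show Commute b r from hall b).pow_right k).symm).eq
      · by_cases hb : b ∈ Subgroup.zpowers r
        · obtain ⟨k, -, rfl⟩ := hpow b hb
          exact ((show Commute a r from hall a).pow_right k).eq
        · have : a⁻¹ * b ∈ Subgroup.zpowers r := (Subgroup.mul_mem_iff_of_index_two hidx).2 (by simp [ha, hb])
          obtain ⟨k, -, hk'⟩ := hpow _ this
          rw [show b = a * r ^ k by rw [← hk']; group, mul_assoc a (r ^ k) a, ← ((show Commute a r from hall a).pow_right k).eq]
    · exfalso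
      have h2 : (y * r * y⁻¹) ^ 2 = 1 := by rw [e, ← pow_mul, r4]
      rw [conj_pow, conj_eq_one_iff] at h2
      have := orderOf_dvd_of_pow_eq_one h2
      rw [hr] at this
      norm_num at this
    · rw [e]
      exact eq_inv_of_mul_eq_one_left (by rw [← pow_succ]; exact r4)
  obtain ⟨k, hk, hyk⟩ := hpow _ (Subgroup.mul_self_mem_of_index_two hidx y)
  have hk2 : k = 0 ∨ k = 2 := by
    have h2 : r ^ k * r ^ k = 1 := by
      have e1 : y * r ^ k * y⁻¹ = r ^ k := by rw [← hyk]; group
      rw [← conj_pow, hinvr, inv_pow] at e1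
      nth_rewrite 1 [← e1]
      exact inv_mul_cancel _
    rw [← pow_add] at h2
    have := orderOf_dvd_of_pow_eq_one h2
    rw [hr] at this
    omega
  rcases hk2 with rfl | rfl
  · left
    rw [pow_zero] at hyk
    have hinj := Cfsg.Lib.Invol.dihedralHom_injective (x := y) (r := r) hyk hinvr hy
    have hcardD : Nat.card (DihedralGroup (orderOf r)) = 8 := by rw [DihedralGroup.nat_card, hr]
    have hbij := (Nat.bijective_iff_injective_and_card _).2 ⟨hinj, by rw [hcardD, hcard]⟩
    exact ⟨((MulEquiv.ofBijective _ hbij).symm).trans (hr ▸ MulEquiv.refl _)⟩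
  · right
    let f : QuaternionGroup 2 → C := fun q => match q with
      | QuaternionGroup.a i => r ^ i.val
      | QuaternionGroup.xa i => y * r ^ i.val
    have key : ∀ i j : ℕ, i % 4 = j % 4 → r ^ i = r ^ j := fun i j e => by
      rw [← pow_mod_orderOf, hr, e, ← hr, pow_mod_orderOf]
    have swap : ∀ i : ℕ, r ^ i * y = y * r ^ (3 * i) := by
      intro i
      induction i with
      | zero => simp
      | succ i ih =>
        have e1 : r * y = y * r ^ 3 := by
          have : r ^ 3 = r⁻¹ := eq_inv_of_mul_eq_one_left (by rw [← pow_succ]; exact r4)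
          rw [this, ← hinvr]
          have hyy : y * y * r = r * (y * y) := by rw [hyk, ← pow_succ, ← pow_succ']
          calc r * y = r * (y * y) * y⁻¹ := by group
            _ = _ := by rw [← hyy]; group
        rw [pow_succ, mul_assoc, e1, ← mul_assoc, ih, mul_assoc, ← pow_add]
        congr 1
    have hhom : ∀ p q, f (p * q) = f p * f q := by
      rintro (i | i) (j | j)
      · show r ^ (i + j).val = r ^ i.val * r ^ j.val
        rw [← pow_add]; apply key; rw [ZMod.val_add]; exact Nat.mod_mod _ _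
      · show y * r ^ (j - i).val = r ^ i.val * (y * r ^ j.val)
        rw [← mul_assoc, swap, mul_assoc, ← pow_add]
        congr 1; apply key
        revert i j; decide
      · show y * r ^ (i + j).val = y * r ^ i.val * r ^ j.val
        rw [mul_assoc, ← pow_add]; congr 1; apply key; rw [ZMod.val_add]; exact Nat.mod_mod _ _
      · show r ^ ((2 : ℕ) + j - i : ZMod (2 * 2)).val = y * r ^ i.val * (y * r ^ j.val)
        rw [mul_assoc y, ← mul_assoc (r ^ i.val) y, swap, mul_assoc y (r ^ _), ← pow_add, ← mul_assoc, hyk, ← pow_add]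
        apply key
        revert i j; decide
    let φ : QuaternionGroup 2 →* C := MonoidHom.mk' f hhom
    have hinj : Function.Injective φ := by
      rw [injective_iff_map_eq_one]
      rintro (i | i) hi
      · have : r ^ i.val = 1 := hi
        have hd := orderOf_dvd_of_pow_eq_one this
        rw [hr] at hd
        have : i.val < 4 := ZMod.val_lt i
        have h0 : i = 0 := (ZMod.val_eq_zero i).1 (by omega)
        rw [h0]; rfl
      · exfalso
        have : y * r ^ i.val = 1 := hi
        exact hy (eq_inv_of_mul_eq_one_left this ▸ Subgroup.inv_mem _ (Subgroup.pow_mem _ (Subgroup.mem_zpowers r) _))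
    have hbij := (Nat.bijective_iff_injective_and_card _).2 ⟨hinj, by
      rw [hcard, Nat.card_eq_fintype_card, QuaternionGroup.card]⟩
    exact ⟨(MulEquiv.ofBijective φ hbij).symm⟩

variable {T : Type*} [Group T]

/-- With an involutory automorphism inverting `ρ`, some involution lies outside the four-group and the
fixed points form a group of order eight. -/
theorem Hyp64.inverted [Finite T] {ρ : T ≃* T} {V : Subgroup T} (H : Hyp64 ρ V) (x : T ≃* T)
    (hxx : ∀ y, x (x y) = y) (hxρ : ∀ y, x (ρ y) = ρ (ρ (x y))) (hxV : ∀ v ∈ V, x v ∈ V) :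
    (∃ y, y ∉ V ∧ y * y = 1) ∧ ∀ C : Subgroup T, (∀ y, y ∈ C ↔ x y = y) →
      (Nonempty (C ≃* DihedralGroup 4) ∨ Nonempty (C ≃* QuaternionGroup 2)) := by
  classical
  have h := H.fpf
  have hV := H.four
  have hc := hV.central
  have hexp : ∀ v ∈ V, v⁻¹ = v := fun v hv => hV.inv_self hv
  haveI : V.Normal := ⟨fun v hv g => by rw [hc v hv g, mul_inv_cancel_right]; exact hv⟩
  -- fixed and moved elements of `V`
  obtain ⟨u, hu, hu1, hxu⟩ : ∃ u ∈ V, u ≠ 1 ∧ x u = u := by
    obtain ⟨v, hv, hv1⟩ : ∃ v ∈ V, v ≠ 1 := by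
      suffices hb : V ≠ ⊥ by
        obtain ⟨v, hv⟩ := Subgroup.ne_bot_iff_exists_ne_one.1 hb
        exact ⟨v, v.2, fun e => hv (Subtype.ext e)⟩
      intro e
      have := hV.card
      rw [e, Subgroup.card_bot] at this
      omega
    by_cases hfix : x v = v
    · exact ⟨v, hv, hv1, hfix⟩
    · refine ⟨v * x v, V.mul_mem hv (hxV v hv), fun e => hfix ?_, by rw [map_mul, hxx, ← hc v hv]⟩
      rw [← inv_eq_of_mul_eq_one_right e, hexp v hv]
  have hxru : x (ρ u) = ρ (ρ u) := by rw [hxρ, hxu]
  have hrru : ρ (ρ u) = u * ρ u := by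
    rw [h.rho_sq, mul_inv_rev, hexp u hu, hexp _ (hV.inv u hu), hc u hu]
  have hfixV : ∀ v ∈ V, x v = v → v = 1 ∨ v = u := by
    intro v hv hxv
    rcases hV.cases h hu hu1 hv with e | e | e | e
    · exact Or.inl e
    · exact Or.inr e
    · rw [e, hxru] at hxv; exact absurd (h.fix _ hxv) (fun e' => hu1 (ρ.injective (e'.trans (map_one ρ).symm)))
    · rw [e, hxρ, hxru, h.cube] at hxv
      have : ρ (ρ u) = ρ u := hxv.symm
      exact absurd (h.fix _ this) (fun e' => hu1 (ρ.injective (e'.trans (map_one ρ).symm)))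
  -- lifting fixed classes
  have lift : ∀ w, w⁻¹ * x w ∈ V → ∃ a, x a = a ∧ w⁻¹ * a ∈ V := by
    intro w hw
    have hxw : x w = w * (w⁻¹ * x w) := by group
    have h2 : x (w⁻¹ * x w) = w⁻¹ * x w := by
      rw [map_mul, map_inv, hxx]
      calc (x w)⁻¹ * w = (w⁻¹ * x w)⁻¹ := by group
        _ = _ := hexp _ hw
    rcases hfixV _ hw h2 with e | e
    · exact ⟨w, by rw [hxw, e, mul_one], by simp⟩
    · refine ⟨w * ρ u, ?_, by rw [inv_mul_cancel_left]; exact hV.inv u hu⟩
      rw [map_mul, hxru, hxw, e, hrru, mul_assoc, ← mul_assoc u u, hV.sq u hu, one_mul]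
  have hsq1 : ∀ w : T, ((w : T ⧸ V)) * (w : T ⧸ V) = 1 := fun w => (QuotientGroup.eq_one_iff _).2 (H.sq_mem w)
  have hinvQ : ∀ q : T ⧸ V, q⁻¹ = q := fun q => by
    obtain ⟨w, rfl⟩ := QuotientGroup.mk_surjective q
    exact inv_eq_of_mul_eq_one_right (hsq1 w)
  have hcommQ : ∀ p q : T ⧸ V, p * q = q * p := fun p q => by
    rw [← hinvQ (p * q), mul_inv_rev, hinvQ, hinvQ]
  have hmapx : ∀ p q : T, (p : T ⧸ V) = q → ((x p : T) : T ⧸ V) = (x q : T) := fun p q e => by
    refine QuotientGroup.eq.2 ?_
    rw [← map_inv, ← map_mul]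
    exact hxV _ (QuotientGroup.eq.1 e)
  have hmapρ : ∀ p q : T, (p : T ⧸ V) = q → ((ρ p : T) : T ⧸ V) = (ρ q : T) := fun p q e => by
    refine QuotientGroup.eq.2 ?_
    rw [← map_inv, ← map_mul]
    exact hV.inv _ (QuotientGroup.eq.1 e)
  -- a class and its image are not both fixed
  have nofix : ∀ w : T, ((x w : T) : T ⧸ V) = w → ((x (ρ w) : T) : T ⧸ V) = (ρ w : T) → w ∈ V := by
    intro w h1 h2
    rw [hxρ, hmapρ _ _ (hmapρ _ _ h1)] at h2
    have := hV.inv _ (hV.inv _ (mem_of_fixed_mod h.fix hV.inv (QuotientGroup.eq.1 h2.symm)))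
    rwa [h.cube] at this
  have hprodfix : ∀ w : T, ((x (w * x w) : T) : T ⧸ V) = ((w * x w : T) : T ⧸ V) := fun w => by
    rw [map_mul, hxx, QuotientGroup.mk_mul, QuotientGroup.mk_mul, hcommQ]
  -- a fixed element outside `V`
  obtain ⟨w₀, hw₀⟩ : ∃ w, w ∉ V := by
    by_contra hall
    push Not at hall
    obtain ⟨p, q, hpq⟩ := H.nonab
    exact hpq (hc q (hall q) p)
  obtain ⟨a, hxa, ha⟩ : ∃ a, x a = a ∧ a ∉ V := by
    obtain ⟨m, hm, hmV⟩ : ∃ m : T, ((x m : T) : T ⧸ V) = m ∧ m ∉ V := by
      by_contra hall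
      push Not at hall
      refine hw₀ (nofix w₀ ?_ ?_)
      · have h1 := (QuotientGroup.eq_one_iff _).2 (hall _ (hprodfix w₀))
        rw [QuotientGroup.mk_mul] at h1
        rw [← inv_eq_of_mul_eq_one_right h1, hinvQ]
      · have h1 := (QuotientGroup.eq_one_iff _).2 (hall _ (hprodfix (ρ w₀)))
        rw [QuotientGroup.mk_mul] at h1
        rw [← inv_eq_of_mul_eq_one_right h1, hinvQ]
    obtain ⟨a, hxa, hav⟩ := lift m (QuotientGroup.eq.1 hm.symm)
    exact ⟨a, hxa, fun e => hmV (by
      have := V.mul_mem e (V.inv_mem hav)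
      rwa [mul_inv_rev, inv_inv, ← mul_assoc, mul_inv_cancel, one_mul] at this)⟩
  set U := V ⊔ closure {a, ρ a} with hU
  have haU : a ∈ U := le_sup_right (a := V) (subset_closure (by simp))
  have hraU : ρ a ∈ U := le_sup_right (a := V) (subset_closure (by simp))
  have hVU : V ≤ U := le_sup_left
  obtain ⟨⟨w₁, hw₁⟩, hstep⟩ := H.step a ha
  obtain ⟨b, hxb, hb⟩ : ∃ b, x b = b ∧ b ∉ U := by
    obtain ⟨m, hm, hmU⟩ : ∃ m : T, ((x m : T) : T ⧸ V) = m ∧ m ∉ U := by
      by_cases h1 : w₁ * x w₁ ∈ U
      · by_cases h2 : w₁ * x w₁ ∈ V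
        · refine ⟨w₁, ?_, hw₁⟩
          have h3 := (QuotientGroup.eq_one_iff _).2 h2
          rw [QuotientGroup.mk_mul] at h3
          rw [← inv_eq_of_mul_eq_one_right h3, hinvQ]
        · refine ⟨ρ w₁ * x (ρ w₁), hprodfix _, fun hmem => ?_⟩
          -- the product is congruent to `w₁` modulo `U`
          have hUinv : ∀ y ∈ U, ρ y ∈ U := by
            have : U ≤ U.comap ρ.toMonoidHom := by
              refine sup_le (fun v hv => hVU (hV.inv v hv)) ((closure_le _).2 ?_)
              intro y hy
              simp only [Set.mem_insert_iff, Set.mem_singleton_iff] at hy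
              rcases hy with rfl | rfl
              · exact hraU
              · show ρ (ρ a) ∈ U
                rw [h.rho_sq]
                exact U.inv_mem (U.mul_mem haU hraU)
            exact fun y hy => this hy
          rw [hxρ] at hmem
          have h3 := hUinv _ (hUinv _ h1)
          rw [map_mul, map_mul] at h3
          have h4 : ρ w₁ * (ρ (ρ w₁))⁻¹ ∈ U := by
            have := U.mul_mem hmem (U.inv_mem h3)
            rwa [show ρ w₁ * ρ (ρ (x w₁)) * (ρ (ρ w₁) * ρ (ρ (x w₁)))⁻¹ = ρ w₁ * (ρ (ρ w₁))⁻¹ by group] at this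
          have h5 : (ρ w₁)⁻¹ * ρ (ρ w₁) ∈ U := by
            rw [show (ρ w₁)⁻¹ * ρ (ρ w₁) = (ρ w₁)⁻¹ * (ρ w₁ * (ρ (ρ w₁))⁻¹)⁻¹ * ρ w₁ by group]
            obtain ⟨c, hcV, he⟩ := H.exists_swap (ρ w₁) (ρ w₁ * (ρ (ρ w₁))⁻¹)⁻¹
            rw [mul_assoc, he, ← mul_assoc, ← mul_assoc, inv_mul_cancel, one_mul]
            exact U.mul_mem (U.inv_mem h4) (hVU hcV)
          have h6 := hUinv _ (hUinv _ (mem_of_fixed_mod h.fix hUinv h5))
          rw [h.cube] at h6
          exact hw₁ h6
      · exact ⟨_, hprodfix w₁, h1⟩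
    obtain ⟨b, hxb, hbv⟩ := lift m (QuotientGroup.eq.1 hm.symm)
    refine ⟨b, hxb, fun e => hmU ?_⟩
    have := U.mul_mem e (U.inv_mem (hVU hbv))
    rwa [mul_inv_rev, inv_inv, ← mul_assoc, mul_inv_cancel, one_mul] at this
  obtain ⟨E, hE, hE1, he, hf, hf', -, -⟩ := hstep b hb
  have hEu : E = u := by
    have := congrArg x he
    rw [map_mul, map_mul, map_mul, hxa, hxb, he] at this
    exact (hfixV E hE (mul_left_cancel this).symm).resolve_left hE1
  subst hEu
  refine ⟨?_, fun C hC => ?_⟩
  · rcases hfixV _ (H.sq_mem a) (by rw [map_mul, hxa]) with hA | hA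
    · exact ⟨a, ha, hA⟩
    rcases hfixV _ (H.sq_mem b) (by rw [map_mul, hxb]) with hB | hB
    · exact ⟨b, fun e => hb (hVU e), hB⟩
    refine ⟨a * ρ b, fun e => hb ?_, ?_⟩
    · have h1 : ρ b ∈ U := by
        have := U.mul_mem (U.inv_mem haU) (hVU e)
        rwa [inv_mul_cancel_left] at this
      have : U ≤ U.comap ρ.toMonoidHom := by
        refine sup_le (fun v hv => hVU (hV.inv v hv)) ((closure_le _).2 ?_)
        intro y hy
        simp only [Set.mem_insert_iff, Set.mem_singleton_iff] at hy
        rcases hy with rfl | rfl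
        · exact hraU
        · show ρ (ρ a) ∈ U
          rw [h.rho_sq]
          exact U.inv_mem (U.mul_mem haU hraU)
      have h2 : ρ (ρ (ρ b)) ∈ U := this (this h1)
      rwa [h.cube] at h2
    · calc a * ρ b * (a * ρ b) = a * (ρ b * a) * ρ b := by group
        _ = a * a * ρ b * (ρ (ρ E) * ρ b) := by rw [hf']; group
        _ = a * a * (ρ b * ρ b) * ρ (ρ E) := by
          rw [← hc _ (hV.inv _ (hV.inv _ hE)) (ρ b)]; group
        _ = 1 := by rw [hA, ← map_mul, hB, h.norm]
  · -- the group of fixed points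
    let π : C →* T ⧸ V := (QuotientGroup.mk' V).comp C.subtype
    have hk : Nat.card π.ker = 2 := by
      rw [Nat.card_eq_two_iff' (1 : π.ker)]
      refine ⟨⟨⟨E, (hC E).2 hxu⟩, (QuotientGroup.eq_one_iff _).2 hE⟩,
        fun e => hE1 (congrArg (fun t : π.ker => ((t : C) : T)) e), fun t ht => ?_⟩
      apply Subtype.ext; apply Subtype.ext
      refine (hfixV _ ((QuotientGroup.eq_one_iff _).1 t.2) ((hC _).1 (t : C).2)).resolve_left fun e => ht ?_
      exact Subtype.ext (Subtype.ext e)
    have hr4 : Nat.card π.range = 4 := by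
      refine le_antisymm ?_ ?_
      · let F : π.range × π.range → T ⧸ V := fun p =>
          (p.1 : T ⧸ V) * QuotientGroup.congr V V ρ
            (Subgroup.eq_of_le_of_card_ge (by rintro _ ⟨v, hv, rfl⟩; exact hV.inv v hv)
              (Subgroup.card_map_of_injective ρ.injective).ge) (p.2 : T ⧸ V)
        have hF : Function.Injective F := by
          rintro ⟨⟨_, p, rfl⟩, ⟨_, q, rfl⟩⟩ ⟨⟨_, p', rfl⟩, ⟨_, q', rfl⟩⟩ e
          have e' : ((p : T) : T ⧸ V) * ((ρ q : T) : T ⧸ V) = ((p' : T) : T ⧸ V) * ((ρ q' : T) : T ⧸ V) := e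
          have hd : ((((q' : T) * (q : T)⁻¹) : T)) ∈ V := by
            refine nofix _ ?_ ?_
            · rw [map_mul, map_inv, (hC _).1 q.2, (hC _).1 q'.2]
            · have e2 : ((ρ ((q' : T) * (q : T)⁻¹) : T) : T ⧸ V) = ((((p' : T))⁻¹ * (p : T) : T) : T ⧸ V) := by
                rw [map_mul, map_inv, QuotientGroup.mk_mul, QuotientGroup.mk_inv, QuotientGroup.mk_mul,
                  QuotientGroup.mk_inv]
                rw [eq_inv_mul_iff_mul_eq, ← mul_assoc, ← e', mul_inv_cancel_right]
              rw [hmapx _ _ e2, e2, map_mul, map_inv, (hC _).1 p.2, (hC _).1 p'.2]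
          have hqq : ((q : T) : T ⧸ V) = ((q' : T) : T ⧸ V) := by
            have := (QuotientGroup.eq_one_iff _).2 hd
            rw [QuotientGroup.mk_mul, QuotientGroup.mk_inv] at this
            exact (mul_inv_eq_one.1 this).symm
          rw [hmapρ _ _ hqq] at e'
          have hpp := mul_right_cancel e'
          exact Prod.ext (Subtype.ext hpp) (Subtype.ext hqq)
        have h1 := Nat.card_le_card_of_injective F hF
        have h2 := Subgroup.card_eq_card_quotient_mul_card_subgroup V
        rw [H.card, hV.card] at h2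
        rw [Nat.card_prod] at h1
        by_contra h5
        have : 5 * 5 ≤ Nat.card π.range * Nat.card π.range := Nat.mul_le_mul (by omega) (by omega)
        omega
      · haveI : Fintype π.range := Fintype.ofFinite _
        have hab1 : ((a * b : T) : T ⧸ V) ≠ 1 := fun e => hb (by
          have := U.mul_mem (U.inv_mem haU) (hVU ((QuotientGroup.eq_one_iff _).1 e))
          rwa [inv_mul_cancel_left] at this)
        have na : ((a : T) : T ⧸ V) ≠ 1 := fun e => ha ((QuotientGroup.eq_one_iff _).1 e)
        have nb : ((b : T) : T ⧸ V) ≠ 1 := fun e => hb (hVU ((QuotientGroup.eq_one_iff _).1 e))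
        have nab : ((a : T) : T ⧸ V) ≠ b := fun e => hb (by
          have := U.mul_mem haU (hVU (QuotientGroup.eq.1 e))
          rwa [mul_inv_cancel_left] at this)
        let pa : π.range := ⟨_, ⟨a, (hC a).2 hxa⟩, rfl⟩
        let pb : π.range := ⟨_, ⟨b, (hC b).2 hxb⟩, rfl⟩
        have d1 : pa ≠ 1 := fun e => na (congrArg Subtype.val e)
        have d2 : pb ≠ 1 := fun e => nb (congrArg Subtype.val e)
        have d3 : pa ≠ pb := fun e => nab (congrArg Subtype.val e)
        have d4 : pa * pb ≠ 1 := fun e => hab1 (congrArg Subtype.val e)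
        have h4 : ({1, pa, pb, pa * pb} : Finset π.range).card = 4 := by
          simp [Finset.card_insert_of_notMem, Ne.symm d1, Ne.symm d2, d3, Ne.symm d4, d1, d2]
        rw [Nat.card_eq_fintype_card, ← h4]
        exact Finset.card_le_univ _
    have hcard : Nat.card C = 8 := by
      have h1 := π.ker.card_mul_index
      rw [Subgroup.index_ker, hk, hr4] at h1
      omega
    refine eight hcard ⟨a, (hC a).2 hxa⟩ ⟨b, (hC b).2 hxb⟩ fun e => hE1 ?_
    have e' : a * b = b * a := congrArg Subtype.val e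
    rw [he] at e'
    exact mul_eq_left.1 e'.symm

/-- An invariant subgroup has order congruent to one modulo three. -/
theorem card_mod_three [Finite T] {ρ : T ≃* T} (h : FpfCube ρ) (X : Subgroup T) (hX : ∀ y ∈ X, ρ y ∈ X) :
    Nat.card X % 3 = 1 := by
  classical
  haveI : Fact (Nat.Prime 3) := ⟨Nat.prime_three⟩
  haveI : Fintype X := Fintype.ofFinite X
  let σ : Equiv.Perm X :=
    { toFun := fun y => ⟨ρ y, hX _ y.2⟩
      invFun := fun y => ⟨ρ (ρ y), hX _ (hX _ y.2)⟩
      left_inv := fun y => Subtype.ext (h.cube y)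
      right_inv := fun y => Subtype.ext (h.cube y) }
  have hσ : σ ^ 3 ^ 1 = 1 := Equiv.ext fun y => Subtype.ext (h.cube y)
  have h1 := Equiv.Perm.card_compl_support_modEq hσ
  have h2 : σ.supportᶜ = {1} := by
    ext y
    simp only [Finset.mem_compl, Equiv.Perm.mem_support, not_not, Finset.mem_singleton]
    constructor
    · intro e; exact Subtype.ext (h.fix y (congrArg Subtype.val e))
    · rintro rfl; exact Subtype.ext (map_one ρ)
  rw [h2, Finset.card_singleton] at h1
  rw [Nat.card_eq_fintype_card]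
  exact h1.symm

/-- An invariant normal subgroup of index four, together with any outside element and its image, generates. -/
theorem gen_index_four [Finite T] {ρ : T ≃* T} (h : FpfCube ρ) (N : Subgroup T) (hN : ∀ y ∈ N, ρ y ∈ N)
    (h4 : N.index = 4) {a : T} (ha : a ∉ N) : Subgroup.closure ((N : Set T) ∪ {a, ρ a}) = ⊤ := by
  classical
  set H := Subgroup.closure ((N : Set T) ∪ {a, ρ a})
  have hle : N ≤ H := fun y hy => Subgroup.subset_closure (Or.inl hy)
  have haH : a ∈ H := Subgroup.subset_closure (by simp)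
  have hHinv : ∀ y ∈ H, ρ y ∈ H := by
    have : H ≤ H.comap ρ.toMonoidHom := by
      rw [Subgroup.closure_le]
      intro y hy
      simp only [Set.mem_union, SetLike.mem_coe, Set.mem_insert_iff, Set.mem_singleton_iff] at hy
      rcases hy with hy | rfl | rfl
      · exact hle (hN y hy)
      · exact Subgroup.subset_closure (by simp)
      · show ρ (ρ a) ∈ H
        rw [h.rho_sq]
        exact inv_mem (mul_mem haH (Subgroup.subset_closure (by simp)))
    exact fun y hy => this hy
  -- the index of `H` is one, two or four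
  have hmul : N.relIndex H * H.index = 4 := by rw [Subgroup.relIndex_mul_index hle, h4]
  have hne : N.relIndex H ≠ 1 := fun e => ha (Subgroup.relIndex_eq_one.1 e haH)
  have hH : Nat.card H % 3 = 1 := card_mod_three h H hHinv
  have hN' : Nat.card N % 3 = 1 := card_mod_three h N hN
  have hr : Nat.card N * N.relIndex H = Nat.card H := by
    rw [← Nat.card_congr (Subgroup.subgroupOfEquivOfLe hle).toEquiv]
    exact (N.subgroupOf H).card_mul_index
  have hr3 : N.relIndex H % 3 = 1 := by
    have e := congrArg (· % 3) hr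
    simp only [Nat.mul_mod, hN', hH, one_mul, Nat.mod_mod] at e
    exact e
  have hd : N.relIndex H ∣ 4 := ⟨_, hmul.symm⟩
  have : N.relIndex H ≤ 4 := Nat.le_of_dvd (by norm_num) hd
  refine Subgroup.index_eq_one.1 ?_
  interval_cases N.relIndex H <;> omega

/-- A group generated by central elements, an element and its image is commutative. -/
theorem comm_of_gen [Finite T] {ρ : T ≃* T} (h : FpfCube ρ) (N : Subgroup T) (hc : N ≤ Subgroup.center T) {a : T}
    (hgen : Subgroup.closure ((N : Set T) ∪ {a, ρ a}) = ⊤) : IsMulCommutative T := by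
  haveI : IsMulCommutative (Subgroup.closure ((N : Set T) ∪ {a, ρ a})) := Subgroup.isMulCommutative_closure (by
    have key : ∀ p ∈ ((N : Set T) ∪ {a, ρ a}), p ∈ N ∨ p = a ∨ p = ρ a := by
      intro p hp; simp at hp; tauto
    intro p hp q hq
    rcases key p hp with hp | hp | hp
    · exact (Subgroup.mem_center_iff.1 (hc hp) q).symm
    all_goals rcases key q hq with hq | hq | hq
    all_goals try exact Subgroup.mem_center_iff.1 (hc hq) _
    all_goals rw [hp, hq]
    exacts [h.comm a, (h.comm a).symm])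
  have hall : ∀ z, z ∈ Subgroup.closure ((N : Set T) ∪ {a, ρ a}) := fun z => by rw [hgen]; trivial
  exact ⟨⟨fun y z => Subtype.ext_iff.1 (mul_comm' (⟨y, hall y⟩ : Subgroup.closure ((N : Set T) ∪ {a, ρ a})) ⟨z, hall z⟩)⟩⟩

/-- A nonabelian group of order 64 with a fixed-point-free automorphism of order three is of this kind. -/
theorem hyp64_of_fpf [Finite T] {ρ : T ≃* T} (h : FpfCube ρ) (hT : Nat.card T = 64)
    (hna : ¬ IsMulCommutative T) : Hyp64 ρ (Subgroup.center T) := by
  classical
  haveI : Fact (Nat.Prime 2) := ⟨Nat.prime_two⟩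
  have hp : IsPGroup 2 T := IsPGroup.of_card (n := 6) (hT.trans (by norm_num))
  set Z := Subgroup.center T with hZ
  have hZinv : ∀ y ∈ Z, ρ y ∈ Z := fun y hy => Subgroup.mem_center_iff.2 fun z => by
    obtain ⟨w, rfl⟩ := ρ.surjective z
    rw [← map_mul, ← map_mul, Subgroup.mem_center_iff.1 hy w]
  haveI : Nontrivial T := Finite.one_lt_card_iff_nontrivial.1 (by omega)
  have hmul : Z.index * Nat.card Z = 64 := by rw [Subgroup.index_mul_card, hT]
  have hne : Nat.card Z ≠ 1 := by
    haveI := hp.center_nontrivial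
    exact (Finite.one_lt_card (α := Z)).ne'
  have hnZ : Z.index ≠ 4 := fun e => by
    obtain ⟨a, ha⟩ : ∃ a, a ∉ Z := by
      by_contra hall
      push Not at hall
      rw [(Subgroup.eq_top_iff' Z).2 hall, Subgroup.index_top] at e
      omega
    exact hna (comm_of_gen h Z le_rfl (gen_index_four h Z hZinv e ha))
  have hn1 : Z.index ≠ 1 := fun e => hna ⟨⟨fun y z => by
    have hy : z ∈ Z := by rw [Subgroup.index_eq_one.1 e]; trivial
    exact Subgroup.mem_center_iff.1 hy y⟩⟩
  have hZ4 : Nat.card Z = 4 := by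
    obtain ⟨k, hk⟩ := IsPGroup.iff_card.1 (hp.to_subgroup Z)
    have h3 := card_mod_three h Z hZinv
    have : k ≤ 6 := (Nat.pow_dvd_pow_iff_le_right (by norm_num : 1 < 2)).1
      (show 2 ^ k ∣ 2 ^ 6 from hk ▸ (by rw [show (2 : ℕ) ^ 6 = Nat.card T by rw [hT]; norm_num]; exact Subgroup.card_subgroup_dvd_card Z))
    rw [hk] at hmul hne h3 ⊢
    interval_cases k <;> omega
  have hsq : ∀ v ∈ Z, v * v = 1 := by
    let E : Subgroup T :=
      { carrier := {z | z ∈ Z ∧ z * z = 1}
        one_mem' := ⟨Z.one_mem, one_mul 1⟩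
        mul_mem' := fun {y z} hy hz => ⟨Z.mul_mem hy.1 hz.1, by
          calc y * z * (y * z) = y * (z * y) * z := by group
            _ = (y * y) * (z * z) := by rw [Subgroup.mem_center_iff.1 hy.1 z]; group
            _ = _ := by rw [hy.2, hz.2, one_mul]⟩
        inv_mem' := fun {y} hy => ⟨Z.inv_mem hy.1, by rw [← mul_inv_rev, hy.2, inv_one]⟩ }
    have hE : E ≤ Z := fun y hy => hy.1
    have h3 := card_mod_three h E fun y hy => ⟨hZinv y hy.1, by rw [← map_mul, hy.2, map_one]⟩
    have hle := Subgroup.card_le_of_le hE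
    obtain ⟨z, hz⟩ := exists_prime_orderOf_dvd_card' (G := Z) 2 (by rw [hZ4]; norm_num)
    have hzE : (z : T) ∈ E := ⟨z.2, by
      have := pow_orderOf_eq_one z
      rw [hz, pow_two] at this
      exact congrArg Subtype.val this⟩
    have : 1 < Nat.card E := Finite.one_lt_card_iff_nontrivial.2 ⟨⟨⟨z, hzE⟩, 1, fun e => by
      have : z = 1 := Subtype.ext (congrArg (fun t : E => (t : T)) e)
      rw [this, orderOf_one] at hz; omega⟩⟩
    have hEq : E = Z := Subgroup.eq_of_le_of_card_ge hE (by omega)
    intro v hv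
    rw [← hEq] at hv
    exact hv.2
  -- the quotient by the centre is elementary abelian
  let ρb : T ⧸ Z ≃* T ⧸ Z := QuotientGroup.congr Z Z ρ (Subgroup.eq_of_le_of_card_ge
    (by rintro _ ⟨v, hv, rfl⟩; exact hZinv v hv) (Subgroup.card_map_of_injective ρ.injective).ge)
  have ρb_mk : ∀ y : T, ρb (y : T ⧸ Z) = ((ρ y : T) : T ⧸ Z) := fun y => rfl
  have hb : FpfCube ρb := by
    refine ⟨fun q => ?_, fun q hq => ?_⟩
    · obtain ⟨y, rfl⟩ := QuotientGroup.mk_surjective q
      rw [ρb_mk, ρb_mk, ρb_mk, h.cube]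
    · obtain ⟨y, rfl⟩ := QuotientGroup.mk_surjective q
      rw [ρb_mk] at hq
      exact (QuotientGroup.eq_one_iff y).2 (mem_of_fixed_mod h.fix hZinv (QuotientGroup.eq.1 hq.symm))
  have hQ : Nat.card (T ⧸ Z) = 16 := by
    have h1 := Subgroup.card_eq_card_quotient_mul_card_subgroup Z
    rw [hT, hZ4] at h1
    omega
  have hQp : IsPGroup 2 (T ⧸ Z) := hp.to_quotient Z
  haveI : Nontrivial (T ⧸ Z) := Finite.one_lt_card_iff_nontrivial.1 (by omega)
  have hab : ∀ p q : T ⧸ Z, p * q = q * p := by
    set W := Subgroup.center (T ⧸ Z)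
    have hWinv : ∀ y ∈ W, ρb y ∈ W := fun y hy => Subgroup.mem_center_iff.2 fun z => by
      obtain ⟨w, rfl⟩ := ρb.surjective z
      rw [← map_mul, ← map_mul, Subgroup.mem_center_iff.1 hy w]
    by_cases hW : W = ⊤
    · exact fun p q => Subgroup.mem_center_iff.1 (show q ∈ W by rw [hW]; trivial) p
    · obtain ⟨q₀, hq₀⟩ : ∃ q, q ∉ W := by
        by_contra hall
        push Not at hall
        exact hW ((Subgroup.eq_top_iff' W).2 hall)
      have h1 : W.index * Nat.card W = 16 := by rw [Subgroup.index_mul_card, hQ]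
      have h2 := card_mod_three hb W hWinv
      have h3 : 1 < Nat.card W := by
        haveI := hQp.center_nontrivial
        exact Finite.one_lt_card
      have h4 : W.index ≠ 1 := fun e => hW (Subgroup.index_eq_one.1 e)
      have hWle : Nat.card W ≤ 16 := hQ ▸ Subgroup.card_le_card_group W
      have hidx : W.index = 4 := by
        interval_cases hc : Nat.card W <;> omega
      have := comm_of_gen hb W le_rfl (gen_index_four hb W hWinv hidx hq₀)
      exact fun p q => this.is_comm.comm p q
  refine ⟨h, ⟨hZ4, hsq, fun v hv y => Subgroup.mem_center_iff.1 hv y, hZinv⟩, hT, fun y => ?_, ?_⟩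
  · rw [← QuotientGroup.eq_one_iff, QuotientGroup.mk_mul]
    letI : CommGroup (T ⧸ Z) := { (inferInstance : Group (T ⧸ Z)) with mul_comm := hab }
    let g : T ⧸ Z →* T ⧸ Z := powMonoidHom 2
    suffices hg : g.ker = ⊤ by
      have : ((y : T ⧸ Z)) ^ 2 = 1 := (hg ▸ Subgroup.mem_top _ : (y : T ⧸ Z) ∈ g.ker)
      rwa [pow_two] at this
    by_contra hne'
    obtain ⟨q, hq⟩ : ∃ q, q ∉ g.ker := by
      by_contra hall
      push Not at hall
      exact hne' ((Subgroup.eq_top_iff' _).2 hall)
    have hKinv : ∀ y ∈ g.ker, ρb y ∈ g.ker := fun y hy => by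
      rw [MonoidHom.mem_ker, powMonoidHom_apply] at hy ⊢
      rw [← map_pow, hy, map_one]
    have h1 : g.ker.index * Nat.card g.ker = 16 := by rw [Subgroup.index_mul_card, hQ]
    have h2 := card_mod_three hb g.ker hKinv
    have h4 : g.ker.index ≠ 1 := fun e => hne' (Subgroup.index_eq_one.1 e)
    obtain ⟨z, hz⟩ := exists_prime_orderOf_dvd_card' (G := T ⧸ Z) 2 (by rw [hQ]; norm_num)
    have hz1 : z ∈ g.ker := by
      rw [MonoidHom.mem_ker, powMonoidHom_apply, ← hz, pow_orderOf_eq_one]
    have h3 : 1 < Nat.card g.ker := Finite.one_lt_card_iff_nontrivial.2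
      ⟨⟨⟨z, hz1⟩, 1, fun e => by rw [show z = 1 from congrArg Subtype.val e, orderOf_one] at hz; omega⟩⟩
    have hKle : Nat.card g.ker ≤ 16 := hQ ▸ Subgroup.card_le_card_group g.ker
    have hidx : g.ker.index = 4 ∧ Nat.card g.ker = 4 := by
      interval_cases hc : Nat.card g.ker <;> omega
    -- the kernel is in the subgroup generated by `q` and its image
    set Hq := Subgroup.closure {q, ρb q}
    have hHinv : ∀ y ∈ Hq, ρb y ∈ Hq := by
      have : Hq ≤ Hq.comap ρb.toMonoidHom := by
        rw [Subgroup.closure_le]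
        intro w hw
        simp only [Set.mem_insert_iff, Set.mem_singleton_iff] at hw
        rcases hw with rfl | rfl
        · exact Subgroup.subset_closure (by simp)
        · show ρb (ρb q) ∈ Hq
          rw [hb.rho_sq]
          exact inv_mem (mul_mem (Subgroup.subset_closure (by simp)) (Subgroup.subset_closure (by simp)))
      exact fun y hy => this hy
    have hKH : g.ker ≤ Hq := by
      have hq2 : q ^ 2 ∈ g.ker := by
        have h5 : (q ^ 2) ^ 2 = 1 := by
          have hr : g.range ≤ g.ker := by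
            have hr2 : Nat.card g.range = 4 := by rw [← Subgroup.index_ker]; exact hidx.1
            intro r hr
            by_contra hrk
            -- otherwise the image is generated by `r`, of order at most four
            have h6 : r ^ 4 = 1 := by
              have := pow_card_eq_one' (x := (⟨r, hr⟩ : g.range))
              rw [hr2] at this
              exact congrArg Subtype.val this
            have h7 : r ^ 2 ≠ 1 := fun e => hrk e
            -- two involutions in the image, `r²` and its image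
            let R := g.range
            have hR2 : (r ^ 2) ∈ g.range ⊓ g.ker := ⟨Subgroup.pow_mem _ hr 2,
              MonoidHom.mem_ker.2 (by rw [powMonoidHom_apply, ← pow_mul]; exact h6)⟩
            have hinv' : ∀ y ∈ g.range ⊓ g.ker, ρb y ∈ g.range ⊓ g.ker := by
              rintro y ⟨⟨w, rfl⟩, hyk⟩
              exact ⟨⟨ρb w, (map_pow ρb w 2).symm⟩, hKinv _ hyk⟩
            have h8 := card_mod_three hb _ hinv'
            have h9 : 1 < Nat.card (g.range ⊓ g.ker : Subgroup (T ⧸ Z)) :=
              Finite.one_lt_card_iff_nontrivial.2 ⟨⟨⟨_, hR2⟩, 1, fun e => h7 (congrArg Subtype.val e)⟩⟩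
            have h10 := Subgroup.card_le_of_le (inf_le_left : g.range ⊓ g.ker ≤ g.range)
            have h11 : g.range ⊓ g.ker = g.range := Subgroup.eq_of_le_of_card_ge inf_le_left (by omega)
            exact hrk ((h11.symm ▸ hr : r ∈ g.range ⊓ g.ker).2)
          exact hr ⟨q, rfl⟩
        exact h5
      have hinv' : ∀ y ∈ g.ker ⊓ Hq, ρb y ∈ g.ker ⊓ Hq := fun y hy => ⟨hKinv _ hy.1, hHinv _ hy.2⟩
      have h8 := card_mod_three hb _ hinv'
      have h9 : 1 < Nat.card (g.ker ⊓ Hq : Subgroup (T ⧸ Z)) :=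
        Finite.one_lt_card_iff_nontrivial.2 ⟨⟨⟨q ^ 2, hq2, pow_mem (Subgroup.subset_closure (by simp)) 2⟩, 1,
          fun e => hq (congrArg Subtype.val e)⟩⟩
      have h10 := Subgroup.card_le_of_le (inf_le_left : g.ker ⊓ Hq ≤ g.ker)
      have h11 : g.ker ⊓ Hq = g.ker := Subgroup.eq_of_le_of_card_ge inf_le_left (by omega)
      exact h11 ▸ inf_le_right
    have hgenQ : Hq = ⊤ := by
      rw [← top_le_iff, ← gen_index_four hb g.ker hKinv hidx.1 hq, Subgroup.closure_le]
      rintro w (hw | hw)
      · exact hKH hw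
      · exact Subgroup.subset_closure hw
    obtain ⟨a, rfl⟩ := QuotientGroup.mk_surjective q
    refine hna (comm_of_gen h Z le_rfl (a := a) ((Subgroup.eq_top_iff' _).2 fun w => ?_))
    have hle : Hq ≤ (Subgroup.closure ((Z : Set T) ∪ {a, ρ a})).map (QuotientGroup.mk' Z) := by
      rw [Subgroup.closure_le]
      intro r hr
      simp only [Set.mem_insert_iff, Set.mem_singleton_iff] at hr
      rcases hr with rfl | rfl
      · exact ⟨a, Subgroup.subset_closure (by simp), rfl⟩
      · exact ⟨ρ a, Subgroup.subset_closure (by simp), rfl⟩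
    obtain ⟨w', hw', e⟩ := hle (show (w : T ⧸ Z) ∈ Hq by rw [hgenQ]; trivial)
    have := mul_mem hw' (Subgroup.subset_closure (Or.inl (QuotientGroup.eq.1 e)))
    rwa [mul_inv_cancel_left] at this
  · by_contra hall
    push Not at hall
    exact hna ⟨⟨hall⟩⟩

end Cfsg.Lib.TwoFour
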