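import Cfsg.Agent.Lib.TwoFour.Targets
import Cfsg.Agent.Lib.Solv.GaschutzAbelian
import Cfsg.Agent.Lib.Spec.SLTwo
import Cfsg.Prelude.Def_Transfer

/-!
# Elementary abelian subgroups of order 16 in `PSL₃(4)` and in its 2-covers
-/

set_option autoImplicit false
set_option maxHeartbeats 1000000
set_option linter.unusedSectionVars false
set_option linter.style.haveILetI false

open Matrix

namespace Cfsg.Lib.TwoFour.LThreeFour

universe u

variable {F : Type u} [Field F] [Fintype F]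

local notation "G3" => Matrix.ProjectiveSpecialLinearGroup (Fin 3) F
local notation "SL3" => Matrix.SpecialLinearGroup (Fin 3) F
local notation "SL2" => Matrix.SpecialLinearGroup (Fin 2) F

theorem two_zero (hF : Fintype.card F = 4) : (2 : F) = 0 := by
  have h := Nat.cast_card_eq_zero F
  rw [hF] at h
  have h4 : (2 : F) ^ 2 = 0 := by rw [← h]; norm_num
  exact (pow_eq_zero_iff two_ne_zero).1 h4

theorem add_self' (hF : Fintype.card F = 4) (x : F) : x + x = 0 := by linear_combination x * two_zero hF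

theorem ptri_one : ptri (0 : F) 0 0 = 1 := ptri_zero

/-- the upper unitriangular subgroup -/
def upper (F : Type u) [Field F] : Subgroup (Matrix.ProjectiveSpecialLinearGroup (Fin 3) F) where
  carrier := {g | ∃ x y z : F, ptri x y z = g}
  one_mem' := ⟨0, 0, 0, ptri_zero⟩
  mul_mem' := by rintro _ _ ⟨x, y, z, rfl⟩ ⟨x', y', z', rfl⟩; exact ⟨_, _, _, (ptri_mul ..).symm⟩
  inv_mem' := by
    rintro _ ⟨x, y, z, rfl⟩
    refine ⟨-x, -y, -z + x * y, (inv_eq_of_mul_eq_one_right ?_).symm⟩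
    rw [ptri_mul, ← ptri_zero]; congr 1 <;> ring

/-- the last column -/
def colSub (F : Type u) [Field F] : Subgroup (Matrix.ProjectiveSpecialLinearGroup (Fin 3) F) where
  carrier := {g | ∃ y z : F, ptri 0 y z = g}
  one_mem' := ⟨0, 0, ptri_zero⟩
  mul_mem' := by
    rintro _ _ ⟨y, z, rfl⟩ ⟨y', z', rfl⟩
    exact ⟨y + y', z + z', by rw [ptri_mul]; congr 1 <;> ring⟩
  inv_mem' := by
    rintro _ ⟨y, z, rfl⟩
    refine ⟨-y, -z, (inv_eq_of_mul_eq_one_right ?_).symm⟩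
    rw [ptri_mul, ← ptri_zero]; congr 1 <;> ring

/-- the first row -/
def rowSub (F : Type u) [Field F] : Subgroup (Matrix.ProjectiveSpecialLinearGroup (Fin 3) F) where
  carrier := {g | ∃ x z : F, ptri x 0 z = g}
  one_mem' := ⟨0, 0, ptri_zero⟩
  mul_mem' := by
    rintro _ _ ⟨x, z, rfl⟩ ⟨x', z', rfl⟩
    exact ⟨x + x', z + z', by rw [ptri_mul]; congr 1 <;> ring⟩
  inv_mem' := by
    rintro _ ⟨x, z, rfl⟩
    refine ⟨-x, -z, (inv_eq_of_mul_eq_one_right ?_).symm⟩
    rw [ptri_mul, ← ptri_zero]; congr 1 <;> ring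

theorem card_colSub (hF : Fintype.card F = 4) : Nat.card (colSub F) = 16 := by
  have : Function.Bijective (fun q : F × F => (⟨ptri 0 q.1 q.2, q.1, q.2, rfl⟩ : colSub F)) := by
    refine ⟨fun a b e => ?_, fun ⟨g, y, z, hg⟩ => ⟨(y, z), Subtype.ext hg⟩⟩
    obtain ⟨-, h2, h3⟩ := ptri_inj (congrArg Subtype.val e)
    exact Prod.ext h2 h3
  rw [← Nat.card_eq_of_bijective _ this, Nat.card_prod, Nat.card_eq_fintype_card, hF]

theorem card_rowSub (hF : Fintype.card F = 4) : Nat.card (rowSub F) = 16 := by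
  have : Function.Bijective (fun q : F × F => (⟨ptri q.1 0 q.2, q.1, q.2, rfl⟩ : rowSub F)) := by
    refine ⟨fun a b e => ?_, fun ⟨g, y, z, hg⟩ => ⟨(y, z), Subtype.ext hg⟩⟩
    obtain ⟨h2, -, h3⟩ := ptri_inj (congrArg Subtype.val e)
    exact Prod.ext h2 h3
  rw [← Nat.card_eq_of_bijective _ this, Nat.card_prod, Nat.card_eq_fintype_card, hF]

theorem card_G3 (hF : Fintype.card F = 4) : Nat.card G3 = 20160 := by
  classical
  have h1 := Cfsg.Lib.Linear.card_SL_mul (F := F) 3 (by norm_num)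
  rw [Cfsg.Lib.Linear.card_SL_eq_gcd_mul_card_PSL, hF, Fintype.card_fin] at h1
  simp [Fin.prod_univ_three] at h1
  rw [Nat.card_eq_fintype_card]
  omega

/-- Every 2-subgroup is conjugate into the unitriangular group. -/
theorem exists_conj_upper (hF : Fintype.card F = 4) (T : Subgroup G3) (hT : IsPGroup 2 T) :
    ∃ g : G3, T.map (MulAut.conj g).toMonoidHom ≤ upper F := by
  classical
  haveI : Fact (Nat.Prime 2) := ⟨Nat.prime_two⟩
  have hbij : Function.Bijective (fun p : F × F × F => (⟨ptri p.1 p.2.1 p.2.2, _, _, _, rfl⟩ : upper F)) := by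
    refine ⟨fun p q e => ?_, fun ⟨g, x, y, z, hg⟩ => ⟨(x, y, z), Subtype.ext hg⟩⟩
    obtain ⟨h1, h2, h3⟩ := ptri_inj (congrArg Subtype.val e)
    exact Prod.ext h1 (Prod.ext h2 h3)
  have hU : Nat.card (upper F) = 64 := by
    rw [← Nat.card_eq_of_bijective _ hbij, Nat.card_prod, Nat.card_prod, Nat.card_eq_fintype_card, hF]
  obtain ⟨P, hP⟩ := hT.exists_le_sylow
  have hU2 : IsPGroup 2 (upper F) := IsPGroup.of_card (n := 6) (hU.trans (by norm_num))
  obtain ⟨Q, hQ⟩ := hU2.exists_le_sylow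
  have hQU : upper F = Q := by
    refine Subgroup.eq_of_le_of_card_ge hQ ?_
    obtain ⟨k, hk⟩ := IsPGroup.iff_card.1 Q.isPGroup'
    have hdvd : 2 ^ k ∣ 64 * 315 := by
      have := Subgroup.card_subgroup_dvd_card (Q : Subgroup G3)
      rw [hk, card_G3 hF] at this
      exact this
    rw [hU, hk]
    exact Nat.le_of_dvd (by norm_num) ((Nat.Coprime.pow_left k (by norm_num : Nat.Coprime 2 315)).dvd_of_dvd_mul_right hdvd)
  obtain ⟨g, hg⟩ := MulAction.exists_smul_eq G3 P Q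
  refine ⟨g, ?_⟩
  rintro _ ⟨x, hx, rfl⟩
  rw [hQU, ← hg, Sylow.coe_subgroup_smul]
  exact ⟨x, hP hx, rfl⟩

/-- The elementary abelian subgroups of order 16 of the unitriangular group. -/
theorem eq_col_or_row (hF : Fintype.card F = 4) {E : Subgroup G3} (hE : E ≤ upper F)
    (hsq : ∀ g ∈ E, g * g = 1) (hcard : Nat.card E = 16) : E = colSub F ∨ E = rowSub F := by
  have hmem : ∀ g ∈ E, g ∈ colSub F ∨ g ∈ rowSub F := by
    intro g hg
    obtain ⟨x, y, z, rfl⟩ := hE hg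
    have h := hsq _ hg
    rw [ptri_mul, ← ptri_zero] at h
    have h3 : x * y = 0 := by linear_combination (ptri_inj h).2.2 - add_self' hF z
    rcases mul_eq_zero.1 h3 with rfl | rfl
    · exact Or.inl ⟨y, z, rfl⟩
    · exact Or.inr ⟨x, z, rfl⟩
  by_cases h1 : E ≤ colSub F
  · exact Or.inl (Subgroup.eq_of_le_of_card_ge h1 (by rw [hcard, card_colSub hF]))
  · right
    refine Subgroup.eq_of_le_of_card_ge ?_ (by rw [hcard, card_rowSub hF])
    obtain ⟨a, ha, ha'⟩ := Set.not_subset.1 h1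
    intro b hb
    by_contra hb'
    rcases hmem _ (mul_mem ha hb) with h | h
    · exact ha' (by simpa using mul_mem h (inv_mem ((hmem b hb).resolve_right hb')))
    · exact hb' (by simpa using mul_mem (inv_mem ((hmem a ha).resolve_left ha')) h)

theorem col_inf_row (g : G3) : g ∈ colSub F ⊓ rowSub F ↔ ∃ z : F, ptri 0 0 z = g := by
  constructor
  · rintro ⟨⟨y, z, rfl⟩, x, z', h⟩
    obtain ⟨-, h2, -⟩ := ptri_inj h
    exact ⟨z, by rw [← h2]⟩
  · rintro ⟨z, rfl⟩
    exact ⟨⟨0, z, rfl⟩, 0, z, rfl⟩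

/-- the central elements of the unitriangular group -/
theorem mem_inf_of_commute (hF : Fintype.card F = 4) {g : G3} (hg : g ∈ upper F)
    (hc : ∀ h ∈ colSub F ⊔ rowSub F, h * g = g * h) : g ∈ colSub F ⊓ rowSub F := by
  obtain ⟨x, y, z, rfl⟩ := hg
  have h1 := hc (ptri 0 1 0) (Subgroup.mem_sup_left ⟨1, 0, rfl⟩)
  have h2 := hc (ptri 1 0 0) (Subgroup.mem_sup_right ⟨1, 0, rfl⟩)
  rw [ptri_mul, ptri_mul] at h1 h2
  have hx : x = 0 := by linear_combination -(ptri_inj h1).2.2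
  have hy : y = 0 := by linear_combination (ptri_inj h2).2.2
  exact (col_inf_row _).2 ⟨z, by rw [hx, hy]⟩

/-- the block embedding -/
def blockHom (F : Type u) [Field F] :
    Matrix.SpecialLinearGroup (Fin 2) F →* Matrix.SpecialLinearGroup (Fin 3) F :=
  MonoidHom.mk' (fun B => ⟨!![B.1 0 0, B.1 0 1, 0; B.1 1 0, B.1 1 1, 0; 0, 0, 1], by
      have h : B.1.det = 1 := B.2
      rw [Matrix.det_fin_two] at h
      rw [Matrix.det_fin_three]
      simp
      linear_combination h⟩)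
    fun B B' => Subtype.ext (by
      show !![(B.1 * B'.1) 0 0, (B.1 * B'.1) 0 1, 0; (B.1 * B'.1) 1 0, (B.1 * B'.1) 1 1, 0; 0, 0, 1] =
        !![B.1 0 0, B.1 0 1, 0; B.1 1 0, B.1 1 1, 0; 0, 0, 1] *
          !![B'.1 0 0, B'.1 0 1, 0; B'.1 1 0, B'.1 1 1, 0; 0, 0, 1]
      ext i j
      fin_cases i <;> fin_cases j <;> simp [Matrix.mul_apply, Fin.sum_univ_three, Fin.sum_univ_two])

/-- the block embedding into the projective group -/
def blockP (F : Type u) [Field F] :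
    Matrix.SpecialLinearGroup (Fin 2) F →* Matrix.ProjectiveSpecialLinearGroup (Fin 3) F :=
  (QuotientGroup.mk' _).comp (blockHom F)

theorem blockP_injective : Function.Injective (blockP F) := by
  rw [← MonoidHom.ker_eq_bot_iff, Subgroup.eq_bot_iff_forall]
  intro B hB
  have h1 : blockHom F B ∈ Subgroup.center SL3 := (QuotientGroup.eq_one_iff _).1 hB
  rw [Matrix.SpecialLinearGroup.mem_center_iff] at h1
  obtain ⟨r, -, hr⟩ := h1
  have e : (blockHom F B).1 = !![B.1 0 0, B.1 0 1, 0; B.1 1 0, B.1 1 1, 0; 0, 0, 1] := rfl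
  rw [e] at hr
  have e22 := congrFun (congrFun hr 2) 2
  have e00 := congrFun (congrFun hr 0) 0
  have e01 := congrFun (congrFun hr 0) 1
  have e10 := congrFun (congrFun hr 1) 0
  have e11 := congrFun (congrFun hr 1) 1
  simp at e22 e00 e01 e10 e11
  refine Subtype.ext ?_
  show B.1 = 1
  ext i j
  fin_cases i <;> fin_cases j <;> simp <;> grind

theorem card_blockRange (hF : Fintype.card F = 4) : Nat.card (blockP F).range = 60 := by
  classical
  rw [← Nat.card_congr (MonoidHom.ofInjective (blockP_injective (F := F))).toEquiv]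
  have h1 := Cfsg.Lib.Linear.card_SL_mul (F := F) 2 (by norm_num)
  rw [hF] at h1
  simp [Fin.prod_univ_two] at h1
  rw [Nat.card_eq_fintype_card]
  omega

theorem blockP_ptri (B : SL2) (y z : F) :
    blockP F B * ptri 0 y z = ptri 0 (B.1 1 0 * z + B.1 1 1 * y) (B.1 0 0 * z + B.1 0 1 * y) * blockP F B := by
  show QuotientGroup.mk' _ (blockHom F B) * QuotientGroup.mk' _ (tri 0 y z) =
    QuotientGroup.mk' _ (tri 0 _ _) * QuotientGroup.mk' _ (blockHom F B)
  rw [← map_mul, ← map_mul]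
  refine congrArg _ (Subtype.ext ?_)
  show !![B.1 0 0, B.1 0 1, 0; B.1 1 0, B.1 1 1, 0; 0, 0, 1] * !![1, 0, z; 0, 1, y; 0, 0, 1] =
    !![1, 0, B.1 0 0 * z + B.1 0 1 * y; 0, 1, B.1 1 0 * z + B.1 1 1 * y; 0, 0, 1] *
      !![B.1 0 0, B.1 0 1, 0; B.1 1 0, B.1 1 1, 0; 0, 0, 1]
  ext i j
  fin_cases i <;> fin_cases j <;> simp [Matrix.mul_apply, Fin.sum_univ_three]

theorem blockP_normalizes (B : SL2) {g : G3} (hg : g ∈ colSub F) :
    blockP F B * g * (blockP F B)⁻¹ ∈ colSub F := by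
  obtain ⟨y, z, rfl⟩ := hg
  rw [blockP_ptri, mul_inv_cancel_right]
  exact ⟨_, _, rfl⟩

theorem block_inf_col : (blockP F).range ⊓ colSub F = ⊥ := by
  rw [Subgroup.eq_bot_iff_forall]
  rintro _ ⟨⟨B, rfl⟩, y, z, h⟩
  have h1 : (tri 0 y z)⁻¹ * blockHom F B ∈ Subgroup.center SL3 := QuotientGroup.eq.1 h
  rw [Matrix.SpecialLinearGroup.mem_center_iff] at h1
  obtain ⟨r, -, hr⟩ := h1
  have hinv : (tri (0 : F) y z)⁻¹ = tri 0 (-y) (-z) := inv_eq_of_mul_eq_one_right (by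
    rw [tri_mul, ← tri_zero]; congr 1 <;> ring)
  rw [hinv] at hr
  have e22 := congrFun (congrFun hr 2) 2
  have e12 := congrFun (congrFun hr 1) 2
  have e02 := congrFun (congrFun hr 0) 2
  have hval : (tri (0 : F) (-y) (-z) * blockHom F B).1 = !![1, 0, -z; 0, 1, -y; 0, 0, 1] *
      !![B.1 0 0, B.1 0 1, 0; B.1 1 0, B.1 1 1, 0; 0, 0, 1] := rfl
  rw [hval] at e22 e12 e02
  simp [Matrix.mul_apply, Fin.sum_univ_three] at e22 e12 e02
  rw [← h]
  rw [show y = 0 from e12, show z = 0 from e02, ptri_zero]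

/-- The normalizer of the last column. -/
theorem exists_decomp (hF : Fintype.card F = 4) {g : G3}
    (hg : ∀ h ∈ colSub F, g * h * g⁻¹ ∈ colSub F) : ∃ a ∈ colSub F, ∃ B, g = a * blockP F B := by
  classical
  obtain ⟨M, rfl⟩ := QuotientGroup.mk'_surjective (Subgroup.center SL3) g
  have t2 := two_zero hF
  have key : ∀ y z : F, M.1 2 0 * z + M.1 2 1 * y = 0 := by
    intro y z
    obtain ⟨y', z', h⟩ := hg (ptri 0 y z) ⟨y, z, rfl⟩
    have h1 : (tri 0 y' z')⁻¹ * (M * tri 0 y z * M⁻¹) ∈ Subgroup.center SL3 := QuotientGroup.eq.1 h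
    rw [Matrix.SpecialLinearGroup.mem_center_iff] at h1
    obtain ⟨r, -, hr⟩ := h1
    obtain ⟨N, hN⟩ : ∃ N, N = M * tri 0 y z * M⁻¹ := ⟨_, rfl⟩
    rw [← hN] at hr
    have hN' : N.1 = (tri 0 y' z').1 * Matrix.scalar (Fin 3) r := by
      have : N = tri 0 y' z' * ((tri 0 y' z')⁻¹ * N) := by rw [mul_inv_cancel_left]
      rw [hr, ← Matrix.SpecialLinearGroup.coe_mul, ← this]
    have htr : N.1.trace = (3 : F) := by
      rw [hN, Matrix.SpecialLinearGroup.coe_mul, Matrix.trace_mul_comm, ← Matrix.SpecialLinearGroup.coe_mul,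
        inv_mul_cancel_left]
      simp [tri, Matrix.trace, Fin.sum_univ_three]
      norm_num
    have hr1 : r = 1 := by
      rw [hN'] at htr
      simp [tri, Matrix.trace, Fin.sum_univ_three] at htr
      linear_combination htr + (1 - r) * t2
    subst hr1
    have hNM : N.1 * M.1 = M.1 * (tri 0 y z).1 := by
      rw [hN, ← Matrix.SpecialLinearGroup.coe_mul, ← Matrix.SpecialLinearGroup.coe_mul, inv_mul_cancel_right]
    have e := congrFun (congrFun hNM 2) 2
    rw [hN', map_one, mul_one] at e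
    simp [tri, Matrix.mul_apply, Fin.sum_univ_three] at e
    linear_combination e
  have h20 : M.1 2 0 = 0 := by simpa using key 0 1
  have h21 : M.1 2 1 = 0 := by simpa using key 1 0
  have hdet : M.1.det = 1 := M.2
  rw [Matrix.det_fin_three, h20, h21] at hdet
  simp only [mul_zero, add_zero, sub_zero] at hdet
  have ha0 : M.1 2 2 ≠ 0 := fun e => by rw [e] at hdet; simp at hdet
  have ha3 : M.1 2 2 * (M.1 2 2 * M.1 2 2) = 1 := by
    have := FiniteField.pow_card_sub_one_eq_one (M.1 2 2) ha0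
    rw [hF] at this
    simpa [pow_succ, mul_assoc] using this
  obtain ⟨c, hc⟩ : ∃ c, c = M.1 2 2 * M.1 2 2 := ⟨_, rfl⟩
  rw [← hc] at ha3
  have hc3 : c ^ 3 = 1 := by linear_combination (M.1 2 2 * c + 1) * ha3 + c ^ 2 * hc
  have hB : (!![c * M.1 0 0, c * M.1 0 1; c * M.1 1 0, c * M.1 1 1]).det = 1 := by
    rw [Matrix.det_fin_two]
    simp
    linear_combination (c ^ 2 * (M.1 0 0 * M.1 1 1 - M.1 0 1 * M.1 1 0)) * (-ha3) + c ^ 3 * hdet + hc3
  let B : SL2 := ⟨!![c * M.1 0 0, c * M.1 0 1; c * M.1 1 0, c * M.1 1 1], hB⟩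
  refine ⟨ptri 0 (c * M.1 1 2) (c * M.1 0 2), ⟨_, _, rfl⟩, B, ?_⟩
  show QuotientGroup.mk' _ M = QuotientGroup.mk' _ (tri 0 _ _) * QuotientGroup.mk' _ (blockHom F B)
  rw [← map_mul]
  refine (QuotientGroup.eq.2 ?_)
  obtain ⟨S, hS⟩ : ∃ S : SL3, S.1 = Matrix.scalar (Fin 3) c := ⟨⟨Matrix.scalar (Fin 3) c, by
    simp [Matrix.det_diagonal, hc3]⟩, rfl⟩
  have e : tri 0 (c * M.1 1 2) (c * M.1 0 2) * blockHom F B = M * S := by
    refine Subtype.ext ?_
    show !![1, 0, c * M.1 0 2; 0, 1, c * M.1 1 2; 0, 0, 1] *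
      !![c * M.1 0 0, c * M.1 0 1, 0; c * M.1 1 0, c * M.1 1 1, 0; 0, 0, 1] = M.1 * S.1
    rw [hS]
    ext i j
    fin_cases i <;> fin_cases j <;> simp [Matrix.mul_apply, Fin.sum_univ_three, h20, h21, mul_comm c, ha3] <;>
      grind
  rw [e, inv_mul_cancel_left, Matrix.SpecialLinearGroup.mem_center_iff]
  exact ⟨c, by simpa using hc3, hS.symm⟩

/-- Every nontrivial element of the last column is conjugate to `ptri 0 1 0` by a block. -/
theorem exists_block_conj {y z : F} (h : y ≠ 0 ∨ z ≠ 0) :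
    ∃ B : SL2, blockP F B * ptri 0 1 0 * (blockP F B)⁻¹ = ptri 0 y z := by
  have hB : ∃ a c : F, (!![a, z; c, y]).det = 1 := by
    rcases eq_or_ne y 0 with rfl | hy
    · exact ⟨0, -z⁻¹, by rw [Matrix.det_fin_two]; simp [h.resolve_left (by simp)]⟩
    · exact ⟨y⁻¹, 0, by rw [Matrix.det_fin_two]; simp [hy]⟩
  obtain ⟨a, c, hd⟩ := hB
  obtain ⟨B, hB⟩ : ∃ B : SL2, B.1 = !![a, z; c, y] := ⟨⟨_, hd⟩, rfl⟩
  refine ⟨B, ?_⟩
  rw [blockP_ptri, mul_inv_cancel_right, hB]
  simp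

/-- A conjugate of the root group in the first row lies in the last column. -/
theorem exists_swap (hF : Fintype.card F = 4) :
    ∃ w : G3, ∀ x : F, w * ptri x 0 0 * w⁻¹ ∈ colSub F := by
  have t2 := two_zero hF
  have hd : (!![(1 : F), 0, 0; 0, 0, 1; 0, 1, 0]).det = 1 := by
    rw [Matrix.det_fin_three]
    simp
    linear_combination -t2
  obtain ⟨M, hM⟩ : ∃ M : SL3, M.1 = !![(1 : F), 0, 0; 0, 0, 1; 0, 1, 0] := ⟨⟨_, hd⟩, rfl⟩
  refine ⟨QuotientGroup.mk' _ M, fun x => ⟨0, x, ?_⟩⟩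
  rw [eq_mul_inv_iff_mul_eq]
  show QuotientGroup.mk' _ (tri 0 0 x) * QuotientGroup.mk' _ M =
    QuotientGroup.mk' _ M * QuotientGroup.mk' _ (tri x 0 0)
  rw [← map_mul, ← map_mul]
  refine congrArg _ (Subtype.ext ?_)
  show !![1, 0, x; 0, 1, 0; 0, 0, 1] * M.1 = M.1 * !![1, x, 0; 0, 1, 0; 0, 0, 1]
  rw [hM]
  ext i j
  fin_cases i <;> fin_cases j <;> simp [Matrix.mul_apply, Fin.sum_univ_three]

/-- An automorphism exchanging the two subgroups. -/
theorem exists_graph (hF : Fintype.card F = 4) :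
    ∃ θ : G3 ≃* G3, (rowSub F).map θ.toMonoidHom = colSub F := by
  have t2 := two_zero hF
  have hn : ∀ a : F, -a = a := fun a => by linear_combination -a * t2
  have hJd : (!![(0 : F), 0, 1; 0, 1, 0; 1, 0, 0]).det = 1 := by
    rw [Matrix.det_fin_three]
    simp
    linear_combination -t2
  obtain ⟨J, hJ⟩ : ∃ J : SL3, J.1 = !![(0 : F), 0, 1; 0, 1, 0; 1, 0, 0] := ⟨⟨_, hJd⟩, rfl⟩
  obtain ⟨T, hT⟩ : ∃ T : SL3 → SL3, ∀ g, (T g).1 = (g⁻¹).1ᵀ :=
    ⟨fun g => ⟨(g⁻¹).1ᵀ, by rw [Matrix.det_transpose]; exact (g⁻¹).2⟩, fun g => rfl⟩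
  obtain ⟨f, hf⟩ : ∃ f : SL3 → SL3, ∀ g, f g = J * T g * J⁻¹ := ⟨_, fun g => rfl⟩
  have hfm : ∀ g h, f (g * h) = f g * f h := fun g h => by
    rw [hf, hf, hf]
    have e : T (g * h) = T g * T h := by
      refine Subtype.ext ?_
      rw [Matrix.SpecialLinearGroup.coe_mul, hT, hT, hT, _root_.mul_inv_rev, Matrix.SpecialLinearGroup.coe_mul,
        Matrix.transpose_mul]
    rw [e]; group
  have hfi : Function.Injective f := fun g h e => by
    rw [hf, hf, mul_left_inj, mul_right_inj] at e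
    have e' := congrArg Subtype.val e
    rw [hT, hT, Matrix.transpose_inj] at e'
    exact inv_injective (Subtype.ext e')
  let φ : SL3 ≃* SL3 := MulEquiv.ofBijective (MonoidHom.mk' f hfm) (Finite.injective_iff_bijective.1 hfi)
  have hc : (Subgroup.center SL3).map φ.toMonoidHom = Subgroup.center SL3 :=
    Subgroup.characteristic_iff_map_eq.1 inferInstance φ
  refine ⟨QuotientGroup.congr _ _ φ hc, ?_⟩
  have key : ∀ x z : F, QuotientGroup.congr _ _ φ hc (ptri x 0 z) = ptri 0 x z := by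
    intro x z
    show QuotientGroup.mk (f (tri x 0 z)) = QuotientGroup.mk (tri 0 x z)
    refine congrArg _ ?_
    have hinv : (tri x 0 z)⁻¹ = tri x 0 z := inv_eq_of_mul_eq_one_right (by
      rw [tri_mul, ← tri_zero]
      congr 1 <;> grind)
    have hJJ : J⁻¹ = J := inv_eq_of_mul_eq_one_right (by
      refine Subtype.ext ?_
      rw [Matrix.SpecialLinearGroup.coe_mul, hJ, Matrix.SpecialLinearGroup.coe_one]
      ext i j
      fin_cases i <;> fin_cases j <;> simp [Matrix.mul_apply, Fin.sum_univ_three])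
    rw [hf, hJJ]
    refine Subtype.ext ?_
    rw [Matrix.SpecialLinearGroup.coe_mul, Matrix.SpecialLinearGroup.coe_mul, hT, hinv, hJ]
    show !![(0 : F), 0, 1; 0, 1, 0; 1, 0, 0] * (!![1, x, z; 0, 1, 0; 0, 0, 1])ᵀ * !![(0 : F), 0, 1; 0, 1, 0; 1, 0, 0] =
      !![1, 0, z; 0, 1, x; 0, 0, 1]
    rw [show (!![1, x, z; 0, 1, 0; 0, 0, 1] : Matrix (Fin 3) (Fin 3) F)ᵀ = !![1, 0, 0; x, 1, 0; z, 0, 1] by
      ext i j; fin_cases i <;> fin_cases j <;> rfl]
    ext i j
    fin_cases i <;> fin_cases j <;> simp [Matrix.mul_apply, Matrix.transpose_apply, Fin.sum_univ_three]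
  refine le_antisymm ?_ ?_
  · rintro _ ⟨_, ⟨x, z, rfl⟩, rfl⟩
    exact ⟨x, z, (key x z).symm⟩
  · rintro _ ⟨y, z, rfl⟩
    exact ⟨ptri y 0 z, ⟨y, z, rfl⟩, key y z⟩

/-- The preimage of the last column in a 2-cover. -/
theorem cover_main (hF : Fintype.card F = 4) {X : Type*} [Group X] [Finite X] (p : X →* G3)
    (hp : Function.Surjective p) (Z : Subgroup X) (hker : p.ker = Z) (hZc : ∀ z ∈ Z, ∀ x, x * z = z * x)
    (hZ2 : ∀ z ∈ Z, z * z = 1) :
    Cfsg.IsElementaryAbelian 2 ((colSub F).comap p) ∧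
      ∃ C : Subgroup X, C ≤ Subgroup.normalizer (((colSub F).comap p : Subgroup X) : Set X) ∧
        C ⊓ (colSub F).comap p = ⊥ ∧
        (colSub F).comap p ⊔ C = Subgroup.normalizer (((colSub F).comap p : Subgroup X) : Set X) ∧
        Nonempty (C ≃* SL2) := by
  classical
  haveI : Fact (Nat.Prime 2) := ⟨Nat.prime_two⟩
  haveI : CharP F 2 := (CharP.charP_iff_prime_eq_zero Nat.prime_two).2 (two_zero hF)
  obtain ⟨H, hH⟩ : ∃ H : Subgroup X, H = (colSub F).comap p := ⟨_, rfl⟩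
  rw [← hH]
  have hpH : ∀ x, x ∈ H ↔ p x ∈ colSub F := fun x => by rw [hH]; rfl
  have hpz : ∀ x, p x = 1 ↔ x ∈ Z := fun x => by rw [← hker, MonoidHom.mem_ker]
  have two0 := add_self' hF
  have hsqker : ∀ h ∈ H, h * h ∈ Z := fun h hh => by
    rw [← hpz, map_mul]
    obtain ⟨y, z, hyz⟩ := (hpH h).1 hh
    rw [← hyz, ptri_mul, ← ptri_zero]
    congr 1 <;> simp [two0]
  obtain ⟨h0, hh0⟩ := hp (ptri 0 1 0)
  obtain ⟨c, hc⟩ : ∃ c, c = h0 * h0 := ⟨_, rfl⟩
  have hh0H : h0 ∈ H := (hpH _).2 (hh0 ▸ ⟨1, 0, rfl⟩)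
  have hcZ : c ∈ Z := hc ▸ hsqker _ hh0H
  have hsame : ∀ a b : X, p a = p b → a * a = b * b := fun a b e => by
    have hz : b⁻¹ * a ∈ Z := by rw [← hpz, map_mul, map_inv, e, inv_mul_cancel]
    calc a * a = b * (b⁻¹ * a) * (b * (b⁻¹ * a)) := by rw [mul_inv_cancel_left]
      _ = b * b * ((b⁻¹ * a) * (b⁻¹ * a)) := by
        rw [mul_assoc, ← mul_assoc (b⁻¹ * a) b, ← hZc _ hz b]; simp only [mul_assoc]
      _ = b * b := by rw [hZ2 _ hz, mul_one]
  have hsqc : ∀ h ∈ H, h ∉ Z → h * h = c := by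
    intro h hh hhZ
    obtain ⟨y, z, hyz⟩ := (hpH h).1 hh
    obtain ⟨B, hB⟩ := exists_block_conj (y := y) (z := z) (by
      by_contra hcon
      push Not at hcon
      refine hhZ ((hpz h).1 ?_)
      rw [← hyz, hcon.1, hcon.2, ptri_zero])
    obtain ⟨n, hn⟩ := hp (blockP F B)
    have e : p (n * h0 * n⁻¹) = p h := by rw [map_mul, map_mul, map_inv, hn, hh0, hB, hyz]
    rw [← hsame _ _ e, hc]
    calc n * h0 * n⁻¹ * (n * h0 * n⁻¹) = n * (h0 * h0) * n⁻¹ := by group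
      _ = h0 * h0 := by rw [hZc _ (hsqker _ hh0H) n, mul_inv_cancel_right]
  have hcm : ∀ a ∈ H, ∀ b ∈ H, a ∉ Z → b ∉ Z → a * b ∉ Z → a * b * a⁻¹ * b⁻¹ = c := by
    intro a ha b hb haZ hbZ habZ
    have hai : a⁻¹ = a * c := inv_eq_of_mul_eq_one_right (by rw [← mul_assoc, hsqc a ha haZ, hZ2 c hcZ])
    have hbi : b⁻¹ = b * c := inv_eq_of_mul_eq_one_right (by rw [← mul_assoc, hsqc b hb hbZ, hZ2 c hcZ])
    rw [hai, hbi]
    calc a * b * (a * c) * (b * c) = a * b * a * (c * b) * c := by group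
      _ = a * b * (a * b) * (c * c) := by rw [← hZc c hcZ b]; group
      _ = c := by rw [hsqc _ (mul_mem ha hb) habZ, hZ2 c hcZ, mul_one]
  have hc1 : c = 1 := by
    obtain ⟨w, hw0, hw1⟩ : ∃ w : F, w ≠ 0 ∧ w ≠ 1 := by
      by_contra hcon
      push Not at hcon
      have := Finset.card_le_card (s := (Finset.univ : Finset F)) (t := {0, 1}) fun t _ => by
        rcases eq_or_ne t 0 with rfl | ht
        · simp
        · simp [hcon t ht]
      rw [Finset.card_univ, hF] at this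
      have := this.trans Finset.card_le_two
      omega
    obtain ⟨k, hk⟩ := hp (ptri 0 0 1)
    obtain ⟨m, hm⟩ := hp (ptri 0 0 w)
    have hnz : ∀ (x : X) (y z : F), p x = ptri 0 y z → (y ≠ 0 ∨ z ≠ 0) → x ∉ Z := fun x y z e h hx => by
      rw [(hpz x).2 hx, ← ptri_zero] at e
      obtain ⟨-, h2, h3⟩ := ptri_inj e
      rcases h with h | h
      · exact h h2.symm
      · exact h h3.symm
    have hkH : k ∈ H := (hpH _).2 (hk ▸ ⟨0, 1, rfl⟩)
    have hmH : m ∈ H := (hpH _).2 (hm ▸ ⟨0, w, rfl⟩)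
    have hk0 := hnz k 0 1 hk (Or.inr one_ne_zero)
    have hm0 := hnz m 0 w hm (Or.inr hw0)
    have hh00 := hnz h0 1 0 hh0 (Or.inl one_ne_zero)
    have hkm := hnz (k * m) 0 (1 + w) (by rw [map_mul, hk, hm, ptri_mul]; congr 1 <;> ring)
      (Or.inr fun e => hw1 (by linear_combination e - two_zero hF))
    have c1 := hcm h0 hh0H k hkH hh00 hk0 (hnz _ 1 1 (by rw [map_mul, hh0, hk, ptri_mul]; congr 1 <;> ring)
      (Or.inl one_ne_zero))
    have c2 := hcm h0 hh0H m hmH hh00 hm0 (hnz _ 1 w (by rw [map_mul, hh0, hm, ptri_mul]; congr 1 <;> ring)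
      (Or.inl one_ne_zero))
    have c3 := hcm h0 hh0H (k * m) (mul_mem hkH hmH) hh00 hkm
      (hnz _ 1 (1 + w) (by rw [map_mul, map_mul, hh0, hk, hm, ptri_mul, ptri_mul]; congr 1 <;> ring)
      (Or.inl one_ne_zero))
    have e : h0 * (k * m) * h0⁻¹ * (k * m)⁻¹ = (h0 * k * h0⁻¹ * k⁻¹) * (k * (h0 * m * h0⁻¹ * m⁻¹) * k⁻¹) := by
      group
    rw [e, c1, c2, hZc c hcZ k, mul_inv_cancel_right, hZ2 c hcZ] at c3
    exact c3.symm
  have hsq1 : ∀ h ∈ H, h * h = 1 := fun h hh => by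
    by_cases hhZ : h ∈ Z
    · exact hZ2 h hhZ
    · rw [hsqc h hh hhZ, hc1]
  have helem : ∀ (K : Subgroup X), (∀ a ∈ K, a * a = 1) → Cfsg.IsElementaryAbelian 2 K := fun K hK =>
    ⟨⟨⟨fun a b => by
      have i : ∀ a : K, a⁻¹ = a := fun a => inv_eq_of_mul_eq_one_right (Subtype.ext (hK a a.2))
      calc a * b = (a * b)⁻¹ := (i _).symm
        _ = b * a := by rw [_root_.mul_inv_rev, i, i]⟩⟩, fun a ha => by rw [pow_two]; exact hK a ha⟩
  refine ⟨helem H hsq1, ?_⟩
  -- the preimage of the block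
  obtain ⟨L, hL⟩ : ∃ L : Subgroup X, L = (blockP F).range.comap p := ⟨_, rfl⟩
  let U₀ : Subgroup G3 :=
    { carrier := {g | ∃ x : F, ptri x 0 0 = g}
      one_mem' := ⟨0, ptri_zero⟩
      mul_mem' := by rintro _ _ ⟨x, rfl⟩ ⟨x', rfl⟩; exact ⟨x + x', by rw [ptri_mul]; congr 1 <;> ring⟩
      inv_mem' := by
        rintro _ ⟨x, rfl⟩
        refine ⟨-x, (inv_eq_of_mul_eq_one_right ?_).symm⟩
        rw [ptri_mul, ← ptri_zero]; congr 1 <;> ring }
  have hU₀L : U₀ ≤ (blockP F).range := by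
    rintro _ ⟨x, rfl⟩
    refine ⟨⟨!![1, x; 0, 1], by simp [Matrix.det_fin_two]⟩, ?_⟩
    show QuotientGroup.mk' _ (blockHom F _) = QuotientGroup.mk' _ (tri x 0 0)
    exact congrArg _ (Subtype.ext rfl)
  have hU₀4 : Nat.card U₀ = 4 := by
    have : Function.Bijective (fun x : F => (⟨ptri x 0 0, x, rfl⟩ : U₀)) :=
      ⟨fun a b e => (ptri_inj (congrArg Subtype.val e)).1, fun ⟨g, x, hx⟩ => ⟨x, Subtype.ext hx⟩⟩
    rw [← Nat.card_eq_of_bijective _ this, Nat.card_eq_fintype_card, hF]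
  obtain ⟨w, hw⟩ := exists_swap (F := F) hF
  obtain ⟨W, hW⟩ := hp w
  have hU₀sq : ∀ a ∈ U₀.comap p, a * a = 1 := by
    intro a ha
    obtain ⟨x, hx⟩ := ha
    have h1 : W * a * W⁻¹ ∈ H := (hpH _).2 (by rw [map_mul, map_mul, map_inv, hW, ← hx]; exact hw x)
    have h2 := hsq1 _ h1
    rw [show W * a * W⁻¹ * (W * a * W⁻¹) = W * (a * a) * W⁻¹ by group] at h2
    exact conj_eq_one_iff.1 h2
  have hUL : U₀.comap p ≤ L := hL ▸ Subgroup.comap_mono hU₀L
  have hZL : Z ≤ L := fun z hz => by rw [hL, Subgroup.mem_comap, (hpz z).2 hz]; exact one_mem _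
  have hZU : Z ≤ U₀.comap p := fun z hz => by rw [Subgroup.mem_comap, (hpz z).2 hz]; exact one_mem _
  obtain ⟨K, hK⟩ : ∃ K : Subgroup L, K = Z.subgroupOf L := ⟨_, rfl⟩
  haveI : K.Normal := hK ▸ ⟨fun z hz g => by
    show (g : X) * (z : X) * (g : X)⁻¹ ∈ Z
    rw [hZc (z : X) hz g, mul_inv_cancel_right]; exact hz⟩
  have hKm : ∀ k : L, k ∈ K → (k : X) ∈ Z := fun k hk => by rw [hK] at hk; exact hk
  haveI : IsMulCommutative K := ⟨⟨fun a b => Subtype.ext (Subtype.ext (hZc ((b : L) : X) (hKm _ b.2) ((a : L) : X)))⟩⟩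
  obtain ⟨U, hU⟩ : ∃ U : Subgroup L, U = (U₀.comap p).subgroupOf L := ⟨_, rfl⟩
  -- a complement in the Sylow subgroup
  obtain ⟨w0, hw00, hw01⟩ : ∃ w : F, w ≠ 0 ∧ w ≠ 1 := by
    by_contra hcon
    push Not at hcon
    have := Finset.card_le_card (s := (Finset.univ : Finset F)) (t := {0, 1}) fun t _ => by
      rcases eq_or_ne t 0 with rfl | ht
      · simp
      · simp [hcon t ht]
    rw [Finset.card_univ, hF] at this
    have := this.trans Finset.card_le_two
    omega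
  obtain ⟨t1, ht1⟩ := hp (ptri 1 0 0)
  obtain ⟨t2, ht2⟩ := hp (ptri w0 0 0)
  have ht1U : t1 ∈ U₀.comap p := by rw [Subgroup.mem_comap, ht1]; exact ⟨1, rfl⟩
  have ht2U : t2 ∈ U₀.comap p := by rw [Subgroup.mem_comap, ht2]; exact ⟨w0, rfl⟩
  have hUcomm : ∀ a ∈ U₀.comap p, ∀ b ∈ U₀.comap p, a * b = b * a := fun a ha b hb =>
    congrArg Subtype.val (((helem _ hU₀sq).1).is_comm.comm (⟨a, ha⟩ : U₀.comap p) ⟨b, hb⟩)
  let A : Subgroup L :=
    { carrier := {g | (g : X) = 1 ∨ (g : X) = t1 ∨ (g : X) = t2 ∨ (g : X) = t1 * t2}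
      one_mem' := Or.inl rfl
      mul_mem' := fun {a b} ha hb => by
        have e1 := hU₀sq t1 ht1U
        have e2 := hU₀sq t2 ht2U
        have e3 := hUcomm t1 ht1U t2 ht2U
        simp only [Set.mem_setOf_eq, Subgroup.coe_mul] at ha hb ⊢
        rcases ha with ha | ha | ha | ha <;> rcases hb with hb | hb | hb | hb <;> rw [ha, hb] <;>
          first
            | simp only [one_mul, mul_one, true_or, or_true, eq_self_iff_true]
            | simp only [e1, e2, true_or, or_true]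
            | (right; right; right; first | rfl | exact e3.symm)
            | (rw [← mul_assoc, e1, one_mul]; simp)
            | (rw [← mul_assoc, ← e3, mul_assoc, e2, mul_one]; simp)
            | (rw [mul_assoc, e2, mul_one]; simp)
            | (rw [e3, mul_assoc, e1, mul_one]; simp)
            | (left; calc t1 * t2 * (t1 * t2) = t1 * t2 * (t2 * t1) := by rw [e3]
                _ = 1 := by rw [mul_assoc, ← mul_assoc t2, e2, one_mul, e1])
      inv_mem' := fun {a} ha => by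
        have hu : (a : X) ∈ U₀.comap p := by
          rcases ha with ha | ha | ha | ha <;> rw [ha]
          exacts [one_mem _, ht1U, ht2U, mul_mem ht1U ht2U]
        have e : a⁻¹ = a := inv_eq_of_mul_eq_one_right (Subtype.ext (hU₀sq _ hu))
        rw [e]; exact ha }
  have hAU : A ≤ U := fun a ha => by
    rw [hU, Subgroup.mem_subgroupOf]
    rcases ha with ha | ha | ha | ha <;> rw [ha]
    exacts [one_mem _, ht1U, ht2U, mul_mem ht1U ht2U]
  have hAK : A ⊓ K = ⊥ := by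
    rw [Subgroup.eq_bot_iff_forall]
    rintro a ⟨ha, hak⟩
    have hp0 : p (a : X) = 1 := (hpz _).2 (hKm _ hak)
    rcases ha with ha | ha | ha | ha <;> rw [ha] at hp0
    · exact Subtype.ext ha
    · rw [ht1, ← ptri_zero] at hp0; exact absurd (ptri_inj hp0).1 one_ne_zero
    · rw [ht2, ← ptri_zero] at hp0; exact absurd (ptri_inj hp0).1 hw00
    · rw [map_mul, ht1, ht2, ptri_mul, ← ptri_zero] at hp0
      exact absurd (by linear_combination (ptri_inj hp0).1 - two_zero hF : w0 = 1) hw01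
  have hall : ∀ x : F, x = 0 ∨ x = 1 ∨ x = w0 ∨ x = 1 + w0 := by
    intro x
    by_contra hcon
    push Not at hcon
    obtain ⟨h1, h2, h3, h4⟩ := hcon
    have n1 : (1 : F) + w0 ≠ 0 := fun e => hw01 (by linear_combination e - two_zero hF)
    have n2 : (1 : F) + w0 ≠ 1 := fun e => hw00 (by linear_combination e)
    have n3 : (1 : F) + w0 ≠ w0 := fun e => one_ne_zero (α := F) (by linear_combination e)
    have : ({x, 0, 1, w0, 1 + w0} : Finset F).card = 5 := by
      simp [h1, h2, h3, h4, hw00.symm, hw01.symm, n1.symm, n2.symm, n3.symm]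
    have := this ▸ Finset.card_le_univ ({x, 0, 1, w0, 1 + w0} : Finset F)
    omega
  have hKA : K ⊔ A = U := by
    refine le_antisymm (sup_le (fun k hk => by rw [hU]; exact hZU (hKm _ hk)) hAU) fun u hu => ?_
    obtain ⟨x, hx⟩ : p (u : X) ∈ U₀ := by rw [hU] at hu; exact hu
    obtain ⟨a, ha, hpa⟩ : ∃ a : L, a ∈ A ∧ p (a : X) = ptri x 0 0 := by
      rcases hall x with rfl | rfl | rfl | rfl
      · exact ⟨1, one_mem _, by rw [Subgroup.coe_one, map_one, ptri_zero]⟩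
      · exact ⟨⟨t1, hUL ht1U⟩, Or.inr (Or.inl rfl), ht1⟩
      · exact ⟨⟨t2, hUL ht2U⟩, Or.inr (Or.inr (Or.inl rfl)), ht2⟩
      · exact ⟨⟨t1 * t2, hUL (mul_mem ht1U ht2U)⟩, Or.inr (Or.inr (Or.inr rfl)), by
          rw [map_mul, ht1, ht2, ptri_mul]; congr 1 <;> ring⟩
    have hk : u * a⁻¹ ∈ K := by
      rw [hK, Subgroup.mem_subgroupOf, ← hpz, Subgroup.coe_mul, Subgroup.coe_inv, map_mul, map_inv, hpa, hx,
        mul_inv_cancel]
    rw [show u = u * a⁻¹ * a by rw [inv_mul_cancel_right]]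
    exact mul_mem (Subgroup.mem_sup_left hk) (Subgroup.mem_sup_right ha)
  have hidx : U.index = 15 := by
    have h1 : U.index = U₀.relIndex (blockP F).range := by
      rw [hU, hL]
      show ((U₀.comap p).relIndex ((blockP F).range.comap p)) = _
      rw [Subgroup.relIndex_comap, Subgroup.map_comap_eq_self_of_surjective hp]
    have h2 := Subgroup.card_mul_index (U₀.subgroupOf (blockP F).range)
    rw [Nat.card_congr (Subgroup.subgroupOfEquivOfLe hU₀L).toEquiv, hU₀4, card_blockRange hF] at h2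
    have h3 : U₀.relIndex (blockP F).range = (U₀.subgroupOf (blockP F).range).index := rfl
    omega
  have hKp : IsPGroup 2 K := fun k => ⟨1, Subtype.ext (Subtype.ext (by
    simpa [pow_two] using hZ2 _ (hKm _ k.2)))⟩
  obtain ⟨C₁, hC₁⟩ := Cfsg.Lib.GaschutzAbelian.exists_complement K U (by rw [← hKA]; exact le_sup_left)
    (by
      obtain ⟨m, hm⟩ := IsPGroup.iff_card.1 hKp
      rw [hm, hidx]
      exact Nat.Coprime.pow_left m (by norm_num)) A hAU hAK hKA
  obtain ⟨C, hC⟩ : ∃ C : Subgroup X, C = C₁.map L.subtype := ⟨_, rfl⟩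
  have hCL : C ≤ L := hC ▸ Subgroup.map_subtype_le _
  have hCn : C ≤ Subgroup.normalizer (H : Set X) := by
    intro n hn
    have hn' := hCL hn
    rw [hL] at hn'
    obtain ⟨B, hB⟩ := hn'
    refine Subgroup.mem_normalizer_fintype fun h hh => ?_
    rw [SetLike.mem_coe, hpH, map_mul, map_mul, map_inv, ← hB]
    exact blockP_normalizes B ((hpH h).1 hh)
  have hCsurj : ∀ B, ∃ n ∈ C, p n = blockP F B := fun B => by
    obtain ⟨x, hx⟩ := hp (blockP F B)
    have hxL : x ∈ L := by rw [hL, Subgroup.mem_comap, hx]; exact ⟨B, rfl⟩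
    obtain ⟨⟨k, d⟩, hkd, -⟩ := hC₁.existsUnique ⟨x, hxL⟩
    refine ⟨((d : L) : X), hC ▸ Subgroup.mem_map_of_mem _ d.2, ?_⟩
    have : p ((k : L) : X) = 1 := (hpz _).2 (hKm _ k.2)
    have e : x = ((k : L) : X) * ((d : L) : X) := (congrArg Subtype.val hkd).symm
    rw [← hx, e, map_mul, this, one_mul]
  have hCK : ∀ n ∈ C, p n = 1 → n = 1 := fun n hn hpn => by
    rw [hC] at hn
    obtain ⟨m, hm, rfl⟩ := hn
    have hmK : m ∈ K := by rw [hK, Subgroup.mem_subgroupOf, ← hpz]; exact hpn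
    have := hC₁.disjoint.le_bot ⟨hmK, hm⟩
    rw [Subgroup.mem_bot] at this
    rw [this]; rfl
  refine ⟨C, hCn, ?_, le_antisymm (sup_le Subgroup.le_normalizer hCn) fun x hx => ?_, ?_⟩
  · rw [Subgroup.eq_bot_iff_forall]
    rintro n ⟨hn, hnH⟩
    refine hCK n hn ?_
    have h1 : p n ∈ (blockP F).range ⊓ colSub F := ⟨by
      have := hCL hn; rw [hL] at this; exact this, (hpH n).1 hnH⟩
    rwa [block_inf_col, Subgroup.mem_bot] at h1
  · obtain ⟨a, ha, B, hB⟩ := exists_decomp hF (g := p x) fun h hh => by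
      obtain ⟨h', rfl⟩ := hp h
      rw [← map_mul, ← map_inv, ← map_mul, ← hpH]
      exact (Subgroup.mem_normalizer_iff.1 hx h').1 ((hpH h').2 hh)
    obtain ⟨n, hn, hpn⟩ := hCsurj B
    have h1 : x * n⁻¹ ∈ H := by rw [hpH, map_mul, map_inv, hpn, hB, mul_inv_cancel_right]; exact ha
    rw [show x = x * n⁻¹ * n by rw [inv_mul_cancel_right]]
    exact mul_mem (Subgroup.mem_sup_left h1) (Subgroup.mem_sup_right hn)
  · let f : C →* (blockP F).range := MonoidHom.mk' (fun n => ⟨p (n : X), by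
      have := hCL n.2; rw [hL] at this; exact this⟩) fun a b => Subtype.ext (map_mul p _ _)
    have hf : Function.Bijective f := by
      refine ⟨(injective_iff_map_eq_one f).2 fun n hn => Subtype.ext (hCK n n.2 (congrArg Subtype.val hn)), ?_⟩
      rintro ⟨_, B, rfl⟩
      obtain ⟨n, hn, hpn⟩ := hCsurj B
      exact ⟨⟨n, hn⟩, Subtype.ext hpn⟩
    exact ⟨(MulEquiv.ofBijective f hf).trans (MonoidHom.ofInjective (blockP_injective (F := F))).symm⟩

end Cfsg.Lib.TwoFour.LThreeFour
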