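import Mathlib

/-!
# Groups with a fixed-point-free automorphism of order three and a central four-group

Basic facts used for the classification of 2-groups whose three involutions are permuted
transitively by an automorphism.
-/

set_option autoImplicit false

namespace Cfsg.Lib.TwoFour

open Subgroup

variable {T : Type*} [Group T]

/-- A fixed-point-free automorphism with trivial cube. -/
structure FpfCube (ρ : T ≃* T) : Prop where
  cube : ∀ x, ρ (ρ (ρ x)) = x
  fix : ∀ x, ρ x = x → x = 1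

/-- In a finite invariant subgroup every element of the form "fixed modulo the subgroup" lies in it. -/
theorem mem_of_fixed_mod [Finite T] {ρ : T ≃* T} (hf : ∀ x, ρ x = x → x = 1) {N : Subgroup T}
    (hN : ∀ n ∈ N, ρ n ∈ N) {x : T} (hx : x⁻¹ * ρ x ∈ N) : x ∈ N := by
  let f : N → N := fun n => ⟨(n : T)⁻¹ * ρ n, N.mul_mem (N.inv_mem n.2) (hN _ n.2)⟩
  have hinj : Function.Injective f := by
    intro m n e
    have e' : (m : T)⁻¹ * ρ m = (n : T)⁻¹ * ρ n := congrArg Subtype.val e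
    have h1 : ρ ((m : T) * (n : T)⁻¹) = (m : T) * (n : T)⁻¹ := by
      rw [map_mul, map_inv]
      calc ρ m * (ρ n)⁻¹ = (m : T) * ((m : T)⁻¹ * ρ m) * (ρ n)⁻¹ := by group
        _ = _ := by rw [e']; group
    exact Subtype.ext (mul_inv_eq_one.1 (hf _ h1))
  obtain ⟨n, hn⟩ := Finite.surjective_of_injective hinj ⟨_, hx⟩
  have hn' : (n : T)⁻¹ * ρ n = x⁻¹ * ρ x := congrArg Subtype.val hn
  have h1 : ρ (x * (n : T)⁻¹) = x * (n : T)⁻¹ := by
    rw [map_mul, map_inv]
    calc ρ x * (ρ n)⁻¹ = x * (x⁻¹ * ρ x) * (ρ n)⁻¹ := by group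
      _ = _ := by rw [← hn']; group
  rw [mul_inv_eq_one.1 (hf _ h1)]
  exact n.2

/-- `x * ρ x * ρ² x = 1`. -/
theorem FpfCube.norm [Finite T] {ρ : T ≃* T} (h : FpfCube ρ) (x : T) : x * ρ x * ρ (ρ x) = 1 := by
  have hf : MonoidHom.FixedPointFree ρ := h.fix
  have := hf.prod_pow_eq_one (n := 3) (funext fun y => h.cube y) x
  simpa [List.range_succ, mul_assoc] using this

/-- `ρ² x = (x * ρ x)⁻¹`. -/
theorem FpfCube.rho_sq [Finite T] {ρ : T ≃* T} (h : FpfCube ρ) (x : T) : ρ (ρ x) = (x * ρ x)⁻¹ :=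
  (inv_eq_of_mul_eq_one_right (h.norm x)).symm

/-- every element commutes with its image. -/
theorem FpfCube.comm [Finite T] {ρ : T ≃* T} (h : FpfCube ρ) (x : T) : x * ρ x = ρ x * x := by
  have h1 := h.rho_sq x
  have h2 : ρ (ρ x⁻¹) = (x⁻¹ * ρ x⁻¹)⁻¹ := h.rho_sq x⁻¹
  rw [map_inv, map_inv, h1, inv_inv, mul_inv_rev, inv_inv, inv_inv] at h2
  exact h2

/-- `ρ²` is fixed-point-free as well. -/
theorem FpfCube.sq_ne {ρ : T ≃* T} (h : FpfCube ρ) {x : T} (hx : x ≠ 1) : ρ (ρ x) ≠ x :=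
  fun e => hx (h.fix x (by
    have := congrArg ρ e
    rw [h.cube] at this
    exact this.symm))

/-- A central four-group permuted by `ρ`. -/
structure Four (ρ : T ≃* T) (V : Subgroup T) : Prop where
  card : Nat.card V = 4
  sq : ∀ v ∈ V, v * v = 1
  central : ∀ v ∈ V, ∀ x : T, x * v = v * x
  inv : ∀ v ∈ V, ρ v ∈ V

namespace Four

variable {ρ : T ≃* T} {V : Subgroup T}

theorem inv_self (hV : Four ρ V) {v : T} (hv : v ∈ V) : v⁻¹ = v :=
  inv_eq_of_mul_eq_one_right (hV.sq v hv)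

/-- the four elements. -/
theorem cases (hV : Four ρ V) (h : FpfCube ρ) {v : T} (hv : v ∈ V) (hv1 : v ≠ 1) {w : T} (hw : w ∈ V) :
    w = 1 ∨ w = v ∨ w = ρ v ∨ w = ρ (ρ v) := by
  classical
  by_contra hne
  push Not at hne
  obtain ⟨n1, n2, n3, n4⟩ := hne
  have hv2 : ρ v ≠ v := fun e => hv1 (h.fix v e)
  have hv3 : ρ (ρ v) ≠ ρ v := fun e => hv2 (ρ.injective e)
  have hv4 : ρ (ρ v) ≠ v := h.sq_ne hv1
  have hr1 : ρ v ≠ 1 := fun e => hv1 (ρ.injective (e.trans (map_one ρ).symm))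
  have hr2 : ρ (ρ v) ≠ 1 := fun e => hr1 (ρ.injective (e.trans (map_one ρ).symm))
  haveI : Finite V := Nat.finite_of_card_ne_zero (by rw [hV.card]; omega)
  haveI : Fintype V := Fintype.ofFinite V
  have h5 : ({⟨1, V.one_mem⟩, ⟨v, hv⟩, ⟨ρ v, hV.inv v hv⟩, ⟨ρ (ρ v), hV.inv _ (hV.inv v hv)⟩, ⟨w, hw⟩} :
      Finset V).card = 5 := by
    simp [Finset.card_insert_of_notMem, Subtype.ext_iff, Ne.symm hv1, Ne.symm hr1, Ne.symm hr2,
      Ne.symm n1, Ne.symm n2, Ne.symm n3, Ne.symm n4, Ne.symm hv2, Ne.symm hv3, Ne.symm hv4]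
  have := Finset.card_le_univ ({⟨1, V.one_mem⟩, ⟨v, hv⟩, ⟨ρ v, hV.inv v hv⟩,
      ⟨ρ (ρ v), hV.inv _ (hV.inv v hv)⟩, ⟨w, hw⟩} : Finset V)
  rw [h5, ← Nat.card_eq_fintype_card, hV.card] at this
  omega

/-- An invariant subgroup meeting the four-group contains it. -/
theorem le_of_mem (hV : Four ρ V) (h : FpfCube ρ) {H : Subgroup T} (hH : ∀ x ∈ H, ρ x ∈ H)
    {v : T} (hv : v ∈ V) (hv1 : v ≠ 1) (hvH : v ∈ H) : V ≤ H := by
  intro w hw
  rcases hV.cases h hv hv1 hw with rfl | rfl | rfl | rfl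
  exacts [H.one_mem, hvH, hH _ hvH, hH _ (hH _ hvH)]

end Four

/-- An abelian 2-group with at most four solutions of `x² = 1` is homocyclic, generated by an element
and its image. -/
theorem homocyclic_gen [Finite T] (hcomm : ∀ x y : T, x * y = y * x) (hp : IsPGroup 2 T) {ρ : T ≃* T}
    (h : FpfCube ρ) (hne : Nontrivial T) (h4 : Nat.card {x : T // x * x = 1} ≤ 4) :
    ∃ n : ℕ, 1 ≤ n ∧ ∃ a : T, (∀ x : T, ∃ i j : ℕ, x = a ^ i * ρ a ^ j) ∧
      Nonempty (T ≃* Multiplicative (ZMod (2 ^ n) × ZMod (2 ^ n))) := by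
  letI : CommGroup T := { (inferInstance : Group T) with mul_comm := hcomm }
  obtain ⟨a, ha⟩ := Monoid.exists_orderOf_eq_exponent (Monoid.ExponentExists.of_finite (G := T))
  obtain ⟨n, hn⟩ := IsPGroup.iff_orderOf.1 hp a
  have hexp : ∀ x : T, x ^ (2 ^ n) = 1 := fun x => by
    rw [← hn, ha]; exact Monoid.pow_exponent_eq_one x
  have hn1 : 1 ≤ n := by
    by_contra h0
    obtain ⟨x, hx⟩ := exists_ne (1 : T)
    have := hexp x
    rw [show n = 0 by omega, pow_zero, pow_one] at this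
    exact hx this
  refine ⟨n, hn1, a, ?_⟩
  haveI : NeZero (2 ^ n) := ⟨by positivity⟩
  have hpow : ∀ k : ℕ, ∀ x : T, x ^ (2 ^ n * k) = 1 := fun k x => by rw [pow_mul, hexp, one_pow]
  let f : Multiplicative (ZMod (2 ^ n) × ZMod (2 ^ n)) →* T :=
    MonoidHom.mk' (fun p => a ^ (Multiplicative.toAdd p).1.val * ρ a ^ (Multiplicative.toAdd p).2.val) (by
      intro p q
      have key : ∀ (x : T) (i j : ZMod (2 ^ n)), x ^ (i + j).val = x ^ i.val * x ^ j.val := fun x i j => by
        rw [← pow_add, ZMod.val_add]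
        conv_rhs => rw [← Nat.mod_add_div (i.val + j.val) (2 ^ n), pow_add, hpow, mul_one]
      rw [toAdd_mul, Prod.fst_add, Prod.snd_add, key, key]
      simp only [mul_comm, mul_left_comm, mul_assoc])
  have hz : a ^ (2 ^ (n - 1)) ≠ 1 := fun e => by
    have h1 := orderOf_dvd_of_pow_eq_one e
    rw [hn] at h1
    have := (Nat.pow_dvd_pow_iff_le_right (by norm_num : 1 < 2)).1 h1
    omega
  have hinj : Function.Injective f := by
    rw [← MonoidHom.ker_eq_bot_iff]
    by_contra hker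
    have hpker : IsPGroup 2 f.ker := by
      refine IsPGroup.to_subgroup ?_ _
      exact IsPGroup.of_card (n := n * 2) (by
        rw [Nat.card_congr Multiplicative.toAdd, Nat.card_prod, Nat.card_zmod, pow_mul, sq])
    haveI : Nontrivial f.ker := (Subgroup.nontrivial_iff_ne_bot _).2 hker
    haveI : Fact (Nat.Prime 2) := ⟨Nat.prime_two⟩
    obtain ⟨k, hk0, hk⟩ := hpker.nontrivial_iff_card.1 ‹Nontrivial f.ker›
    obtain ⟨q, hq⟩ := exists_prime_orderOf_dvd_card' (G := f.ker) 2 (by rw [hk]; exact dvd_pow_self 2 (by omega))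
    have hq2 : (q : Multiplicative (ZMod (2 ^ n) × ZMod (2 ^ n))) * q = 1 := by
      have := pow_orderOf_eq_one q
      rw [hq, pow_two] at this
      exact congrArg Subtype.val this
    have hq1 : (q : Multiplicative (ZMod (2 ^ n) × ZMod (2 ^ n))) ≠ 1 := fun e => by
      have : q = 1 := Subtype.ext e
      rw [this, orderOf_one] at hq
      omega
    have hf1 : f q = 1 := q.2
    set i := (Multiplicative.toAdd (q : Multiplicative (ZMod (2 ^ n) × ZMod (2 ^ n)))).1 with hi
    set j := (Multiplicative.toAdd (q : Multiplicative (ZMod (2 ^ n) × ZMod (2 ^ n)))).2 with hj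
    have htwo : ∀ i : ZMod (2 ^ n), i + i = 0 → i.val = 0 ∨ i.val = 2 ^ (n - 1) := by
      intro i hii
      have h2 := congrArg ZMod.val hii
      rw [ZMod.val_add, ZMod.val_zero] at h2
      have hlt := ZMod.val_lt i
      have hs : 2 ^ n = 2 * 2 ^ (n - 1) := by rw [← pow_succ', Nat.sub_add_cancel hn1]
      obtain ⟨c, hc⟩ := Nat.dvd_of_mod_eq_zero h2
      have hc2 : c < 2 := by
        by_contra hc'
        have : 2 ^ n * 2 ≤ 2 ^ n * c := Nat.mul_le_mul_left _ (by omega)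
        omega
      interval_cases c <;> omega
    have hi2 := htwo i (congrArg (fun p => (Multiplicative.toAdd p).1) hq2)
    have hj2 := htwo j (congrArg (fun p => (Multiplicative.toAdd p).2) hq2)
    have hf2 : a ^ i.val * ρ a ^ j.val = 1 := hf1
    have hnot : ¬ (i.val = 0 ∧ j.val = 0) := fun e =>
      hq1 (Multiplicative.toAdd.injective (Prod.ext ((ZMod.val_eq_zero i).1 e.1) ((ZMod.val_eq_zero j).1 e.2)))
    rcases hi2 with e1 | e1 <;> rcases hj2 with e2 | e2 <;> rw [e1, e2] at hf2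
    · exact hnot ⟨e1, e2⟩
    · rw [pow_zero, one_mul, ← map_pow] at hf2
      exact hz (ρ.injective (hf2.trans (map_one ρ).symm))
    · rw [pow_zero, mul_one] at hf2
      exact hz hf2
    · rw [← map_pow] at hf2
      have hz2 : a ^ 2 ^ (n - 1) * a ^ 2 ^ (n - 1) = 1 := by
        rw [← pow_add, ← two_mul, ← pow_succ', Nat.sub_add_cancel hn1, hexp]
      exact hz (h.fix _ (mul_left_cancel (hf2.trans hz2.symm)))
  let ω : ℕ → Subgroup T := fun k => (powMonoidHom (2 ^ k) : T →* T).ker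
  have hω : ∀ k, Nat.card (ω k) ≤ 4 ^ k := by
    intro k
    induction k with
    | zero =>
      rw [show ω 0 = ⊥ from (Subgroup.eq_bot_iff_forall _).2 fun x hx => by
        have : x ^ (2 ^ 0) = 1 := hx
        simpa using this]
      simp
    | succ k ih =>
      let g : ω (k + 1) →* T := (powMonoidHom 2).comp (ω (k + 1)).subtype
      have hr : g.range ≤ ω k := by
        rintro _ ⟨x, rfl⟩
        show ((x : T) ^ 2) ^ (2 ^ k) = 1
        rw [← pow_mul, ← pow_succ']
        exact x.2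
      have hk : Nat.card g.ker ≤ 4 := by
        refine le_trans (Nat.card_le_card_of_injective
          (fun x : g.ker => (⟨((x : ω (k + 1)) : T), by rw [← pow_two]; exact x.2⟩ : {x : T // x * x = 1})) ?_) h4
        intro x y e
        exact Subtype.ext (Subtype.ext (congrArg (fun z : {x : T // x * x = 1} => (z : T)) e))
      calc Nat.card (ω (k + 1)) = g.ker.index * Nat.card g.ker := (Subgroup.index_mul_card _).symm
        _ = Nat.card g.range * Nat.card g.ker := by rw [Subgroup.index_ker]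
        _ ≤ 4 ^ k * 4 := Nat.mul_le_mul ((Subgroup.card_le_of_le hr).trans ih) hk
        _ = _ := (pow_succ 4 k).symm
  have hT : Nat.card T ≤ 4 ^ n := by
    refine le_trans (le_of_eq ?_) (hω n)
    rw [show ω n = ⊤ from (Subgroup.eq_top_iff' _).2 fun x => hexp x, Subgroup.card_top]
  have hdom : Nat.card (Multiplicative (ZMod (2 ^ n) × ZMod (2 ^ n))) = 4 ^ n := by
    rw [Nat.card_congr Multiplicative.toAdd, Nat.card_prod, Nat.card_zmod, ← mul_pow]
    norm_num
  have hsurj : Function.Surjective f := by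
    refine (Nat.bijective_iff_injective_and_card f).2 ⟨hinj, ?_⟩ |>.2
    have := Nat.card_le_card_of_injective f hinj
    omega
  refine ⟨fun x => ?_, ⟨(MulEquiv.ofBijective f ⟨hinj, hsurj⟩).symm⟩⟩
  obtain ⟨p, rfl⟩ := hsurj x
  exact ⟨_, _, rfl⟩

/-- An abelian 2-group with at most four solutions of `x² = 1` is homocyclic. -/
theorem homocyclic [Finite T] (hcomm : ∀ x y : T, x * y = y * x) (hp : IsPGroup 2 T) {ρ : T ≃* T}
    (h : FpfCube ρ) (hne : Nontrivial T) (h4 : Nat.card {x : T // x * x = 1} ≤ 4) :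
    ∃ n : ℕ, 1 ≤ n ∧ Nonempty (T ≃* Multiplicative (ZMod (2 ^ n) × ZMod (2 ^ n))) := by
  obtain ⟨n, hn, -, -, he⟩ := homocyclic_gen hcomm hp h hne h4
  exact ⟨n, hn, he⟩

end Cfsg.Lib.TwoFour
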