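import Cfsg.Agent.Lib.TwoFour.SingerShape

/-!
# Groups of order 320 with derived subgroup of order 64 and a four-group centre

Such a group is unique: it is the extension of a group of order 64, determined by its squaring map
in coordinates attached to an element of order five, by that element.
-/

set_option autoImplicit false
set_option linter.unusedSectionVars false
set_option linter.style.haveILetI false

open scoped commutatorElement

namespace Cfsg.Lib.TwoFour.Ext320

open Cfsg.Lib.TwoFour.Singer (SqData)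

/-- coordinates modulo the centre -/
abbrev V := ZMod 2 × ZMod 2 × ZMod 2 × ZMod 2

/-- coordinates on the centre -/
abbrev W := ZMod 2 × ZMod 2

/-- the action of the element of order five -/
def shift (c : V) : V := (c.2.2.2, c.1 + c.2.2.2, c.2.1 + c.2.2.2, c.2.2.1 + c.2.2.2)

/-- the squaring map -/
def qf (c : V) : W :=
  (c.1 + c.2.1 + c.2.2.1 + c.2.2.2 + c.1 * c.2.1 + c.2.1 * c.2.2.1 + c.2.2.1 * c.2.2.2,
    c.1 + c.2.1 + c.2.2.1 + c.2.2.2 + c.1 * c.2.2.1 + c.2.1 * c.2.2.2 + c.1 * c.2.2.2)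

/-- An automorphism of a set of at most four points with fifth power one is trivial. -/
theorem perm_fix {X : Type*} [Finite X] (hX : Nat.card X ≤ 4) (σ : Equiv.Perm X) (h5 : σ ^ 5 = 1) : σ = 1 := by
  have h1 : orderOf σ ∣ 5 := orderOf_dvd_of_pow_eq_one h5
  have h2 : orderOf σ ∣ (Nat.card X).factorial := by
    rw [← Nat.card_perm]; exact orderOf_dvd_natCard σ
  rcases (Nat.dvd_prime (by norm_num)).1 h1 with h | h
  · exact orderOf_eq_one_iff.1 h
  · rw [h] at h2
    have := (Nat.Prime.dvd_factorial (by norm_num)).1 h2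
    omega

/-- An automorphism with fifth power one without fixed points forces the order to be one modulo five. -/
theorem card_mod_five {X : Type*} [Finite X] (σ : Equiv.Perm X) (h5 : σ ^ 5 = 1) (x0 : X) (hx0 : σ x0 = x0)
    (hfix : ∀ x, σ x = x → x = x0) : Nat.card X % 5 = 1 := by
  classical
  haveI := Fintype.ofFinite X
  haveI : Fact (Nat.Prime 5) := ⟨by norm_num⟩
  have h := Equiv.Perm.card_compl_support_modEq (p := 5) (n := 1) (σ := σ) (by rwa [pow_one])
  have e1 : σ.supportᶜ = {x0} := by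
    ext x
    simp only [Finset.mem_compl, Equiv.Perm.mem_support, not_not, Finset.mem_singleton]
    exact ⟨hfix x, fun e => by rw [e, hx0]⟩
  rw [e1, Finset.card_singleton] at h
  rw [Nat.card_eq_fintype_card]
  exact h.symm

/-- Coordinates on the group of order 64. -/
theorem exists_coords {T : Type*} [Group T] [Finite T] (hT : Nat.card T = 64)
    (hZ4 : Nat.card (Subgroup.center T) = 4) (hTZ : Subgroup.center T ≤ commutator T)
    (hZ2 : ∀ z ∈ Subgroup.center T, z * z = 1) (hsq : ∀ t : T, t * t ∈ Subgroup.center T)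
    (φ : T ≃* T) (h5 : ∀ t, φ (φ (φ (φ (φ t)))) = t) (hfix : ∀ z ∈ Subgroup.center T, φ z = z)
    (hfpf : ∀ t, t⁻¹ * φ t ∈ Subgroup.center T → t ∈ Subgroup.center T) :
    ∃ c : SqData T V W, (∀ t, c.p (φ t) = shift (c.p t)) ∧ ∀ t, c.E (t * t) = qf (c.p t) := by
  classical
  obtain ⟨Z, hZdef⟩ : ∃ Z, Z = Subgroup.center T := ⟨_, rfl⟩
  rw [← hZdef] at hZ4 hTZ hZ2 hsq hfix hfpf
  have hcen : ∀ z ∈ Z, ∀ t : T, t * z = z * t := fun z hz t =>
    Subgroup.mem_center_iff.1 (hZdef ▸ hz) t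
  haveI : Z.Normal := hZdef ▸ inferInstance
  let p := QuotientGroup.mk' Z
  have hp1 : ∀ t, p t = 1 ↔ t ∈ Z := fun t => QuotientGroup.eq_one_iff t
  have hQ16 : Nat.card (T ⧸ Z) = 16 := by
    have h1 := Subgroup.card_eq_card_quotient_mul_card_subgroup Z
    rw [hT, hZ4] at h1
    omega
  have hsqb : ∀ x : T ⧸ Z, x * x = 1 := fun x => by
    obtain ⟨t, rfl⟩ := QuotientGroup.mk_surjective x
    exact (QuotientGroup.eq_one_iff (t * t)).2 (hsq t)
  have hinvb : ∀ x : T ⧸ Z, x⁻¹ = x := fun x => inv_eq_of_mul_eq_one_right (hsqb x)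
  have hcomb : ∀ x y : T ⧸ Z, x * y = y * x := fun x y => by
    calc x * y = (x * y)⁻¹ := (hinvb _).symm
      _ = y * x := by rw [mul_inv_rev, hinvb, hinvb]
  letI : CommGroup (T ⧸ Z) := { (inferInstance : Group (T ⧸ Z)) with mul_comm := hcomb }
  have hcmZ : ∀ x y : T, ⁅x, y⁆ ∈ Z := fun x y => by
    rw [← hp1, map_commutatorElement, commutatorElement_eq_one_iff_mul_comm]
    exact hcomb _ _
  -- the automorphism of the quotient
  let φb : T ⧸ Z ≃* T ⧸ Z := QuotientGroup.congr Z Z φ (Subgroup.eq_of_le_of_card_ge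
    (by rintro _ ⟨v, hv, rfl⟩; show φ v ∈ Z; rw [hfix v hv]; exact hv)
    (Subgroup.card_map_of_injective φ.injective).ge)
  have hφb : ∀ t, φb (p t) = p (φ t) := fun t => rfl
  have h5b : ∀ x, φb (φb (φb (φb (φb x)))) = x := fun x => by
    obtain ⟨t, rfl⟩ := QuotientGroup.mk'_surjective Z x
    rw [hφb, hφb, hφb, hφb, hφb, h5]
  have hfpb : ∀ x, φb x = x → x = 1 := fun x hx => by
    obtain ⟨t, rfl⟩ := QuotientGroup.mk'_surjective Z x
    rw [hp1]
    refine hfpf t ?_
    rw [← hp1, map_mul, map_inv, ← hφb, hx, inv_mul_cancel]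
  -- an orbit
  obtain ⟨v, hv⟩ : ∃ v, v ∉ Z := by
    by_contra hall
    push Not at hall
    have : Nat.card (⊤ : Subgroup T) ≤ Nat.card Z := Subgroup.card_le_of_le fun t _ => hall t
    rw [Subgroup.card_top, hT, hZ4] at this
    omega
  obtain ⟨v1, hv1⟩ : ∃ v1, v1 = φ v := ⟨_, rfl⟩
  obtain ⟨v2, hv2⟩ : ∃ v2, v2 = φ v1 := ⟨_, rfl⟩
  obtain ⟨v3, hv3⟩ : ∃ v3, v3 = φ v2 := ⟨_, rfl⟩
  obtain ⟨v4, hv4⟩ : ∃ v4, v4 = φ v3 := ⟨_, rfl⟩
  have hv0 : φ v4 = v := by rw [hv4, hv3, hv2, hv1, h5]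
  have e4 : p v4 = p (v * v1 * v2 * v3) := by
    have hw : φb (p (v * v1 * v2 * v3 * v4)) = p (v * v1 * v2 * v3 * v4) := by
      rw [hφb]
      simp only [map_mul, ← hv1, ← hv2, ← hv3, ← hv4, hv0]
      ac_rfl
    have h1 := hfpb _ hw
    rw [map_mul] at h1
    rw [eq_inv_of_mul_eq_one_right h1, hinvb]
  obtain ⟨pw, hpw⟩ : ∃ pw : T → ZMod 2 → T, ∀ x c, pw x c = x ^ c.val := ⟨_, fun x c => rfl⟩
  obtain ⟨σ, hσ⟩ : ∃ σ : V → T, ∀ c, σ c = pw v c.1 * pw v1 c.2.1 * pw v2 c.2.2.1 * pw v3 c.2.2.2 :=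
    ⟨_, fun c => rfl⟩
  have hZ2' : ∀ c : ZMod 2, c = 0 ∨ c = 1 := by decide
  have hpadd : ∀ x (c d : ZMod 2), p (pw x (c + d)) = p (pw x c) * p (pw x d) := fun x c d => by
    rw [hpw, hpw, hpw, map_pow, map_pow, map_pow]
    have hx := hsqb (p x)
    rcases hZ2' c with rfl | rfl <;> rcases hZ2' d with rfl | rfl <;>
      simp [show ((1 : ZMod 2) + 1) = 0 by decide, hx, ZMod.val_one]
  have hσadd : ∀ c d, p (σ (c + d)) = p (σ c) * p (σ d) := fun c d => by
    rw [hσ, hσ, hσ]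
    simp only [Prod.fst_add, Prod.snd_add, map_mul, hpadd]
    ac_rfl
  have hσz : ∀ x, p (pw x 0) = 1 := fun x => by rw [hpw]; simp
  have hσo : ∀ x, pw x 1 = x := fun x => by rw [hpw, ZMod.val_one, pow_one]
  have hσφ : ∀ c, p (φ (σ c)) = p (σ (shift c)) := fun c => by
    have e1 : shift c = ((0, c.1, c.2.1, c.2.2.1) : V) + (c.2.2.2, c.2.2.2, c.2.2.2, c.2.2.2) := by
      simp [shift, Prod.ext_iff]
    have h4 : ∀ d : ZMod 2, p (pw v d) * p (pw v1 d) * p (pw v2 d) * p (pw v3 d) = p (pw v4 d) := fun d => by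
      rcases hZ2' d with rfl | rfl
      · rw [hσz, hσz, hσz, hσz, hσz]; simp
      · rw [hσo, hσo, hσo, hσo, hσo, e4]; simp only [map_mul]
    have hφpw : ∀ x d, φ (pw x d) = pw (φ x) d := fun x d => by rw [hpw, hpw, map_pow]
    rw [e1, hσadd, hσ, hσ, hσ]
    simp only [map_mul, hφpw, ← hv1, ← hv2, ← hv3, ← hv4, hσz, one_mul]
    rw [h4]
  -- surjectivity modulo the centre
  have hsurj : ∀ x : T ⧸ Z, ∃ c, p (σ c) = x := by
    let R : Subgroup (T ⧸ Z) :=
      { carrier := {x | ∃ c, p (σ c) = x}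
        one_mem' := ⟨0, by rw [hσ]; simp [map_mul, hσz]⟩
        mul_mem' := by rintro _ _ ⟨c, rfl⟩ ⟨d, rfl⟩; exact ⟨c + d, hσadd c d⟩
        inv_mem' := by rintro _ ⟨c, rfl⟩; exact ⟨c, (hinvb _).symm⟩ }
    have hR : ∀ x : R, φb x ∈ R := by
      rintro ⟨_, c, rfl⟩
      exact ⟨shift c, by rw [hφb, hσφ]⟩
    have hvR : p v ∈ R := ⟨(1, 0, 0, 0), by rw [hσ]; simp [map_mul, hσz, hσo]⟩
    let σR : Equiv.Perm R :=
      { toFun := fun x => ⟨φb x, hR x⟩
        invFun := fun x => ⟨φb (φb (φb (φb x))), hR ⟨_, hR ⟨_, hR ⟨_, hR x⟩⟩⟩⟩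
        left_inv := fun x => Subtype.ext (h5b x)
        right_inv := fun x => Subtype.ext (h5b x) }
    have h1 : Nat.card R % 5 = 1 := by
      refine card_mod_five σR ?_ 1 (Subtype.ext (map_one φb)) fun x hx =>
        Subtype.ext (hfpb _ (congrArg Subtype.val hx))
      ext x
      show φb (φb (φb (φb (φb (x : T ⧸ Z))))) = x
      exact h5b _
    have h2 : 1 < Nat.card R := Finite.one_lt_card_iff_nontrivial.2
      ⟨⟨⟨p v, hvR⟩, 1, fun e => hv ((hp1 v).1 (congrArg Subtype.val e))⟩⟩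
    have h3 : Nat.card R ∣ 2 ^ 4 := by
      rw [show (2 ^ 4) = 16 by norm_num, ← hQ16]; exact Subgroup.card_subgroup_dvd_card R
    obtain ⟨k, hk, hk'⟩ := (Nat.dvd_prime_pow Nat.prime_two).1 h3
    have hk4 : k = 4 := by
      rw [hk'] at h1 h2
      interval_cases k <;> first | rfl | omega
    intro x
    have hRtop : R = ⊤ := Subgroup.eq_top_of_card_eq R (by rw [hk', hk4, hQ16]; norm_num)
    have : x ∈ R := hRtop ▸ Subgroup.mem_top x
    exact this
  have hbij : Function.Bijective (fun c => p (σ c)) := by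
    have : Function.Surjective (fun c => p (σ c)) := hsurj
    exact this.bijective_of_nat_card_le (by rw [hQ16]; simp [Nat.card_eq_fintype_card])
  -- commutators
  have hadd_left : ∀ x y z : T, ⁅x * y, z⁆ = ⁅x, z⁆ * ⁅y, z⁆ := fun x y z => by
    calc ⁅x * y, z⁆ = x * ⁅y, z⁆ * x⁻¹ * ⁅x, z⁆ := by simp only [commutatorElement_def]; group
      _ = ⁅x, z⁆ * ⁅y, z⁆ := by
        rw [hcen _ (hcmZ y z) x, mul_inv_cancel_right, ← hcen _ (hcmZ y z) ⁅x, z⁆]
  have hswap : ∀ x y : T, ⁅y, x⁆ = ⁅x, y⁆ := fun x y => by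
    rw [← commutatorElement_inv, inv_eq_of_mul_eq_one_right (hZ2 _ (hcmZ x y))]
  have hadd_right : ∀ x y z : T, ⁅x, y * z⁆ = ⁅x, y⁆ * ⁅x, z⁆ := fun x y z => by
    rw [hswap, hadd_left, hswap x y, hswap x z]
  have hφc : ∀ x y : T, ⁅φ x, φ y⁆ = ⁅x, y⁆ := fun x y => by
    rw [← map_commutatorElement, hfix _ (hcmZ x y)]
  obtain ⟨B1, hB1⟩ : ∃ B1, B1 = ⁅v, v1⁆ := ⟨_, rfl⟩
  obtain ⟨B2, hB2⟩ : ∃ B2, B2 = ⁅v, v2⁆ := ⟨_, rfl⟩
  have hB1Z : B1 ∈ Z := hB1 ▸ hcmZ _ _
  have hB2Z : B2 ∈ Z := hB2 ▸ hcmZ _ _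
  have c12 : ⁅v1, v2⁆ = B1 := by rw [hB1, ← hφc v v1, ← hv2, ← hv1]
  have c23 : ⁅v2, v3⁆ = B1 := by rw [← c12, ← hφc v1 v2, ← hv2, ← hv3]
  have c13 : ⁅v1, v3⁆ = B2 := by rw [hB2, ← hφc v v2, ← hv1, ← hv3]
  have c03 : ⁅v, v3⁆ = B2 := by
    rw [hB2, ← hφc v v3, ← hv1, ← hv4, ← hφc v1 v4, ← hv2, hv0, hswap]
  -- the squares
  have hsqmul : ∀ x y : T, x * y * (x * y) = x * x * (y * y) * ⁅x, y⁆ := fun x y => by
    calc x * y * (x * y) = x * (⁅y, x⁆ * x) * y * y := by rw [commutatorElement_def]; group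
      _ = x * x * (y * y) * ⁅x, y⁆ := by
        rw [← hcen _ (hcmZ y x) x, hswap x y]
        calc x * (x * ⁅x, y⁆) * y * y = x * x * (⁅x, y⁆ * (y * y)) := by group
          _ = x * x * (y * y) * ⁅x, y⁆ := by rw [← hcen _ (hcmZ x y) (y * y)]; group
  have hB1' : B1 * B1 = 1 := hZ2 _ hB1Z
  have hB2' : B2 * B2 = 1 := hZ2 _ hB2Z
  have hq : v * v = B1 * B2 := by
    have s1 : v1 * v1 = v * v := by rw [hv1, ← map_mul, hfix _ (hsq v)]
    have s2 : v2 * v2 = v * v := by rw [hv2, ← map_mul, hfix _ (hsq v1), s1]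
    have s3 : v3 * v3 = v * v := by rw [hv3, ← map_mul, hfix _ (hsq v2), s2]
    have s4 : v4 * v4 = v * v := by rw [hv4, ← map_mul, hfix _ (hsq v3), s3]
    obtain ⟨z, hz, hz4⟩ : ∃ z ∈ Z, v4 = v * v1 * (v2 * v3) * z := ⟨(v * v1 * (v2 * v3))⁻¹ * v4, by
      rw [← hp1, map_mul, map_inv, e4]
      simp only [map_mul]
      rw [← mul_assoc (p v * p v1), inv_mul_cancel], by rw [mul_inv_cancel_left]⟩
    have hqq : v * v * (v * v) = 1 := hZ2 _ (hsq v)
    rw [← s4, hz4, hsqmul, commutatorElement_eq_one_iff_mul_comm.2 (hcen z hz _), hZ2 z hz, mul_one, mul_one,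
      hsqmul, hsqmul v v1, hsqmul v2 v3, s1, s2, s3, hqq, one_mul, one_mul, ← hB1, c23, hB1', one_mul,
      hadd_left, hadd_right, hadd_right, ← hB2, c03, c12, c13, hB2', one_mul]
  let g : Multiplicative W →* T :=
    { toFun := fun w => B1 ^ (Multiplicative.toAdd w).1.val * B2 ^ (Multiplicative.toAdd w).2.val
      map_one' := by simp
      map_mul' := fun a b => by
        obtain ⟨a, rfl⟩ := Multiplicative.ofAdd.surjective a
        obtain ⟨b, rfl⟩ := Multiplicative.ofAdd.surjective b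
        obtain ⟨a1, a2⟩ := a
        obtain ⟨b1, b2⟩ := b
        have hval : ∀ x : T, x * x = 1 → ∀ a b : ZMod 2, x ^ (a + b).val = x ^ a.val * x ^ b.val := fun x hx a b => by
          rcases hZ2' a with rfl | rfl <;> rcases hZ2' b with rfl | rfl <;>
            simp [show ((1 : ZMod 2) + 1) = 0 by decide, ZMod.val_one, hx]
        have hc : Commute (B1 ^ b1.val) (B2 ^ a2.val) := (show Commute B1 B2 from hcen _ hB2Z B1).pow_pow _ _
        show B1 ^ (a1 + b1).val * B2 ^ (a2 + b2).val = B1 ^ a1.val * B2 ^ a2.val * (B1 ^ b1.val * B2 ^ b2.val)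
        rw [hval B1 hB1', hval B2 hB2']
        calc B1 ^ a1.val * B1 ^ b1.val * (B2 ^ a2.val * B2 ^ b2.val)
            = B1 ^ a1.val * (B1 ^ b1.val * B2 ^ a2.val) * B2 ^ b2.val := by simp only [mul_assoc]
          _ = _ := by rw [hc.eq]; simp only [mul_assoc] }
  have hgv : ∀ a b : ZMod 2, g (Multiplicative.ofAdd (a, b)) = B1 ^ a.val * B2 ^ b.val := fun a b => rfl
  have gB1 : g (Multiplicative.ofAdd (1, 0)) = B1 := by rw [hgv]; simp [ZMod.val_one]
  have gB2 : g (Multiplicative.ofAdd (0, 1)) = B2 := by rw [hgv]; simp [ZMod.val_one]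
  have hgr : g.range = Z := by
    refine le_antisymm ?_ ?_
    · rintro _ ⟨w, rfl⟩
      exact mul_mem (pow_mem hB1Z _) (pow_mem hB2Z _)
    · refine hTZ.trans ?_
      rw [commutator_eq_closure, Subgroup.closure_le]
      rintro _ ⟨x, y, rfl⟩
      show ⁅x, y⁆ ∈ g.range
      have hbr : ∀ (u x : T) (c : ZMod 2), ⁅u, x⁆ ∈ g.range → ⁅u, pw x c⁆ ∈ g.range := fun u x c hux => by
        rcases hZ2' c with rfl | rfl
        · rw [hpw, ZMod.val_zero, pow_zero, commutatorElement_one_right]; exact one_mem _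
        · rwa [hσo]
      have hbl : ∀ (x u : T) (c : ZMod 2), ⁅x, u⁆ ∈ g.range → ⁅pw x c, u⁆ ∈ g.range := fun x u c hux => by
        rcases hZ2' c with rfl | rfl
        · rw [hpw, ZMod.val_zero, pow_zero, commutatorElement_one_left]; exact one_mem _
        · rwa [hσo]
      have key : ∀ (u : T), (⁅u, v⁆ ∈ g.range ∧ ⁅u, v1⁆ ∈ g.range ∧ ⁅u, v2⁆ ∈ g.range ∧ ⁅u, v3⁆ ∈ g.range) →
          ∀ y, ⁅u, y⁆ ∈ g.range := by
        rintro u ⟨h0, h1, h2, h3⟩ y
        obtain ⟨c, hc⟩ := hsurj (p y)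
        have hy : (σ c)⁻¹ * y ∈ Z := by rw [← hp1, map_mul, map_inv, hc, inv_mul_cancel]
        rw [show y = σ c * ((σ c)⁻¹ * y) by rw [mul_inv_cancel_left], hadd_right,
          commutatorElement_eq_one_iff_mul_comm.2 (hcen _ hy u), mul_one, hσ]
        simp only [hadd_right]
        exact mul_mem (mul_mem (mul_mem (hbr u v _ h0) (hbr u v1 _ h1)) (hbr u v2 _ h2)) (hbr u v3 _ h3)
      have r1 : B1 ∈ g.range := ⟨_, gB1⟩
      have r2 : B2 ∈ g.range := ⟨_, gB2⟩
      have k0 := key v ⟨by simp, hB1 ▸ r1, hB2 ▸ r2, c03.symm ▸ r2⟩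
      have k1 := key v1 ⟨by rw [hswap, ← hB1]; exact r1, by simp, c12.symm ▸ r1, c13.symm ▸ r2⟩
      have k2 := key v2 ⟨by rw [hswap, ← hB2]; exact r2, by rw [hswap, c12]; exact r1, by simp, c23.symm ▸ r1⟩
      have k3 := key v3 ⟨by rw [hswap, c03]; exact r2, by rw [hswap, c13]; exact r2,
        by rw [hswap, c23]; exact r1, by simp⟩
      obtain ⟨c, hc⟩ := hsurj (p x)
      have hx : (σ c)⁻¹ * x ∈ Z := by rw [← hp1, map_mul, map_inv, hc, inv_mul_cancel]
      rw [show x = σ c * ((σ c)⁻¹ * x) by rw [mul_inv_cancel_left], hadd_left,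
        commutatorElement_eq_one_iff_mul_comm.2 (hcen _ hx y).symm, mul_one, hσ]
      simp only [hadd_left]
      exact mul_mem (mul_mem (mul_mem (hbl v y _ (k0 y)) (hbl v1 y _ (k1 y))) (hbl v2 y _ (k2 y))) (hbl v3 y _ (k3 y))
  have hginj : Function.Injective g.rangeRestrict := by
    refine (g.rangeRestrict_surjective.bijective_of_nat_card_le ?_).1
    rw [hgr, hZ4]; simp [Nat.card_eq_fintype_card]
  choose co hco using hsurj
  have hco' : ∀ c, co (p (σ c)) = c := fun c => hbij.1 (hco _)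
  obtain ⟨E, hE⟩ : ∃ E : T → W, ∀ z (hz : z ∈ Z),
      g (Multiplicative.ofAdd (E z)) = z := by
    refine ⟨fun z => if hz : z ∈ g.range then Multiplicative.toAdd hz.choose else 0, fun z hz => ?_⟩
    have hz' : z ∈ g.range := hgr ▸ hz
    simp only [dif_pos hz']
    exact hz'.choose_spec
  have hEinj : ∀ a b : W, g (Multiplicative.ofAdd a) = g (Multiplicative.ofAdd b) → a = b := fun a b hab =>
    Multiplicative.ofAdd.injective (hginj (Subtype.ext hab))
  have hEval : ∀ w, E (g (Multiplicative.ofAdd w)) = w := fun w =>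
    hEinj _ _ (hE _ (hgr ▸ ⟨_, rfl⟩))
  have hEmul : ∀ x y, x ∈ Z → y ∈ Z → E (x * y) = E x + E y := fun x y hx hy =>
    hEinj _ _ (by rw [hE _ (mul_mem hx hy), ofAdd_add, map_mul, hE x hx, hE y hy])
  have hP : ∀ t, co (p t) = 0 ↔ t ∈ Z := fun t => by
    rw [← hp1]
    constructor
    · intro e0
      rw [← hco (p t), e0, hσ]
      simp [map_mul, hσz]
    · intro e0
      rw [e0, ← hco' 0, hσ]
      simp [map_mul, hσz]
  refine ⟨{ p := fun t => co (p t)
            E := E
            p_mul := fun t t' => hbij.1 (by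
              show p (σ (co (p (t * t')))) = p (σ (co (p t) + co (p t')))
              rw [hσadd, hco, hco, hco, map_mul])
            p_surj := fun c => ⟨σ c, hco' c⟩
            central := fun t t' ht => hcen t ((hP t).1 ht) t'
            E_mul := fun t t' ht ht' => hEmul t t' ((hP t).1 ht) ((hP t').1 ht')
            E_inj := fun t ht he => ?_
            E_surj := fun w => ⟨g (Multiplicative.ofAdd w), (hP _).2 (hgr ▸ ⟨_, rfl⟩), hEval w⟩ },
    fun t => hbij.1 ?_, fun t => ?_⟩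
  · rw [← hE t ((hP t).1 ht), he, ofAdd_zero, map_one]
  · show p (σ (co (p (φ t)))) = p (σ (shift (co (p t))))
    rw [hco, ← hσφ, ← hφb, ← hφb, hco]
  · show E (t * t) = qf (co (p t))
    obtain ⟨z, hz, hzt⟩ : ∃ z ∈ Z, t = σ (co (p t)) * z := ⟨(σ (co (p t)))⁻¹ * t, by
      rw [← hp1, map_mul, map_inv, hco, inv_mul_cancel], by rw [mul_inv_cancel_left]⟩
    obtain ⟨c, hc⟩ : ∃ c, c = co (p t) := ⟨_, rfl⟩
    rw [← hc] at hzt ⊢
    have e1 : t * t = σ c * σ c := by
      rw [hzt, hsqmul, commutatorElement_eq_one_iff_mul_comm.2 (hcen z hz _), hZ2 z hz, mul_one, mul_one]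
    have hpsq : ∀ x : T, x * x = v * v → ∀ d, E (pw x d * pw x d) = (d, d) := fun x hx d => by
      rcases hZ2' d with rfl | rfl
      · have h0 := hEval (0, 0)
        simpa [hpw, hgv] using h0
      · rw [hσo, hx, hq]
        simpa [hgv, ZMod.val_one] using hEval (1, 1)
    have hpc : ∀ (x y : T) (w : W), ⁅x, y⁆ = g (Multiplicative.ofAdd w) → ∀ c d,
        E ⁅pw x c, pw y d⁆ = (c * d * w.1, c * d * w.2) := fun x y w hw c d => by
      have h0 := hEval (0, 0)
      rcases hZ2' c with rfl | rfl <;> rcases hZ2' d with rfl | rfl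
      · simpa [hpw, hgv] using h0
      · simpa [hpw, hgv] using h0
      · simpa [hpw, hgv] using h0
      · rw [hσo, hσo, hw, hEval]; simp
    have s1 : v1 * v1 = v * v := by rw [hv1, ← map_mul, hfix _ (hsq v)]
    have s2 : v2 * v2 = v * v := by rw [hv2, ← map_mul, hfix _ (hsq v1), s1]
    have s3 : v3 * v3 = v * v := by rw [hv3, ← map_mul, hfix _ (hsq v2), s2]
    have hE2 : ∀ x y : T, E (x * y * (x * y)) = E (x * x) + E (y * y) + E ⁅x, y⁆ := fun x y => by
      rw [hsqmul, hEmul _ _ (mul_mem (hsq x) (hsq y)) (hcmZ x y), hEmul _ _ (hsq x) (hsq y)]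
    have hE3 : ∀ x y z : T, E ⁅x * y, z⁆ = E ⁅x, z⁆ + E ⁅y, z⁆ := fun x y z => by
      rw [hadd_left, hEmul _ _ (hcmZ x z) (hcmZ y z)]
    rw [e1, hσ, hE2, hE3, hE3, hE2, hE3, hE2, hpsq v rfl, hpsq v1 s1, hpsq v2 s2, hpsq v3 s3,
      hpc v v1 (1, 0) (by rw [gB1, hB1]), hpc v v2 (0, 1) (by rw [gB2, hB2]),
      hpc v1 v2 (1, 0) (by rw [gB1, c12]), hpc v v3 (0, 1) (by rw [gB2, c03]),
      hpc v1 v3 (0, 1) (by rw [gB2, c13]), hpc v2 v3 (1, 0) (by rw [gB1, c23])]
    simp only [qf, Prod.mk_add_mk, mul_one, mul_zero, add_zero, Prod.mk.injEq]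
    constructor <;> ring

variable {G : Type*} [Group G] [Finite G]

/-- The data attached to a group. -/
theorem exists_data (hG : Nat.card G = 320) (hD : Nat.card (commutator G) = 64)
    (hZc : Nat.card (Subgroup.center (commutator G)) = 4)
    (hZ2 : ∀ z ∈ Subgroup.center (commutator G), z * z = 1) :
    ∃ (a : G) (c : SqData (commutator G) V W), a ^ 5 = 1 ∧ (∀ i : ℕ, a ^ i ∈ commutator G → 5 ∣ i) ∧
      (∀ t, c.p (MulAut.conjNormal a t) = shift (c.p t)) ∧
      (∀ t, c.p t = 0 → MulAut.conjNormal a t = t) ∧ ∀ t, c.E (t * t) = qf (c.p t) := by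
  classical
  obtain ⟨T, hTdef⟩ : ∃ T, T = commutator G := ⟨_, rfl⟩
  subst hTdef
  haveI : Fact (Nat.Prime 5) := ⟨by norm_num⟩
  haveI : Fact (Nat.Prime 2) := ⟨Nat.prime_two⟩
  obtain ⟨a, ha⟩ := exists_prime_orderOf_dvd_card' (G := G) 5 (by rw [hG]; norm_num)
  have ha5 : a ^ 5 = 1 := ha ▸ pow_orderOf_eq_one a
  have hnot : ∀ i : ℕ, a ^ i ∈ commutator G → 5 ∣ i := fun i hi => by
    rw [← ha]
    refine orderOf_dvd_of_pow_eq_one (orderOf_eq_one_iff.1 (Nat.eq_one_of_dvd_coprimes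
      (by norm_num : Nat.Coprime 5 64) ?_ ?_))
    · exact ha ▸ orderOf_pow_dvd i
    · rw [← hD]; exact Subgroup.orderOf_dvd_natCard _ hi
  have hq5 : Nat.card (G ⧸ commutator G) = 5 := by
    have h1 := Subgroup.card_eq_card_quotient_mul_card_subgroup (commutator G)
    rw [hG, hD] at h1
    omega
  have hgen : ∀ g : G, ∃ i : ℕ, g * (a ^ i)⁻¹ ∈ commutator G := fun g => by
    have hab : (QuotientGroup.mk' (commutator G) a) ≠ 1 := fun e1 => by
      have := hnot 1 (by rw [pow_one]; exact (QuotientGroup.eq_one_iff a).1 e1)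
      omega
    have h1 : QuotientGroup.mk' (commutator G) g ∈ Submonoid.powers (QuotientGroup.mk' (commutator G) a) :=
      mem_powers_of_prime_card hq5 hab
    obtain ⟨i, hi⟩ := (Submonoid.mem_powers_iff _ _).1 h1
    exact ⟨i, (QuotientGroup.eq_one_iff _).1 (by
      show QuotientGroup.mk' (commutator G) (g * (a ^ i)⁻¹) = 1
      rw [map_mul, map_inv, map_pow, hi, mul_inv_cancel])⟩
  obtain ⟨φ, hφ⟩ : ∃ φ : commutator G ≃* commutator G, φ = MulAut.conjNormal a := ⟨_, rfl⟩
  have hφv : ∀ t, ((φ t : commutator G) : G) = a * t * a⁻¹ := fun t => by rw [hφ, MulAut.conjNormal_apply]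
  have hφ5 : ∀ t, φ (φ (φ (φ (φ t)))) = t := fun t => Subtype.ext (by
    simp only [hφv]
    calc a * (a * (a * (a * (a * (t : G) * a⁻¹) * a⁻¹) * a⁻¹) * a⁻¹) * a⁻¹ = a ^ 5 * t * (a ^ 5)⁻¹ := by
          simp only [pow_succ, pow_zero, one_mul, mul_inv_rev, mul_assoc]
      _ = t := by rw [ha5, one_mul, inv_one, mul_one])
  -- fixed points modulo an invariant subgroup with abelian quotient
  have hfpf : ∀ N : Subgroup (commutator G), (∀ t ∈ N, φ t ∈ N) → (∀ x y : commutator G, ⁅x, y⁆ ∈ N) →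
      ∀ t, t⁻¹ * φ t ∈ N → t ∈ N := by
    intro N hNφ hNc
    haveI : N.Normal := ⟨fun n hn x => by
      rw [show x * n * x⁻¹ = ⁅x, n⁆ * n by rw [commutatorElement_def]; group]
      exact mul_mem (hNc x n) hn⟩
    let π := QuotientGroup.mk' N
    let f : commutator G ⧸ N → commutator G ⧸ N :=
      Quotient.lift (fun t => π (t⁻¹ * φ t)) fun s t hst => by
        have hst' : s⁻¹ * t ∈ N := QuotientGroup.leftRel_apply.1 hst
        have h1 : π s = π t := QuotientGroup.eq.2 hst'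
        have h2 : π (φ s) = π (φ t) := QuotientGroup.eq.2 (by rw [← map_inv, ← map_mul]; exact hNφ _ hst')
        show π (s⁻¹ * φ s) = π (t⁻¹ * φ t)
        rw [map_mul, map_mul, map_inv, map_inv, h1, h2]
    have hcomm : ∀ x y : commutator G ⧸ N, x * y = y * x := fun x y => by
      obtain ⟨x, rfl⟩ := QuotientGroup.mk'_surjective N x
      obtain ⟨y, rfl⟩ := QuotientGroup.mk'_surjective N y
      rw [← commutatorElement_eq_one_iff_mul_comm, ← map_commutatorElement]
      exact (QuotientGroup.eq_one_iff _).2 (hNc x y)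
    have hsurj : Function.Surjective f := by
      let I : Subgroup G :=
        { carrier := {x | ∃ hx : x ∈ commutator G, π ⟨x, hx⟩ ∈ Set.range f}
          one_mem' := ⟨one_mem _, π 1, show π ((1 : commutator G)⁻¹ * φ 1) = π _ by
            rw [map_one φ, inv_one, one_mul]; rfl⟩
          mul_mem' := by
            rintro x y ⟨hx, qx, hqx⟩ ⟨hy, qy, hqy⟩
            obtain ⟨s, rfl⟩ := QuotientGroup.mk'_surjective N qx
            obtain ⟨t, rfl⟩ := QuotientGroup.mk'_surjective N qy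
            refine ⟨mul_mem hx hy, π (s * t), ?_⟩
            have hqx' : π (s⁻¹ * φ s) = π ⟨x, hx⟩ := hqx
            have hqy' : π (t⁻¹ * φ t) = π ⟨y, hy⟩ := hqy
            show π ((s * t)⁻¹ * φ (s * t)) = π (⟨x, hx⟩ * ⟨y, hy⟩)
            rw [map_mul π (⟨x, hx⟩ : commutator G), ← hqx', ← hqy', ← map_mul π,
              show (s * t)⁻¹ * φ (s * t) = t⁻¹ * (s⁻¹ * φ s) * φ t by rw [map_mul]; group,
              map_mul, map_mul, hcomm (π t⁻¹), mul_assoc, ← map_mul π t⁻¹, map_mul π (s⁻¹ * φ s)]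
          inv_mem' := by
            rintro x ⟨hx, qx, hqx⟩
            obtain ⟨s, rfl⟩ := QuotientGroup.mk'_surjective N qx
            refine ⟨inv_mem hx, π s⁻¹, ?_⟩
            have hqx' : π (s⁻¹ * φ s) = π ⟨x, hx⟩ := hqx
            show π (s⁻¹⁻¹ * φ s⁻¹) = π (⟨x, hx⟩⁻¹)
            rw [map_inv π (⟨x, hx⟩ : commutator G), ← hqx', inv_inv, map_inv φ, map_mul, map_inv, map_mul,
              map_inv, mul_inv_rev, inv_inv, hcomm] }
      haveI : I.Normal := ⟨by
        rintro x ⟨hx, qx, hqx⟩ g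
        obtain ⟨i, hi⟩ := hgen g
        obtain ⟨s, rfl⟩ := QuotientGroup.mk'_surjective N qx
        have hqx' : π (s⁻¹ * φ s) = π ⟨x, hx⟩ := hqx
        -- conjugation by powers of `a`
        have hpow : ∀ i : ℕ, a ^ i * x * (a ^ i)⁻¹ ∈ {x | ∃ hx : x ∈ commutator G, π ⟨x, hx⟩ ∈ Set.range f} := by
          intro i
          induction i with
          | zero => exact ⟨by simpa using hx, π s, by
              show π (s⁻¹ * φ s) = _
              rw [hqx']; exact congrArg π (Subtype.ext (by simp))⟩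
          | succ i ih =>
            obtain ⟨hxi, qi, hqi⟩ := ih
            obtain ⟨si, rfl⟩ := QuotientGroup.mk'_surjective N qi
            have hqi' : π (si⁻¹ * φ si) = π ⟨_, hxi⟩ := hqi
            refine ⟨Subgroup.Normal.conj_mem inferInstance x hx _, π (φ si), ?_⟩
            have h2 := QuotientGroup.eq.1 hqi'
            have h3 := hNφ _ h2
            show π ((φ si)⁻¹ * φ (φ si)) = π _
            refine QuotientGroup.eq.2 ?_
            rw [map_mul, map_inv, map_mul, map_inv] at h3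
            convert h3 using 2
            refine Subtype.ext ?_
            rw [hφv]
            show a ^ (i + 1) * x * (a ^ (i + 1))⁻¹ = a * (a ^ i * x * (a ^ i)⁻¹) * a⁻¹
            rw [pow_succ']; group
        obtain ⟨hxi, qi, hqi⟩ := hpow i
        refine ⟨Subgroup.Normal.conj_mem inferInstance x hx g, qi, hqi.trans ?_⟩
        obtain ⟨t, ht⟩ : ∃ t : commutator G, (t : G) = g * (a ^ i)⁻¹ := ⟨⟨_, hi⟩, rfl⟩
        have e1 : (⟨g * x * g⁻¹, Subgroup.Normal.conj_mem inferInstance x hx g⟩ : commutator G) =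
            t * ⟨_, hxi⟩ * t⁻¹ := Subtype.ext (by
          show g * x * g⁻¹ = (t : G) * (a ^ i * x * (a ^ i)⁻¹) * (t : G)⁻¹
          rw [ht]; group)
        rw [e1, map_mul, map_mul, map_inv, hcomm (π t), mul_inv_cancel_right]⟩
      have hle : commutator G ≤ I := by
        have hc : ∀ x y : G ⧸ I, x * y = y * x := by
          have hTT : ∀ s t : commutator G, ((s : G) : G ⧸ I) * ((t : G) : G ⧸ I) =
              ((t : G) : G ⧸ I) * ((s : G) : G ⧸ I) := fun s t => by
            refine commutatorElement_eq_one_iff_mul_comm.1 ((QuotientGroup.eq_one_iff (N := I) ⁅(s : G), (t : G)⁆).2 ?_)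
            refine ⟨(⁅s, t⁆ : commutator G).2, π 1, ?_⟩
            show π ((1 : commutator G)⁻¹ * φ 1) = π ⁅s, t⁆
            rw [map_one φ, inv_one, one_mul, map_one, map_commutatorElement, eq_comm,
              commutatorElement_eq_one_iff_mul_comm]
            exact hcomm _ _
          have hTa : ∀ s : commutator G, Commute ((s : G) : G ⧸ I) (a : G ⧸ I) := fun s => by
            refine commutatorElement_eq_one_iff_mul_comm.1 ((QuotientGroup.eq_one_iff (N := I) ⁅(s : G), a⁆).2 ?_)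
            have e1 : ⁅(s : G), a⁆ = ((s * φ s⁻¹ : commutator G) : G) := by
              rw [Subgroup.coe_mul, hφv, commutatorElement_def, Subgroup.coe_inv]; group
            rw [e1]
            exact ⟨(s * φ s⁻¹).2, π s⁻¹, by
              show π (s⁻¹⁻¹ * φ s⁻¹) = π (s * φ s⁻¹)
              rw [inv_inv]⟩
          intro x y
          obtain ⟨x, rfl⟩ := QuotientGroup.mk_surjective x
          obtain ⟨y, rfl⟩ := QuotientGroup.mk_surjective y
          obtain ⟨i, hi⟩ := hgen x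
          obtain ⟨j, hj⟩ := hgen y
          rw [show (x : G ⧸ I) = ((x * (a ^ i)⁻¹ : G) : G ⧸ I) * (a : G ⧸ I) ^ i by
              rw [← QuotientGroup.mk_pow, ← QuotientGroup.mk_mul, inv_mul_cancel_right],
            show (y : G ⧸ I) = ((y * (a ^ j)⁻¹ : G) : G ⧸ I) * (a : G ⧸ I) ^ j by
              rw [← QuotientGroup.mk_pow, ← QuotientGroup.mk_mul, inv_mul_cancel_right]]
          have c1 : Commute ((x * (a ^ i)⁻¹ : G) : G ⧸ I) ((a : G ⧸ I) ^ j) := (hTa ⟨_, hi⟩).pow_right j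
          have c2 : Commute ((a : G ⧸ I) ^ i) ((y * (a ^ j)⁻¹ : G) : G ⧸ I) := ((hTa ⟨_, hj⟩).pow_right i).symm
          exact ((show Commute _ _ from hTT ⟨_, hi⟩ ⟨_, hj⟩).mul_right c1).mul_left
            (c2.mul_right ((Commute.refl (a : G ⧸ I)).pow_pow i j))
        rw [commutator_eq_closure, Subgroup.closure_le]
        rintro _ ⟨x, y, rfl⟩
        refine (QuotientGroup.eq_one_iff (N := I) ⁅x, y⁆).1 ?_
        show ((QuotientGroup.mk' I) ⁅x, y⁆) = 1
        rw [map_commutatorElement, commutatorElement_eq_one_iff_mul_comm]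
        exact hc _ _
      intro q
      obtain ⟨⟨x, hx⟩, rfl⟩ := QuotientGroup.mk'_surjective N q
      obtain ⟨hx', hr⟩ := hle hx
      exact hr
    have hinj : Function.Injective f := Finite.injective_iff_surjective.2 hsurj
    intro t ht
    refine (QuotientGroup.eq_one_iff t).1 (hinj (a₁ := π t) (a₂ := π 1) ?_)
    show π (t⁻¹ * φ t) = π ((1 : commutator G)⁻¹ * φ 1)
    rw [map_one φ, inv_one, one_mul, map_one]
    exact (QuotientGroup.eq_one_iff _).2 ht
  -- the derived subgroup of `T` is its centre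
  have hmod : ∀ N : Subgroup (commutator G), (∀ t ∈ N, φ t ∈ N) → (∀ x y : commutator G, ⁅x, y⁆ ∈ N) →
      N.index % 5 = 1 := by
    intro N hNφ hNc
    haveI : N.Normal := ⟨fun n hn x => by
      rw [show x * n * x⁻¹ = ⁅x, n⁆ * n by rw [commutatorElement_def]; group]
      exact mul_mem (hNc x n) hn⟩
    let φN : commutator G ⧸ N ≃* commutator G ⧸ N := QuotientGroup.congr N N φ (Subgroup.eq_of_le_of_card_ge
      (by rintro _ ⟨t, ht, rfl⟩; exact hNφ t ht) (Subgroup.card_map_of_injective φ.injective).ge)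
    rw [Subgroup.index_eq_card]
    refine card_mod_five φN.toEquiv ?_ 1 (map_one φN) fun q hq => ?_
    · ext q
      obtain ⟨t, rfl⟩ := QuotientGroup.mk_surjective q
      show φN (φN (φN (φN (φN (t : commutator G ⧸ N))))) = (t : commutator G ⧸ N)
      exact congrArg (QuotientGroup.mk (s := N)) (hφ5 t)
    · obtain ⟨t, rfl⟩ := QuotientGroup.mk_surjective q
      refine (QuotientGroup.eq_one_iff t).2 (hfpf N hNφ hNc t ?_)
      exact QuotientGroup.eq.1 (show (t : commutator G ⧸ N) = ((φ t : commutator G) : commutator G ⧸ N) from hq.symm)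
  obtain ⟨C, hC⟩ : ∃ C, C = commutator (commutator G) := ⟨_, rfl⟩
  have hCc : ∀ x y : commutator G, ⁅x, y⁆ ∈ C := fun x y =>
    hC ▸ Subgroup.commutator_mem_commutator (Subgroup.mem_top x) (Subgroup.mem_top y)
  have hCφ : ∀ t ∈ C, φ t ∈ C := by
    intro t ht
    have : C.map φ.toMonoidHom ≤ C := by
      rw [hC, commutator_eq_closure (G := commutator G), MonoidHom.map_closure, Subgroup.closure_le]
      rintro _ ⟨_, ⟨x, y, rfl⟩, rfl⟩
      exact Subgroup.subset_closure ⟨φ x, φ y, (map_commutatorElement φ x y).symm⟩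
    exact this (Subgroup.mem_map_of_mem _ ht)
  have hCi : C.index = 16 := by
    haveI : Nontrivial (commutator G) := Finite.one_lt_card_iff_nontrivial.1 (by omega)
    haveI : Group.IsNilpotent (commutator G) := (IsPGroup.of_card (p := 2) (n := 6) (by rw [hD]; norm_num)).isNilpotent
    have hlt : C < ⊤ := hC ▸ IsSolvable.commutator_lt_top_of_nontrivial (commutator G)
    have h1 : C.index ≠ 1 := fun e1 => hlt.ne (Subgroup.index_eq_one.1 e1)
    have h2 : C.index ∣ 2 ^ 6 := by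
      rw [show (2 ^ 6) = 64 by norm_num, ← hD]; exact Subgroup.index_dvd_card C
    obtain ⟨k, hk, hk'⟩ := (Nat.dvd_prime_pow Nat.prime_two).1 h2
    have h3 := hmod C hCφ hCc
    rw [hk'] at h1 h3 ⊢
    interval_cases k <;> first | omega | norm_num
  have hC4 : Nat.card C = 4 := by
    have h1 := C.card_mul_index
    rw [hD, hCi] at h1
    omega
  have hfix4 : ∀ N : Subgroup (commutator G), (∀ t ∈ N, φ t ∈ N) → Nat.card N ≤ 4 → ∀ z ∈ N, φ z = z := by
    intro N hN hN4 z hz
    let σ : Equiv.Perm N :=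
      { toFun := fun x => ⟨φ x, hN x x.2⟩
        invFun := fun x => ⟨φ (φ (φ (φ x))), hN _ (hN _ (hN _ (hN _ x.2)))⟩
        left_inv := fun x => Subtype.ext (hφ5 x)
        right_inv := fun x => Subtype.ext (hφ5 x) }
    have h1 : σ = 1 := perm_fix hN4 σ (by
      ext x
      show ((φ (φ (φ (φ (φ (x : commutator G))))) : commutator G) : G) = ((x : commutator G) : G)
      rw [hφ5])
    exact congrArg Subtype.val (Equiv.congr_fun h1 ⟨z, hz⟩)
  have hCfix := hfix4 C hCφ hC4.le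
  have hCab : ∀ x ∈ C, ∀ y ∈ C, x * y = y * x := fun x hx y hy =>
    congrArg Subtype.val (IsPGroup.commutative_of_card_eq_prime_sq (p := 2) (hC4.trans (by norm_num)) ⟨x, hx⟩ ⟨y, hy⟩)
  haveI : C.Normal := hC ▸ inferInstance
  have hCcen : C ≤ Subgroup.center (commutator G) := by
    intro f hf
    have hu : ∀ s, ⁅s⁻¹ * φ s, f⁆ = 1 := fun s => by
      have hfs : φ ⁅s, f⁆ = ⁅s, f⁆ := hCfix _ (hCc _ _)
      rw [map_commutatorElement, hCfix f hf] at hfs
      calc ⁅s⁻¹ * φ s, f⁆ = s⁻¹ * ⁅φ s, f⁆ * s * ⁅s⁻¹, f⁆ := by simp only [commutatorElement_def]; group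
        _ = 1 := by rw [hfs]; simp only [commutatorElement_def]; group
    let Cf : Subgroup (commutator G) := Subgroup.centralizer {f}
    have hCfle : C ≤ Cf := fun x hx => Subgroup.mem_centralizer_singleton_iff.2 (hCab x hx f hf)
    haveI : Finite (commutator G ⧸ C) := inferInstance
    have hsur : Function.Surjective (fun q : commutator G ⧸ C =>
        ((Quotient.out q)⁻¹ * φ (Quotient.out q) : commutator G ⧸ C) ) := by
      refine Finite.injective_iff_surjective.1 fun q q' hqq => ?_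
      have h1 : ((Quotient.out q)⁻¹ * φ (Quotient.out q))⁻¹ * ((Quotient.out q')⁻¹ * φ (Quotient.out q')) ∈ C :=
        QuotientGroup.eq.1 hqq
      have h2 : (Quotient.out q' * (Quotient.out q)⁻¹)⁻¹ * φ (Quotient.out q' * (Quotient.out q)⁻¹) ∈ C := by
        have hc' : ∀ x y : commutator G ⧸ C, x * y = y * x := fun x y => by
          obtain ⟨x, rfl⟩ := QuotientGroup.mk'_surjective C x
          obtain ⟨y, rfl⟩ := QuotientGroup.mk'_surjective C y
          rw [← commutatorElement_eq_one_iff_mul_comm, ← map_commutatorElement]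
          exact (QuotientGroup.eq_one_iff _).2 (hCc x y)
        letI : CommGroup (commutator G ⧸ C) := { (inferInstance : Group (commutator G ⧸ C)) with mul_comm := hc' }
        rw [← QuotientGroup.eq_one_iff] at h1 ⊢
        rw [map_mul, map_inv]
        simp only [QuotientGroup.mk_mul, QuotientGroup.mk_inv, mul_inv_rev, inv_inv] at h1 ⊢
        rw [← h1]
        ac_rfl
      have h3 := hfpf C hCφ hCc _ h2
      rw [← QuotientGroup.out_eq' q, ← QuotientGroup.out_eq' q']
      have hqn : ((Quotient.out q' : commutator G) : commutator G ⧸ C) * ((Quotient.out q : commutator G) : commutator G ⧸ C)⁻¹ = 1 :=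
        (QuotientGroup.eq_one_iff _).2 h3
      exact (mul_inv_eq_one.1 hqn).symm
    refine Subgroup.mem_center_iff.2 fun t => ?_
    obtain ⟨q, hq⟩ := hsur (t : commutator G ⧸ C)
    have hm : ((Quotient.out q)⁻¹ * φ (Quotient.out q))⁻¹ * t ∈ C := QuotientGroup.eq.1 hq
    have ht : t ∈ Cf := by
      have h1 : (Quotient.out q)⁻¹ * φ (Quotient.out q) ∈ Cf :=
        Subgroup.mem_centralizer_singleton_iff.2 (commutatorElement_eq_one_iff_mul_comm.1 (hu _))
      have := mul_mem h1 (hCfle hm)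
      rwa [mul_inv_cancel_left] at this
    exact Subgroup.mem_centralizer_singleton_iff.1 ht
  have hCZ : C = Subgroup.center (commutator G) := Subgroup.eq_of_le_of_card_ge hCcen (by rw [hZc, hC4])
  have hsq : ∀ t, t * t ∈ C := by
    let K : Subgroup (commutator G) :=
      { carrier := {t | t * t ∈ C}
        one_mem' := by simp
        mul_mem' := fun {x y} hx hy => by
          show x * y * (x * y) ∈ C
          rw [show x * y * (x * y) = x * ⁅y, x⁆ * x⁻¹ * (x * x * (y * y)) by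
            simp only [commutatorElement_def]; group]
          exact mul_mem (Subgroup.Normal.conj_mem inferInstance _ (hCc y x) x) (mul_mem hx hy)
        inv_mem' := fun {x} hx => by
          show x⁻¹ * x⁻¹ ∈ C
          rw [← mul_inv_rev]; exact inv_mem hx }
    have hCK : C ≤ K := fun x hx => mul_mem hx hx
    have hKφ : ∀ t ∈ K, φ t ∈ K := fun t ht => by
      show φ t * φ t ∈ C
      rw [← map_mul]; exact hCφ _ ht
    have h1 := hmod K hKφ fun x y => hCK (hCc x y)
    have h2 : K.index ∣ 16 := hCi ▸ Subgroup.index_dvd_of_le hCK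
    have h3 : K.index ≠ 16 := fun e16 => by
      obtain ⟨q, hq⟩ := exists_prime_orderOf_dvd_card' (G := commutator G ⧸ C) 2 (by
        rw [← Subgroup.index_eq_card, hCi]; norm_num)
      obtain ⟨t, rfl⟩ := QuotientGroup.mk_surjective q
      have htK : t ∈ K := (QuotientGroup.eq_one_iff (N := C) (t * t)).1 (by
        show ((t : commutator G ⧸ C) * (t : commutator G ⧸ C)) = 1
        rw [← pow_two, ← hq]; exact pow_orderOf_eq_one _)
      have hne : C ≠ K := fun e => by
        rw [(QuotientGroup.eq_one_iff t).2 (e ▸ htK), orderOf_one] at hq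
        omega
      have := Subgroup.relIndex_mul_index hCK
      rw [e16, hCi] at this
      exact hne (le_antisymm hCK (Subgroup.relIndex_eq_one.1 (by omega)))
    have hK : K.index = 1 := by
      obtain ⟨k, hk, hk'⟩ := (Nat.dvd_prime_pow Nat.prime_two).1 (show K.index ∣ 2 ^ 4 by norm_num; exact h2)
      rw [hk'] at h1 h3 ⊢
      interval_cases k <;> first | omega | norm_num
    intro t
    have : t ∈ K := by rw [Subgroup.index_eq_one.1 hK]; exact Subgroup.mem_top t
    exact this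
  obtain ⟨c, hc1, hc2⟩ := exists_coords hD hZc (hCZ ▸ hC.le) hZ2 (hCZ ▸ hsq) φ hφ5 (hCZ ▸ hCfix)
    (hCZ ▸ hfpf C hCφ hCc)
  refine ⟨a, c, ha5, hnot, hφ ▸ hc1, fun t ht => ?_, hc2⟩
  rw [← hφ]
  exact hfix4 (Subgroup.center (commutator G)) (hCZ ▸ hCφ) hZc.le t
    (Subgroup.mem_center_iff.2 fun s => c.central t s ht)

/-- The group is determined. -/
theorem nonempty_mulEquiv {H : Type*} [Group H] [Finite H]
    (hG : Nat.card G = 320) (hD : Nat.card (commutator G) = 64)
    (hZc : Nat.card (Subgroup.center (commutator G)) = 4)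
    (hZ2 : ∀ z ∈ Subgroup.center (commutator G), z * z = 1)
    (hH : Nat.card H = 320) (hD' : Nat.card (commutator H) = 64)
    (hZc' : Nat.card (Subgroup.center (commutator H)) = 4)
    (hZ2' : ∀ z ∈ Subgroup.center (commutator H), z * z = 1) : Nonempty (G ≃* H) := by
  classical
  obtain ⟨a, c, ha5, hnot, hca, hcf, hcsq⟩ := exists_data hG hD hZc hZ2
  obtain ⟨b, d, hb5, hnotb, hdb, hdf, hdsq⟩ := exists_data hH hD' hZc' hZ2'
  have two : ∀ v : V, v + v = 0 := by decide
  obtain ⟨f, hfp, hfE⟩ := c.exists_mulEquiv two d fun g g' e => by rw [hcsq, hdsq, e]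
  obtain ⟨φ, hφ⟩ : ∃ φ : commutator G ≃* commutator G, φ = MulAut.conjNormal a := ⟨_, rfl⟩
  obtain ⟨ψ, hψ⟩ : ∃ ψ : commutator H ≃* commutator H, ψ = MulAut.conjNormal b := ⟨_, rfl⟩
  rw [← hφ] at hca hcf
  rw [← hψ] at hdb hdf
  -- the defect
  have hp1 : d.p 1 = 0 := by simpa using d.p_mul 1 1
  have hpinv : ∀ s, d.p s⁻¹ = -d.p s := fun s =>
    eq_neg_of_add_eq_zero_left (by rw [← d.p_mul, inv_mul_cancel, hp1])
  have hD0 : ∀ t, d.p ((ψ (f t))⁻¹ * f (φ t)) = 0 := fun t => by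
    rw [d.p_mul, hpinv, hdb, hfp, hfp, hca, neg_add_cancel]
  obtain ⟨δ, hδ⟩ : ∃ δ : commutator G → W, ∀ t, δ t = d.E ((ψ (f t))⁻¹ * f (φ t)) := ⟨_, fun t => rfl⟩
  have hδm : ∀ s t, δ (s * t) = δ s + δ t := fun s t => by
    rw [hδ, hδ, hδ, ← d.E_mul _ _ (hD0 s) (hD0 t)]
    congr 1
    rw [map_mul, map_mul, map_mul, map_mul, mul_inv_rev]
    calc (ψ (f t))⁻¹ * (ψ (f s))⁻¹ * (f (φ s) * f (φ t))
        = (ψ (f t))⁻¹ * ((ψ (f s))⁻¹ * f (φ s)) * f (φ t) := by group
      _ = _ := by rw [d.central _ _ (hD0 s)]; group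
  have hδ0 : ∀ t, c.p t = 0 → δ t = 0 := fun t ht => by
    have h0 : d.p (f t) = 0 := (hfp t).trans ht
    rw [hδ, hdf _ h0, hcf t ht, inv_mul_cancel]
    simpa using d.E_mul 1 1 hp1 hp1
  choose s hs using c.p_surj
  have hδc : ∀ t, δ t = δ (s (c.p t)) := fun t => by
    have h1 : c.p ((s (c.p t))⁻¹ * t) = 0 := by
      have e1 := c.p_mul (s (c.p t)) ((s (c.p t))⁻¹ * t)
      rw [mul_inv_cancel_left, hs] at e1
      simpa using e1
    conv_lhs => rw [show t = s (c.p t) * ((s (c.p t))⁻¹ * t) by rw [mul_inv_cancel_left]]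
    rw [hδm, hδ0 _ h1, add_zero]
  have hbij : Function.Bijective (fun v : V => shift v + v) := by
    have : Function.Injective (fun v : V => shift v + v) := by unfold shift; decide
    exact Finite.injective_iff_bijective.1 this
  choose inv1 hinv1 using hbij.2
  obtain ⟨m, hm⟩ : ∃ m : V → W, ∀ v, m v = δ (s (inv1 v)) := ⟨_, fun v => rfl⟩
  have hshift : ∀ u v : V, shift (u + v) = shift u + shift v := fun u v => by
    simp only [shift, Prod.fst_add, Prod.snd_add, Prod.mk_add_mk, Prod.mk.injEq]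
    exact ⟨trivial, by ring, by ring, by ring⟩
  have hmadd : ∀ u v, m (u + v) = m u + m v := fun u v => by
    rw [hm, hm, hm, ← hδm, hδc (s (inv1 u) * s (inv1 v)), c.p_mul, hs, hs]
    congr 2
    refine hbij.1 ?_
    show shift (inv1 (u + v)) + inv1 (u + v) = shift (inv1 u + inv1 v) + (inv1 u + inv1 v)
    have hi : ∀ x, shift (inv1 x) + inv1 x = x := hinv1
    rw [hi, hshift]
    conv_lhs => rw [← hi u, ← hi v]
    abel
  have hmeq : ∀ v, m (shift v) + m v = δ (s v) := fun v => by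
    rw [← hmadd, hm]
    congr 2
    exact hbij.1 (hinv1 (shift v + v))
  choose z hz hzE using d.E_surj
  have hzadd : ∀ u v, z (u + v) = z u * z v := fun u v => by
    have h0 : d.p (z u * z v) = 0 := by rw [d.p_mul, hz, hz, add_zero]
    have h1 : d.p ((z (u + v))⁻¹ * (z u * z v)) = 0 := by rw [d.p_mul, hpinv, hz, h0, neg_zero, add_zero]
    have h2 := d.E_mul (z (u + v)) _ (hz _) h1
    rw [mul_inv_cancel_left, d.E_mul _ _ (hz u) (hz v), hzE, hzE, hzE] at h2
    exact (inv_mul_eq_one.1 (d.E_inj _ h1 (add_left_cancel (h2.symm.trans (add_zero _).symm))))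
  let f' : commutator G →* commutator H := MonoidHom.mk' (fun t => f t * z (m (c.p t))) fun x y => by
    rw [map_mul, c.p_mul, hmadd, hzadd]
    calc f x * f y * (z (m (c.p x)) * z (m (c.p y))) = f x * (f y * z (m (c.p x))) * z (m (c.p y)) := by group
      _ = _ := by rw [d.central _ (f y) (hz (m (c.p x)))]; group
  have hf'eq : ∀ t, f' (φ t) = ψ (f' t) := fun t => by
    show f (φ t) * z (m (c.p (φ t))) = ψ (f t * z (m (c.p t)))
    rw [hca, map_mul, hdf _ (hz _)]
    have h1 : z (m (c.p t)) = (ψ (f t))⁻¹ * f (φ t) * z (m (shift (c.p t))) := by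
      obtain ⟨w, hw⟩ : ∃ w, w = (ψ (f t))⁻¹ * f (φ t) := ⟨_, rfl⟩
      rw [← hw]
      have hw0 : d.p w = 0 := hw ▸ hD0 t
      have hwz : w = z (δ t) := by
        have h3 : d.p ((z (δ t))⁻¹ * w) = 0 := by rw [d.p_mul, hpinv, hz, hw0, neg_zero, add_zero]
        have h2 := d.E_mul (z (δ t)) _ (hz _) h3
        have hwE : d.E w = δ t := by rw [hδ, hw]
        rw [mul_inv_cancel_left, hzE, hwE] at h2
        exact (inv_mul_eq_one.1 (d.E_inj _ h3 (add_left_cancel (h2.symm.trans (add_zero _).symm)))).symm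
      rw [hwz, ← hzadd, hδc t, ← hmeq (c.p t)]
      congr 1
      have hW2 : ∀ x : W, x + x = 0 := by decide
      calc m (c.p t) = (m (shift (c.p t)) + m (shift (c.p t))) + m (c.p t) := by rw [hW2, zero_add]
        _ = _ := by abel
    rw [h1, ← mul_assoc, mul_inv_cancel_left]
  have hf'inj : Function.Injective f' := by
    rw [injective_iff_map_eq_one]
    intro t ht
    have ht' : f t * z (m (c.p t)) = 1 := ht
    have h0 : c.p t = 0 := by
      have := congrArg d.p ht'
      rwa [d.p_mul, hfp, hz, add_zero, hp1] at this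
    have m0 : m 0 = 0 := by simpa using hmadd 0 0
    have z0 : z (0 : W) = 1 := by simpa using hzadd 0 0
    rw [h0, m0, z0, mul_one] at ht'
    exact f.injective (ht'.trans (map_one f).symm)
  -- extend to the whole group
  have hpow : ∀ (i : ℕ) (t : commutator G),
      (f' ⟨a ^ i * t * (a ^ i)⁻¹, Subgroup.Normal.conj_mem inferInstance _ t.2 _⟩ : H) =
        b ^ i * (f' t : H) * (b ^ i)⁻¹ := by
    intro i
    induction i with
    | zero => intro t; simp
    | succ i ih =>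
      intro t
      have e1 : (⟨a ^ (i + 1) * t * (a ^ (i + 1))⁻¹, Subgroup.Normal.conj_mem inferInstance _ t.2 _⟩ : commutator G) =
          φ ⟨a ^ i * t * (a ^ i)⁻¹, Subgroup.Normal.conj_mem inferInstance _ t.2 _⟩ := Subtype.ext (by
        rw [hφ, MulAut.conjNormal_apply, pow_succ']; group)
      rw [e1, hf'eq, hψ, MulAut.conjNormal_apply, ih, pow_succ']; group
  have hq5 : Nat.card (G ⧸ commutator G) = 5 := by
    have h1 := Subgroup.card_eq_card_quotient_mul_card_subgroup (commutator G)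
    rw [hG, hD] at h1
    omega
  haveI : Fact (Nat.Prime 5) := ⟨by norm_num⟩
  have hgen : ∀ g : G, ∃ (t : commutator G) (i : ℕ), (t : G) * a ^ i = g := fun g => by
    have hab : (QuotientGroup.mk' (commutator G) a) ≠ 1 := fun e1 => by
      have := hnot 1 (by rw [pow_one]; exact (QuotientGroup.eq_one_iff a).1 e1)
      omega
    have h1 : QuotientGroup.mk' (commutator G) g ∈ Submonoid.powers (QuotientGroup.mk' (commutator G) a) :=
      mem_powers_of_prime_card hq5 hab
    obtain ⟨i, hi⟩ := (Submonoid.mem_powers_iff _ _).1 h1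
    exact ⟨⟨g * (a ^ i)⁻¹, (QuotientGroup.eq_one_iff _).1 (by
      show QuotientGroup.mk' (commutator G) (g * (a ^ i)⁻¹) = 1
      rw [map_mul, map_inv, map_pow, hi, mul_inv_cancel])⟩, i, inv_mul_cancel_right g _⟩
  choose tt ii hti using hgen
  have hred : ∀ (x : G) (hx : x ^ 5 = 1) (i : ℕ), x ^ i = x ^ (i % 5) := fun x hx i => by
    conv_lhs => rw [← Nat.div_add_mod i 5, pow_add, pow_mul, hx, one_pow, one_mul]
  obtain ⟨Φ, hΦ⟩ : ∃ Φ : G → H, ∀ g, Φ g = (f' (tt g) : H) * b ^ (ii g) := ⟨_, fun g => rfl⟩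
  have hΦe : ∀ (t : commutator G) (i : ℕ), Φ ((t : G) * a ^ i) = (f' t : H) * b ^ i := fun t i => by
    rw [hΦ]
    obtain ⟨g, hg⟩ : ∃ g, g = (t : G) * a ^ i := ⟨_, rfl⟩
    rw [← hg]
    have h1 := (hti g).trans hg
    obtain ⟨j, hj⟩ : ∃ j, j = ii g := ⟨_, rfl⟩
    rw [← hj] at h1 ⊢
    obtain ⟨u, hu⟩ : ∃ u, u = tt g := ⟨_, rfl⟩
    rw [← hu] at h1 ⊢
    have h2 : a ^ (j + 4 * i) ∈ commutator G := by
      have : a ^ (j + 4 * i) = (u : G)⁻¹ * (t : G) := by
        rw [eq_inv_mul_iff_mul_eq, pow_add, ← mul_assoc, h1, mul_assoc, ← pow_add, show i + 4 * i = 5 * i by ring,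
          pow_mul, ha5, one_pow, mul_one]
      rw [this]
      exact mul_mem (inv_mem u.2) t.2
    have h5 := hnot _ h2
    have hij : j % 5 = i % 5 := by omega
    have hji : a ^ j = a ^ i := by rw [hred a ha5 j, hred a ha5 i, hij]
    have hut : u = t := Subtype.ext (mul_right_cancel (b := a ^ j) (h1.trans (by rw [hji])))
    have hredb : ∀ i : ℕ, b ^ i = b ^ (i % 5) := fun i => by
      conv_lhs => rw [← Nat.div_add_mod i 5, pow_add, pow_mul, hb5, one_pow, one_mul]
    rw [hut, hredb j, hredb i, hij]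
  let Ψ : G →* H := MonoidHom.mk' Φ fun g g' => by
    conv_rhs => rw [← hti g, ← hti g', hΦe, hΦe]
    have e1 : g * g' = ((tt g * ⟨a ^ ii g * tt g' * (a ^ ii g)⁻¹,
        Subgroup.Normal.conj_mem inferInstance _ (tt g').2 _⟩ : commutator G) : G) * a ^ (ii g + ii g') := by
      conv_lhs => rw [← hti g, ← hti g']
      rw [Subgroup.coe_mul, pow_add]
      group
    conv_lhs => rw [e1, hΦe, map_mul, Subgroup.coe_mul, hpow, pow_add]
    group
  have hinj : Function.Injective Ψ := by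
    rw [injective_iff_map_eq_one]
    intro g hg
    have hg' : Φ g = 1 := hg
    rw [hΦ] at hg'
    have h1 : b ^ ii g ∈ commutator H := by
      rw [eq_inv_of_mul_eq_one_right hg']
      exact inv_mem (f' (tt g)).2
    have h5 := hnotb _ h1
    have hb1 : b ^ ii g = 1 := by obtain ⟨k, hk⟩ := h5; rw [hk, pow_mul, hb5, one_pow]
    have ha1 : a ^ ii g = 1 := by obtain ⟨k, hk⟩ := h5; rw [hk, pow_mul, ha5, one_pow]
    rw [hb1, mul_one] at hg'
    have ht : tt g = 1 := hf'inj ((Subtype.ext hg' : f' (tt g) = 1).trans (map_one f').symm)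
    rw [← hti g, ha1, ht]
    simp
  exact ⟨MulEquiv.ofBijective Ψ (hinj.bijective_of_nat_card_le (by rw [hG, hH]))⟩

end Cfsg.Lib.TwoFour.Ext320
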