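import Cfsg.Agent.Lib.U3Even.Sylow

/-!
# An involution centralizer in `SU₃(4)`
-/

set_option autoImplicit false
set_option linter.unusedSectionVars false
set_option linter.style.haveILetI false

open Matrix Cfsg.Lib.Spec.UThree Cfsg.Lib.U3Even

namespace Cfsg.Lib.TwoFour.Ext320

variable {F : Type*} [Field F] [Fintype F]

set_option maxHeartbeats 2000000 in
/-- An involution of `SU₃(4)` whose centralizer has order 320, derived subgroup of order 64 and
derived subgroup with a four-group centre. -/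
theorem exists_target (hF : Fintype.card F = (2 ^ 2) ^ 2) :
    ∃ z : Cfsg.SU 3 F (2 ^ 2), orderOf z = 2 ∧
      Nat.card (Subgroup.centralizer ({z} : Set (Cfsg.SU 3 F (2 ^ 2)))) = 320 ∧
      Nat.card (commutator (Subgroup.centralizer ({z} : Set (Cfsg.SU 3 F (2 ^ 2))))) = 64 ∧
      Nat.card (Subgroup.center (commutator (Subgroup.centralizer ({z} : Set (Cfsg.SU 3 F (2 ^ 2)))))) = 4 ∧
      ∀ w ∈ Subgroup.center (commutator (Subgroup.centralizer ({z} : Set (Cfsg.SU 3 F (2 ^ 2))))), w * w = 1 := by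
  classical
  have hn : 1 ≤ 2 := by norm_num
  have hq0 : (2 ^ 2 : ℕ) ≠ 0 := by norm_num
  have t2 := two_eq_zero hn hF
  obtain ⟨θ, hθ⟩ := exists_tr hn hF (show (1 : F) ^ (2 ^ 2) = 1 from one_pow _)
  let P : Matrix (Fin 3) (Fin 3) F := !![1, 0, θ; 1, 0, θ + 1; 0, 1, 0]
  let P' : Matrix (Fin 3) (Fin 3) F := !![1 + θ, θ, 0; 0, 0, 1; 1, 1, 0]
  have h1 : P * P' = 1 := by
    ext i j
    fin_cases i <;> fin_cases j <;> simp [P, P', Matrix.mul_apply, Fin.sum_univ_three] <;> grind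
  have h1' : P' * P = 1 := mul_eq_one_comm.1 h1
  have hθ1 : (θ + 1) ^ (2 ^ 2) = θ ^ (2 ^ 2) + 1 := by rw [frob_add hn hF, one_pow]
  have hform : Pᵀ * P.map (· ^ (2 ^ 2)) = antiDiag F := by
    ext i j
    fin_cases i <;> fin_cases j <;>
      simp [P, antiDiag, Matrix.mul_apply, Fin.sum_univ_three, hθ1, zero_pow hq0] <;> grind
  have hone : (1 : Matrix (Fin 3) (Fin 3) F).map (· ^ (2 ^ 2)) = 1 := by
    ext i j
    simp only [Matrix.map_apply, Matrix.one_apply]
    split_ifs <;> simp [zero_pow hq0]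
  have e4 : P'ᵀ * antiDiag F * P'.map (· ^ (2 ^ 2)) = 1 := by
    rw [← hform, ← Matrix.mul_assoc, ← Matrix.transpose_mul, h1, Matrix.transpose_one, Matrix.one_mul,
      ← map_pow_mul hF, h1, hone]
  have hsmul : ∀ g h : Cfsg.SU 3 F (2 ^ 2), smat (g * h) = smat g * smat h := fun _ _ => rfl
  have hsinj : ∀ g h : Cfsg.SU 3 F (2 ^ 2), smat g = smat h → g = h :=
    fun g h e => Subtype.ext (Subtype.ext e)
  -- the matrix in the isotropic frame
  obtain ⟨M, hM⟩ : ∃ M : Cfsg.SU 3 F (2 ^ 2) → Matrix (Fin 3) (Fin 3) F, ∀ g, M g = P' * smat g * P :=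
    ⟨_, fun g => rfl⟩
  have hback : ∀ g, smat g = P * M g * P' := fun g => by
    rw [hM, ← Matrix.mul_assoc, ← Matrix.mul_assoc, h1, Matrix.one_mul, Matrix.mul_assoc, h1, Matrix.mul_one]
  have hMmul : ∀ g h, M (g * h) = M g * M h := fun g h => by
    rw [hM, hM, hM, hsmul]
    calc P' * (smat g * smat h) * P = P' * smat g * (P * P') * smat h * P := by
          rw [h1, Matrix.mul_one]; simp only [Matrix.mul_assoc]
      _ = _ := by simp only [Matrix.mul_assoc]
  have hMinj : ∀ g h, M g = M h → g = h := fun g h e => hsinj _ _ (by rw [hback, hback, e])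
  have hMone : M 1 = 1 := by
    rw [hM, show smat (1 : Cfsg.SU 3 F (2 ^ 2)) = 1 from rfl, Matrix.mul_one, h1']
  have hMdet : ∀ g, (M g).det = 1 := fun g => by
    rw [hM, Matrix.det_mul, Matrix.det_mul, smat_det, mul_one, ← Matrix.det_mul, h1', Matrix.det_one]
  have hMform : ∀ g, (M g)ᵀ * antiDiag F * (M g).map (· ^ (2 ^ 2)) = antiDiag F := fun g => by
    have h3 : (smat g)ᵀ * (smat g).map (· ^ (2 ^ 2)) = 1 := by
      have h4 := congrArg Matrix.transpose (smat_form hF g)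
      rwa [Matrix.transpose_mul, Matrix.transpose_transpose, Matrix.transpose_one] at h4
    rw [hM, map_pow_mul hF, map_pow_mul hF, Matrix.transpose_mul, Matrix.transpose_mul]
    calc Pᵀ * ((smat g)ᵀ * P'ᵀ) * antiDiag F * (P'.map (· ^ (2 ^ 2)) * (smat g).map (· ^ (2 ^ 2)) * P.map (· ^ (2 ^ 2)))
        = Pᵀ * ((smat g)ᵀ * (P'ᵀ * antiDiag F * P'.map (· ^ (2 ^ 2))) * (smat g).map (· ^ (2 ^ 2))) *
            P.map (· ^ (2 ^ 2)) := by simp only [Matrix.mul_assoc]
      _ = antiDiag F := by rw [e4, Matrix.mul_one, h3, Matrix.mul_one, hform]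
  have hex : ∀ N : Matrix (Fin 3) (Fin 3) F, N.det = 1 →
      Nᵀ * antiDiag F * N.map (· ^ (2 ^ 2)) = antiDiag F → ∃ g, M g = N := by
    intro N hdet hN
    obtain ⟨g, hg⟩ := exists_of_form hF (P * N * P')
      (by rw [Matrix.det_mul, Matrix.det_mul, hdet, mul_one, ← Matrix.det_mul, h1, Matrix.det_one])
      (by
        calc (P * N * P')ᵀ * (P * N * P').map (· ^ (2 ^ 2))
            = P'ᵀ * (Nᵀ * (Pᵀ * P.map (· ^ (2 ^ 2))) * N.map (· ^ (2 ^ 2))) * P'.map (· ^ (2 ^ 2)) := by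
              simp only [Matrix.transpose_mul, map_pow_mul hF, Matrix.mul_assoc]
          _ = 1 := by rw [hform, hN, e4])
    refine ⟨g, ?_⟩
    rw [hM, hg, ← Matrix.mul_assoc, ← Matrix.mul_assoc, h1', Matrix.one_mul, Matrix.mul_assoc, h1', Matrix.mul_one]
  have hum : ∀ a b : F, b ^ (2 ^ 2) + b = a ^ (2 ^ 2 + 1) → ∃ g, M g = um (2 ^ 2) a b := by
    intro a b hab
    refine hex _ (by simp [um, Matrix.det_fin_three]) ?_
    have hqq := frob_frob hF a
    rw [pow_succ] at hab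
    ext i j
    fin_cases i <;> fin_cases j <;>
      simp [um, antiDiag, Matrix.mul_apply, Fin.sum_univ_three, zero_pow hq0, hqq] <;> grind
  obtain ⟨z, hz⟩ := hum 0 1 (by rw [one_pow, add_self hn hF, zero_pow (Nat.succ_ne_zero _)])
  have hzne : z ≠ 1 := fun e => by
    rw [e, hMone] at hz
    have := congrFun (congrFun hz 0) 2
    simp [um] at this
  have hz2 : z ^ 2 = 1 := hMinj _ _ (by
    rw [pow_two, hMmul, hz, um_mul hn hF, hMone, ← um_zero hn]
    congr 1 <;> simp [add_self hn hF])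
  haveI : Fact (Nat.Prime 2) := ⟨Nat.prime_two⟩
  haveI : Fact (Nat.Prime 5) := ⟨by norm_num⟩
  refine ⟨z, orderOf_eq_prime hz2 hzne, ?_⟩
  obtain ⟨C, hC⟩ : ∃ C, C = Subgroup.centralizer ({z} : Set (Cfsg.SU 3 F (2 ^ 2))) := ⟨_, rfl⟩
  rw [← hC]
  have hCM : ∀ g, g ∈ C ↔ M g * um (2 ^ 2) 0 1 = um (2 ^ 2) 0 1 * M g := fun g => by
    rw [hC, Subgroup.mem_centralizer_singleton_iff, ← hz, ← hMmul, ← hMmul]
    exact ⟨fun e => by rw [e], fun e => hMinj _ _ e⟩
  have htri : ∀ g ∈ C, M g 1 0 = 0 ∧ M g 2 0 = 0 ∧ M g 2 1 = 0 ∧ M g 2 2 = M g 0 0 := by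
    intro g hg
    have e := (hCM g).1 hg
    have e00 := congrFun (congrFun e 0) 0
    have e01 := congrFun (congrFun e 0) 1
    have e02 := congrFun (congrFun e 0) 2
    have e12 := congrFun (congrFun e 1) 2
    simp [um, Matrix.mul_apply, Fin.sum_univ_three, zero_pow hq0] at e00 e01 e02 e12
    refine ⟨?_, ?_, ?_, ?_⟩ <;> grind
  -- the entries forced by the form
  have hfacts : ∀ g ∈ C, M g 0 0 ^ (2 ^ 2 + 1) = 1 ∧ M g 0 0 * M g 1 1 * M g 0 0 = 1 ∧
      (M g 0 0 = 1 → M g 1 1 = 1 ∧ M g 1 2 = M g 0 1 ^ (2 ^ 2) ∧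
        M g 0 2 ^ (2 ^ 2) + M g 0 2 = M g 0 1 ^ (2 ^ 2 + 1)) := by
    intro g hg
    obtain ⟨h10, h20, h21, h22⟩ := htri g hg
    have hd := hMdet g
    rw [Matrix.det_fin_three, h10, h20, h21, h22] at hd
    simp only [mul_zero, zero_mul, add_zero, sub_zero] at hd
    have e02 := congrFun (congrFun (hMform g) 0) 2
    have e12 := congrFun (congrFun (hMform g) 1) 2
    have e22 := congrFun (congrFun (hMform g) 2) 2
    simp [antiDiag, Matrix.mul_apply, Fin.sum_univ_three, h10, h20, h21, h22, zero_pow hq0] at e02 e12 e22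
    refine ⟨by rw [pow_succ']; exact e02, hd, fun ha => ?_⟩
    rw [ha] at hd e12 e22
    simp only [one_mul, mul_one, one_pow] at hd e12 e22
    rw [hd] at e12
    have hw : M g 1 2 = M g 0 1 ^ (2 ^ 2) := by
      rw [one_mul] at e12
      have hx : M g 0 1 = M g 1 2 ^ (2 ^ 2) := by linear_combination e12 - M g 1 2 ^ (2 ^ 2) * t2
      rw [hx, frob_frob hF]
    refine ⟨hd, hw, ?_⟩
    rw [hw] at e22
    have hff := frob_frob hF (M g 0 1)
    simp only [show (2 ^ 2 : ℕ) = 4 from rfl] at hff e22 ⊢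
    rw [hff] at e22
    rw [pow_succ]
    linear_combination e22 - (M g 0 1 ^ (2 ^ 2) * M g 0 1) * t2
  have h00 : ∀ g ∈ C, ∀ h ∈ C, M (g * h) 0 0 = M g 0 0 * M h 0 0 := fun g _ h hh => by
    obtain ⟨h10, h20, -, -⟩ := htri h hh
    simp [hMmul, Matrix.mul_apply, Fin.sum_univ_three, h10, h20]
  let χ : C →* F :=
    { toFun := fun g => M g 0 0
      map_one' := by show M 1 0 0 = 1; rw [hMone]; simp
      map_mul' := fun g h => h00 g g.2 h h.2 }
  have hχ : ∀ g : C, χ g = M g 0 0 := fun g => rfl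
  let χu : C →* Fˣ := χ.toHomUnits
  have hχu : ∀ g : C, ((χu g : Fˣ) : F) = M g 0 0 := fun g => rfl
  have hrange : χu.range = (powMonoidHom 5 : Fˣ →* Fˣ).ker := by
    refine le_antisymm ?_ ?_
    · rintro _ ⟨g, rfl⟩
      rw [MonoidHom.mem_ker]
      refine Units.ext ?_
      show ((χu g : Fˣ) : F) ^ 5 = 1
      rw [hχu]
      exact (hfacts g g.2).1
    · intro u hu
      have hu' : ((u : F)) ^ 5 = 1 := by simpa [Units.ext_iff] using hu
      obtain ⟨g, hg⟩ := hex (Matrix.diagonal ![(u : F), ((u : F) ^ 2)⁻¹, u])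
        (by
          rw [Matrix.det_diagonal, Fin.prod_univ_three]
          simp
          field_simp) (by
          have e5 : (((u : F) ^ 2) ^ 4)⁻¹ = (u : F) ^ 2 := by
            refine inv_eq_of_mul_eq_one_right ?_
            rw [← pow_succ, ← pow_mul, show 2 * (4 + 1) = 5 * 2 by norm_num, pow_mul, hu', one_pow]
          have e5' : (u : F) * (u : F) ^ 4 = 1 := by rw [← pow_succ']; exact hu'
          have hu0 : (u : F) ≠ 0 := u.ne_zero
          ext i j
          fin_cases i <;> fin_cases j <;>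
            simp [antiDiag, Matrix.mul_apply, Matrix.diagonal, Fin.sum_univ_three, e5, e5', hu0])
      have hgC : g ∈ C := (hCM g).2 (by
        rw [hg]
        ext i j
        fin_cases i <;> fin_cases j <;>
          simp [um, Matrix.mul_apply, Matrix.diagonal, Fin.sum_univ_three, zero_pow hq0])
      exact ⟨⟨g, hgC⟩, Units.ext (by rw [hχu, hg]; simp)⟩
  have h5 : Nat.card χu.range = 5 := by
    rw [hrange, IsCyclic.card_powMonoidHom_ker, Nat.card_units, Nat.card_eq_fintype_card, hF]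
    norm_num
  have hker : ∀ g : C, g ∈ χu.ker ↔ M g 0 0 = 1 := fun g => by
    rw [MonoidHom.mem_ker, Units.ext_iff, hχu, Units.val_one]
  -- coordinates on the kernel
  let c : Coords F (2 ^ 2) χu.ker :=
    { A := fun g => M ((g : C) : Cfsg.SU 3 F (2 ^ 2)) 0 1
      B := fun g => M ((g : C) : Cfsg.SU 3 F (2 ^ 2)) 0 2
      A_mul := fun g h => by
        obtain ⟨a10, a20, a21, a22⟩ := htri _ (h : C).2
        have h0 := (hker g).1 g.2
        have h1 := ((hfacts _ (h : C).2).2.2 ((hker h).1 h.2)).1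
        show M (((g : C) : Cfsg.SU 3 F (2 ^ 2)) * ((h : C) : Cfsg.SU 3 F (2 ^ 2))) 0 1 = _
        simp [hMmul, Matrix.mul_apply, Fin.sum_univ_three, h0, h1, a21]
        ring
      B_mul := fun g h => by
        obtain ⟨a10, a20, a21, a22⟩ := htri _ (h : C).2
        have h0 := (hker g).1 g.2
        have h0' := (hker h).1 h.2
        have h1 := ((hfacts _ (h : C).2).2.2 h0').2.1
        show M (((g : C) : Cfsg.SU 3 F (2 ^ 2)) * ((h : C) : Cfsg.SU 3 F (2 ^ 2))) 0 2 = _
        simp [hMmul, Matrix.mul_apply, Fin.sum_univ_three, h0, h1, a22, h0']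
        ring
      inj := fun g h e1 e2 => by
        refine Subtype.ext (Subtype.ext (hMinj _ _ ?_))
        obtain ⟨a10, a20, a21, a22⟩ := htri _ (g : C).2
        obtain ⟨b10, b20, b21, b22⟩ := htri _ (h : C).2
        obtain ⟨g1, g2, -⟩ := (hfacts _ (g : C).2).2.2 ((hker g).1 g.2)
        obtain ⟨k1, k2, -⟩ := (hfacts _ (h : C).2).2.2 ((hker h).1 h.2)
        ext i j
        fin_cases i <;> fin_cases j
        · exact ((hker g).1 g.2).trans ((hker h).1 h.2).symm
        · exact e1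
        · exact e2
        · exact a10.trans b10.symm
        · exact g1.trans k1.symm
        · exact g2.trans (by rw [e1]; exact k2.symm)
        · exact a20.trans b20.symm
        · exact a21.trans b21.symm
        · exact (a22.trans ((hker g).1 g.2)).trans (b22.trans ((hker h).1 h.2)).symm
      cond := fun g => ((hfacts _ (g : C).2).2.2 ((hker g).1 g.2)).2.2
      exists_mk := fun a b hab => by
        obtain ⟨g, hg⟩ := hum a b hab
        have hgC : g ∈ C := (hCM g).2 (by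
          rw [hg, um_mul hn hF, um_mul hn hF]; simp [zero_pow hq0, add_comm])
        exact ⟨⟨⟨g, hgC⟩, (hker _).2 (by rw [hg]; simp [um])⟩, by rw [hg]; simp [um], by rw [hg]; simp [um]⟩ }
  have hk64 : Nat.card χu.ker = 64 := by rw [c.card_eq hn hF]; norm_num
  have hC320 : Nat.card C = 320 := by
    have h1 := χu.ker.card_mul_index
    rw [Subgroup.index_ker, h5, hk64] at h1
    exact h1.symm
  have hder : commutator C = χu.ker := by
    refine le_antisymm (Abelianization.commutator_subset_ker _) ?_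
    -- an element of order five
    obtain ⟨u, hu5, hu⟩ : ∃ h : C, M h 0 0 ^ 5 = 1 ∧ M h 0 0 ≠ 1 := by
      haveI : Nontrivial χu.range := Finite.one_lt_card_iff_nontrivial.1 (by rw [h5]; norm_num)
      obtain ⟨⟨_, g, rfl⟩, hg⟩ := exists_ne (1 : χu.range)
      refine ⟨g, (hfacts g g.2).1, fun e => hg (Subtype.ext (Units.ext ?_))⟩
      rw [hχu, e]; rfl
    obtain ⟨a, ha⟩ : ∃ a, a = M u 0 0 := ⟨_, rfl⟩
    rw [← ha] at hu5 hu
    have ha0 : a ≠ 0 := fun e => by rw [e] at hu5; norm_num at hu5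
    have ha3 : a ^ 3 + 1 ≠ 0 := fun e => hu (by
      have h3 : a ^ 3 = 1 := by linear_combination e - t2
      have h2 : a ^ 2 = 1 := by linear_combination hu5 - a ^ 2 * h3
      linear_combination h3 - a * h2)
    have hAex : ∀ x : F, ∃ k : χu.ker, (k : C) ∈ commutator C ∧ c.A k = x := fun x => by
      obtain ⟨b, hb⟩ := exists_point hn hF (x / (a ^ 3 + 1))
      obtain ⟨t, htA, -⟩ := c.exists_mk _ b hb
      have hkk : u * (t : C) * u⁻¹ ∈ χu.ker := Subgroup.Normal.conj_mem inferInstance _ t.2 u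
      refine ⟨(⟨u * (t : C) * u⁻¹, hkk⟩ : χu.ker) * t⁻¹, ?_, ?_⟩
      · exact Subgroup.commutator_mem_commutator (Subgroup.mem_top u) (Subgroup.mem_top (t : C))
      rw [c.A_mul, c.A_inv hn hF]
      have hA : c.A ⟨u * (t : C) * u⁻¹, hkk⟩ = a ^ 3 * c.A t := by
        have e := congrArg (fun g : C => M g 0 1) (inv_mul_cancel_right (u * (t : C)) u)
        obtain ⟨u10, u20, u21, -⟩ := htri _ u.2
        obtain ⟨t10, t20, t21, -⟩ := htri _ (t : C).2
        have h11 := (hfacts _ u.2).2.1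
        rw [← ha] at h11
        have t11 := ((hfacts _ (t : C).2).2.2 ((hker t).1 t.2)).1
        have hl0 := (hker _).1 hkk
        have e' : M ((u * (t : C) * u⁻¹ : C) : Cfsg.SU 3 F (2 ^ 2)) 0 0 * M u 0 1 +
            M ((u * (t : C) * u⁻¹ : C) : Cfsg.SU 3 F (2 ^ 2)) 0 1 * M u 1 1 =
            M u 0 0 * c.A t + M u 0 1 * M ((t : C) : Cfsg.SU 3 F (2 ^ 2)) 1 1 := by
          have e2 : M (((u * (t : C) * u⁻¹ : C) : Cfsg.SU 3 F (2 ^ 2)) * (u : Cfsg.SU 3 F (2 ^ 2))) 0 1 =
              M ((u : Cfsg.SU 3 F (2 ^ 2)) * ((t : C) : Cfsg.SU 3 F (2 ^ 2))) 0 1 := e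
          rw [hMmul, hMmul, Matrix.mul_apply, Matrix.mul_apply, Fin.sum_univ_three, Fin.sum_univ_three,
            u21, t21, mul_zero, mul_zero, add_zero, add_zero] at e2
          exact e2
        rw [hl0, t11, ← ha, one_mul, mul_one] at e'
        show M ((u * (t : C) * u⁻¹ : C) : Cfsg.SU 3 F (2 ^ 2)) 0 1 = _
        refine mul_right_cancel₀ (b := M u 1 1) (fun e0 => by rw [e0] at h11; simp at h11) ?_
        linear_combination e' - a * c.A t * h11
      rw [hA, htA]
      field_simp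
    intro t ht
    obtain ⟨t, rfl⟩ : ∃ s : χu.ker, (s : C) = t := ⟨⟨t, ht⟩, rfl⟩
    have hz0 : ∀ s : χu.ker, c.A s = 0 → (s : C) ∈ commutator C := fun s hs => by
      obtain ⟨x, hx⟩ := exists_norm hn hF (c.B_fixed hn hF hs)
      obtain ⟨k, hk, hkA⟩ := hAex x
      have e : s = k * k := c.inj _ _ (by rw [hs, c.A_sq hn hF]) (by rw [c.B_sq hn hF, hkA, hx])
      rw [e]
      exact mul_mem hk hk
    obtain ⟨k, hk, hkA⟩ := hAex (c.A t)
    have h2 := hz0 (k⁻¹ * t) (by rw [c.A_mul, c.A_inv hn hF, hkA, add_self hn hF])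
    have := mul_mem hk h2
    rwa [← Subgroup.coe_mul, mul_inv_cancel_left] at this
  refine ⟨hC320, by rw [hder, hk64], ?_, ?_⟩
  · rw [hder, c.card_center hn hF]; norm_num
  · rw [hder]
    exact fun w hw => (c.A_eq_zero_iff hn hF w).1 ((c.mem_center_iff hn hF w).1 hw)

end Cfsg.Lib.TwoFour.Ext320
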