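import Mathlib

/-!
# Parity of the number of common zeros of quadratic maps on an elementary abelian 2-group
-/

set_option autoImplicit false

namespace Cfsg.Lib.TwoFour

variable {W : Type*} [Group W]

/-- `f` has degree at most `d`. -/
def DegLE : ℕ → (W → ZMod 2) → Prop
  | 0, f => ∀ x y, f x = f y
  | d + 1, f => ∀ h, DegLE d (fun x => f (x * h) + f x)

theorem DegLE.add : ∀ {d : ℕ} {f g : W → ZMod 2}, DegLE d f → DegLE d g → DegLE d (fun x => f x + g x)
  | 0, f, g, hf, hg => fun x y => by show f x + g x = f y + g y; rw [hf x y, hg x y]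
  | d + 1, f, g, hf, hg => fun h => by
    have e : (fun x => (f (x * h) + g (x * h)) + (f x + g x)) =
        (fun x => (f (x * h) + f x) + (g (x * h) + g x)) := funext fun x => by ring
    rw [e]
    exact (hf h).add (hg h)

theorem degLE_const : ∀ (d : ℕ) (c : ZMod 2), DegLE d (fun _ : W => c)
  | 0, _ => fun _ _ => rfl
  | d + 1, c => fun _ => degLE_const d (c + c)

theorem DegLE.mono : ∀ {d : ℕ} {f : W → ZMod 2}, DegLE d f → DegLE (d + 1) f
  | 0, f, hf => fun h x y => by show f (x * h) + f x = f (y * h) + f y; rw [hf x y, hf (x * h) (y * h)]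
  | d + 1, _, hf => fun h => (hf h).mono

theorem DegLE.shift (hc : ∀ x y : W, x * y = y * x) : ∀ {d : ℕ} {f : W → ZMod 2}, DegLE d f → ∀ k, DegLE d (fun x => f (x * k))
  | 0, _, hf, _ => fun x y => hf _ _
  | d + 1, f, hf, k => fun h => by
    have := (hf h).shift hc k
    have e : (fun x => f (x * h * k) + f (x * k)) = (fun x => (fun x => f (x * h) + f x) (x * k)) :=
      funext fun x => by show _ = f (x * k * h) + f (x * k); rw [mul_assoc, hc h k, ← mul_assoc]
    rw [e]
    exact this

theorem DegLE.mul (hc : ∀ x y : W, x * y = y * x) :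
    ∀ (n : ℕ) {a b : ℕ} {f g : W → ZMod 2}, a + b = n → DegLE a f → DegLE b g →
      DegLE (a + b) (fun x => f x * g x) := by
  intro n
  induction n with
  | zero =>
    intro a b f g hab hf hg
    obtain ⟨rfl, rfl⟩ : a = 0 ∧ b = 0 := by omega
    intro x y
    show f x * g x = f y * g y
    rw [hf x y, hg x y]
  | succ n ih =>
    intro a b f g hab hf hg
    rw [hab]
    intro h
    have e : (fun x => f (x * h) * g (x * h) + f x * g x) =
        (fun x => (f (x * h) + f x) * g (x * h) + f x * (g (x * h) + g x)) := funext fun x => by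
      have : f x * g (x * h) + f x * g (x * h) = 0 := CharTwo.add_self_eq_zero _
      linear_combination -this
    rw [e]
    refine DegLE.add ?_ ?_
    · cases a with
      | zero =>
        have e0 : (fun x => (f (x * h) + f x) * g (x * h)) = fun _ => (0 : ZMod 2) := funext fun x => by
          rw [hf (x * h) x, CharTwo.add_self_eq_zero, zero_mul]
        rw [e0]
        exact degLE_const _ _
      | succ a =>
        have := ih (a := a) (b := b) (by omega) (hf h) (hg.shift hc h)
        rwa [show a + b = n by omega] at this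
    · cases b with
      | zero =>
        have e0 : (fun x => f x * (g (x * h) + g x)) = fun _ => (0 : ZMod 2) := funext fun x => by
          rw [hg (x * h) x, CharTwo.add_self_eq_zero, mul_zero]
        rw [e0]
        exact degLE_const _ _
      | succ b =>
        have := ih (a := a) (b := b) (by omega) hf (hg h)
        rwa [show a + b = n by omega] at this

theorem DegLE.comap {U : Type*} [Group U] (φ : U →* W) : ∀ {d : ℕ} {f : W → ZMod 2}, DegLE d f → DegLE d (fun u => f (φ u))
  | 0, _, hf => fun _ _ => hf _ _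
  | d + 1, f, hf => fun h => by
    have e : (fun u => f (φ (u * h)) + f (φ u)) = (fun u => f (φ u * φ h) + f (φ u)) :=
      funext fun u => by rw [map_mul]
    rw [e]
    exact (hf (φ h)).comap φ

theorem sum_eq_zero : ∀ (d : ℕ) {W : Type*} [Group W] [Fintype W], (∀ x : W, x * x = 1) →
    ∀ f : W → ZMod 2, DegLE d f → 2 ^ d < Fintype.card W → ∑ x, f x = 0 := by
  classical
  intro d
  induction d with
  | zero =>
    intro W _ _ hexp f hf hcard
    rw [Finset.sum_congr rfl (fun x _ => hf x 1), Finset.sum_const, Finset.card_univ, nsmul_eq_mul]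
    haveI : Fact (Nat.Prime 2) := ⟨Nat.prime_two⟩
    have hp : IsPGroup 2 W := fun x => ⟨1, by rw [pow_one, pow_two, hexp]⟩
    obtain ⟨k, hk⟩ := IsPGroup.iff_card.1 hp
    rw [Nat.card_eq_fintype_card] at hk
    have : (2 : ℕ) ∣ Fintype.card W := by
      rw [hk] at hcard ⊢
      exact dvd_pow_self 2 (by rintro rfl; simp at hcard)
    rw [(ZMod.natCast_eq_zero_iff _ 2).2 this, zero_mul]
  | succ d ih =>
    intro W _ _ hexp f hf hcard
    haveI : Fact (Nat.Prime 2) := ⟨Nat.prime_two⟩
    have hp : IsPGroup 2 W := fun x => ⟨1, by rw [pow_one, pow_two, hexp]⟩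
    obtain ⟨k, hk⟩ := IsPGroup.iff_card.1 hp
    rw [Nat.card_eq_fintype_card] at hk
    have hk1 : d + 1 < k := by
      rw [hk] at hcard
      exact (Nat.pow_lt_pow_iff_right (by norm_num)).1 hcard
    obtain ⟨H, hH⟩ := Sylow.exists_subgroup_card_pow_prime 2 (G := W) (n := k - 1)
      (by rw [Nat.card_eq_fintype_card, hk]; exact pow_dvd_pow 2 (by omega))
    have hidx : H.index = 2 := by
      have h := H.index_mul_card
      rw [hH, Nat.card_eq_fintype_card, hk,
        show (2 : ℕ) ^ k = 2 * 2 ^ (k - 1) by rw [← pow_succ', show k - 1 + 1 = k by omega]] at h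
      exact Nat.eq_of_mul_eq_mul_right (by positivity) h
    obtain ⟨h, hh⟩ : ∃ h, h ∉ H := by
      by_contra hall
      push Not at hall
      rw [(Subgroup.eq_top_iff' H).2 hall, Subgroup.index_top] at hidx
      omega
    have hsub := ih (W := H) (fun x => Subtype.ext (hexp x)) (fun x => f ((x : W) * h) + f x)
      ((hf h).comap H.subtype) (by
        rw [← Nat.card_eq_fintype_card, hH]
        exact Nat.pow_lt_pow_right (by norm_num) (by omega))
    let e : H ⊕ H ≃ W := Equiv.ofBijective (Sum.elim (fun x => (x : W)) (fun x => (x : W) * h))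
      ⟨by
        rintro (x | x) (y | y) hxy <;> simp only [Sum.elim_inl, Sum.elim_inr] at hxy
        · rw [Subtype.ext hxy]
        · exact absurd ((H.mul_mem_cancel_left y.2).1 (hxy ▸ x.2)) hh
        · exact absurd ((H.mul_mem_cancel_left x.2).1 (hxy ▸ y.2)) hh
        · rw [Subtype.ext (mul_right_cancel hxy)],
      fun w => by
        by_cases hw : w ∈ H
        · exact ⟨Sum.inl ⟨w, hw⟩, rfl⟩
        · have hh' : h⁻¹ ∉ H := fun e => hh (H.inv_mem_iff.1 e)
          exact ⟨Sum.inr ⟨w * h⁻¹, (Subgroup.mul_mem_iff_of_index_two hidx).2 (by simp [hw, hh'])⟩,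
            by simp⟩⟩
    rw [← e.sum_comp, Fintype.sum_sum_type, ← Finset.sum_add_distrib, ← hsub]
    refine Finset.sum_congr rfl fun x _ => ?_
    show f (x : W) + f ((x : W) * h) = _
    rw [add_comm]

/-- Two quadratic maps on a group of order more than 16 have a nontrivial common zero. -/
theorem exists_common_zero [Fintype W] (hexp : ∀ x : W, x * x = 1) (q₁ q₂ : W → ZMod 2)
    (h₁ : DegLE 2 q₁) (h₂ : DegLE 2 q₂) (e₁ : q₁ 1 = 0) (e₂ : q₂ 1 = 0)
    (hcard : 16 < Fintype.card W) : ∃ x, x ≠ 1 ∧ q₁ x = 0 ∧ q₂ x = 0 := by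
  classical
  have hc : ∀ x y : W, x * y = y * x := fun x y => by
    have hinv : ∀ x : W, x⁻¹ = x := fun x => inv_eq_of_mul_eq_one_right (hexp x)
    rw [← hinv (x * y), mul_inv_rev, hinv, hinv]
  have hs := sum_eq_zero (2 + 2) hexp _ (DegLE.mul hc 4 rfl ((degLE_const 2 1).add h₁) ((degLE_const 2 1).add h₂))
    (by omega)
  by_contra hne
  push Not at hne
  rw [Finset.sum_eq_single_of_mem 1 (Finset.mem_univ _)] at hs
  · rw [e₁, e₂] at hs
    exact absurd hs (by decide)
  · intro x _ hx
    have key : ∀ a b : ZMod 2, (a = 0 → b ≠ 0) → (1 + a) * (1 + b) = 0 := by decide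
    exact key _ _ (hne x hx)

end Cfsg.Lib.TwoFour
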