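import Cfsg.Agent.Lib.TwoFour.Class64

/-!
# 2-groups with commuting automorphisms of orders two and three, the involution fixing exactly a
central four-group
-/

set_option autoImplicit false
set_option linter.style.haveILetI false

namespace Cfsg.Lib.TwoFour

open Subgroup

/-- The hypotheses. -/
structure Semi {T : Type*} [Group T] (τ ρ : T ≃* T) (V : Subgroup T) : Prop where
  two : IsPGroup 2 T
  fpf : FpfCube ρ
  four : Four ρ V
  invol : ∀ x, τ (τ x) = x
  comm : ∀ x, τ (ρ x) = ρ (τ x)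
  fix : ∀ x, τ x = x ↔ x ∈ V

/-- The possibilities. -/
def Shape {T : Type*} [Group T] (ρ : T ≃* T) (V : Subgroup T) : Prop :=
  (Nat.card T = 16 ∧ ∀ x : T, x * x = 1) ∨
  ((∀ x y : T, x * y = y * x) ∧ Nat.card {x : T // x * x = 1} ≤ 4) ∨
  Hyp64 ρ V

universe u

theorem Semi.shape : ∀ (m : ℕ) {T : Type u} [Group T] [Finite T] {τ ρ : T ≃* T} {V : Subgroup T},
    Nat.card T = m → Semi τ ρ V → Shape ρ V := by
  intro m
  induction m using Nat.strong_induction_on with
  | _ m ih =>
  intro T _ _ τ ρ V hm S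
  subst hm
  haveI : Fact (Nat.Prime 2) := ⟨Nat.prime_two⟩
  have h := S.fpf
  have hV := S.four
  have hc := hV.central
  haveI hVn : V.Normal := ⟨fun v hv g => by rw [hc v hv g, mul_inv_cancel_right]; exact hv⟩
  obtain ⟨v₀, hv₀, hv₀1⟩ : ∃ v ∈ V, v ≠ 1 := by
    suffices hb : V ≠ ⊥ by
      obtain ⟨v, hv⟩ := Subgroup.ne_bot_iff_exists_ne_one.1 hb
      exact ⟨v, v.2, fun e => hv (Subtype.ext e)⟩
    intro e
    have := hV.card
    rw [e, Subgroup.card_bot] at this
    omega
  have hntT : Nontrivial T := ⟨⟨v₀, 1, hv₀1⟩⟩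
  by_cases htop : ∀ x, x ∈ V
  · refine Or.inr (Or.inl ⟨fun x y => hc y (htop y) x, ?_⟩)
    rw [← hV.card]
    exact Nat.card_le_card_of_injective (fun x : {x : T // x * x = 1} => (⟨x.1, htop _⟩ : V))
      fun x y e => Subtype.ext (congrArg (fun z : V => (z : T)) e)
  have hVτ : ∀ v ∈ V, τ v ∈ V := fun v hv => by rw [(S.fix v).2 hv]; exact hv
  have mapV : ∀ (φ : T ≃* T), (∀ v ∈ V, φ v ∈ V) → V.map φ.toMonoidHom = V := fun φ hφ =>
    Subgroup.eq_of_le_of_card_ge (by rintro _ ⟨v, hv, rfl⟩; exact hφ v hv)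
      (Subgroup.card_map_of_injective φ.injective).ge
  -- the quotient
  set Q := T ⧸ V
  let τb : Q ≃* Q := QuotientGroup.congr V V τ (mapV τ hVτ)
  let ρb : Q ≃* Q := QuotientGroup.congr V V ρ (mapV ρ hV.inv)
  have τb_mk : ∀ x : T, τb (x : Q) = ((τ x : T) : Q) := fun x => rfl
  have ρb_mk : ∀ x : T, ρb (x : Q) = ((ρ x : T) : Q) := fun x => rfl
  have hQp : IsPGroup 2 Q := S.two.to_quotient V
  have hρb : FpfCube ρb := by
    refine ⟨fun q => ?_, fun q hq => ?_⟩
    · obtain ⟨x, rfl⟩ := QuotientGroup.mk_surjective q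
      rw [ρb_mk, ρb_mk, ρb_mk, h.cube]
    · obtain ⟨x, rfl⟩ := QuotientGroup.mk_surjective q
      rw [ρb_mk] at hq
      exact (QuotientGroup.eq_one_iff x).2 (mem_of_fixed_mod h.fix hV.inv (QuotientGroup.eq.1 hq.symm))
  have hQnt : Nontrivial Q := by
    obtain ⟨x, hx⟩ := not_forall.1 htop
    exact ⟨⟨(x : Q), 1, fun e => hx ((QuotientGroup.eq_one_iff x).1 e)⟩⟩
  let W : Subgroup Q :=
    { carrier := {q | τb q = q}
      one_mem' := map_one _
      mul_mem' := fun {a b} ha hb => by show τb (a * b) = a * b; rw [map_mul, ha, hb]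
      inv_mem' := fun {a} ha => by show τb a⁻¹ = a⁻¹; rw [map_inv, ha] }
  have hWinv : ∀ q ∈ W, ρb q ∈ W := by
    intro q hq
    obtain ⟨x, rfl⟩ := QuotientGroup.mk_surjective q
    have hq' : ((τ x : T) : Q) = (x : Q) := hq
    show τb (ρb (x : Q)) = ρb (x : Q)
    rw [ρb_mk, τb_mk, S.comm, ← ρb_mk, hq', ρb_mk]
  -- a fixed point of `τ` in every nontrivial invariant subgroup
  have fixin : ∀ X : Subgroup Q, X ≠ ⊥ → (∀ q ∈ X, τb q ∈ X) → ∃ q ∈ X, q ≠ 1 ∧ q ∈ W := by
    intro X hX hXτ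
    by_contra hne
    push Not at hne
    have hX2 : IsPGroup 2 X := hQp.to_subgroup X
    let ψ : X →* X := MonoidHom.mk' (fun q => ⟨τb q, hXτ q q.2⟩) (fun a b => Subtype.ext (map_mul τb _ _))
    have hψ : Function.Involutive ψ := fun q => by
      refine Subtype.ext ?_
      show τb (τb (q : Q)) = q
      obtain ⟨x, hx⟩ := QuotientGroup.mk_surjective (q : Q)
      rw [← hx, τb_mk, τb_mk, S.invol]
    have hψf : MonoidHom.FixedPointFree ψ := fun q hq => by
      by_contra hq1
      exact hne q q.2 (fun e => hq1 (Subtype.ext e)) (congrArg Subtype.val hq)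
    have hodd := MonoidHom.FixedPointFree.odd_card_of_involutive hψf hψ
    haveI : Nontrivial X := (Subgroup.nontrivial_iff_ne_bot X).2 hX
    obtain ⟨k, hk0, hk⟩ := hX2.nontrivial_iff_card.1 ‹Nontrivial X›
    rw [hk] at hodd
    exact (Nat.not_even_iff_odd.2 hodd) (even_two.pow_of_ne_zero (by omega))
  have hmapW : ∀ q : W, ∃ v : V, ∀ x : T, (x : Q) = (q : Q) → x⁻¹ * τ x = v := by
    intro q
    obtain ⟨x, hx⟩ := QuotientGroup.mk_surjective (q : Q)
    have hv : x⁻¹ * τ x ∈ V := by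
      apply QuotientGroup.eq.1
      rw [hx, ← τb_mk, hx]
      exact q.2.symm
    refine ⟨⟨_, hv⟩, fun y hy => ?_⟩
    have hw : x⁻¹ * y ∈ V := QuotientGroup.eq.1 (hx.trans hy.symm)
    have e : y = x * (x⁻¹ * y) := by group
    show y⁻¹ * τ y = x⁻¹ * τ x
    rw [e, map_mul, (S.fix _).2 hw, mul_inv_rev]
    rw [mul_assoc, ← mul_assoc x⁻¹ (τ x) (x⁻¹ * y), hc _ hw (x⁻¹ * τ x), inv_mul_cancel_left]
  have hWcard : Nat.card W ≤ 4 := by
    choose d hd using hmapW
    rw [← hV.card]
    refine Nat.card_le_card_of_injective d fun p q e => Subtype.ext ?_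
    obtain ⟨x, hx⟩ := QuotientGroup.mk_surjective (p : Q)
    obtain ⟨y, hy⟩ := QuotientGroup.mk_surjective (q : Q)
    rw [← hx, ← hy]
    apply QuotientGroup.eq.2
    rw [← S.fix]
    have hv : x⁻¹ * τ x = y⁻¹ * τ y := by rw [hd p x hx, hd q y hy, e]
    have hxv : x⁻¹ * τ x ∈ V := by rw [hd p x hx]; exact (d p).2
    calc τ (x⁻¹ * y) = (x * (x⁻¹ * τ x))⁻¹ * (y * (y⁻¹ * τ y)) := by
          rw [map_mul, map_inv]; group
      _ = (x⁻¹ * τ x)⁻¹ * (x⁻¹ * y * (x⁻¹ * τ x)) := by rw [← hv, mul_inv_rev]; group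
      _ = _ := by rw [hc _ hxv (x⁻¹ * y), inv_mul_cancel_left]
  obtain ⟨q₀, hq₀Z, hq₀1, hq₀W⟩ := fixin (Subgroup.center Q)
    (by haveI := hQp.center_nontrivial; exact (Subgroup.nontrivial_iff_ne_bot _).1 inferInstance)
    (fun q hq => Subgroup.mem_center_iff.2 fun r => by
      obtain ⟨r', rfl⟩ := τb.surjective r
      rw [← map_mul, ← map_mul, Subgroup.mem_center_iff.1 hq r'])
  have hW4 : ∀ w ∈ W, w = 1 ∨ w = q₀ ∨ w = ρb q₀ ∨ w = ρb (ρb q₀) := by
    classical
    intro w hw
    by_contra hne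
    push Not at hne
    obtain ⟨n1, n2, n3, n4⟩ := hne
    have hv2 : ρb q₀ ≠ q₀ := fun e => hq₀1 (hρb.fix _ e)
    have hv3 : ρb (ρb q₀) ≠ ρb q₀ := fun e => hv2 (ρb.injective e)
    have hv4 : ρb (ρb q₀) ≠ q₀ := hρb.sq_ne hq₀1
    have hr1 : ρb q₀ ≠ 1 := fun e => hq₀1 (ρb.injective (e.trans (map_one ρb).symm))
    have hr2 : ρb (ρb q₀) ≠ 1 := fun e => hr1 (ρb.injective (e.trans (map_one ρb).symm))
    haveI : Fintype W := Fintype.ofFinite W
    have h5 : ({⟨1, W.one_mem⟩, ⟨q₀, hq₀W⟩, ⟨ρb q₀, hWinv _ hq₀W⟩,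
        ⟨ρb (ρb q₀), hWinv _ (hWinv _ hq₀W)⟩, ⟨w, hw⟩} : Finset W).card = 5 := by
      simp [Finset.card_insert_of_notMem, Subtype.ext_iff, Ne.symm hq₀1, Ne.symm hr1, Ne.symm hr2,
        Ne.symm n1, Ne.symm n2, Ne.symm n3, Ne.symm n4, Ne.symm hv2, Ne.symm hv3, Ne.symm hv4]
    have := Finset.card_le_univ ({⟨1, W.one_mem⟩, ⟨q₀, hq₀W⟩, ⟨ρb q₀, hWinv _ hq₀W⟩,
        ⟨ρb (ρb q₀), hWinv _ (hWinv _ hq₀W)⟩, ⟨w, hw⟩} : Finset W)
    rw [h5, ← Nat.card_eq_fintype_card] at this
    omega
  have hWcen : W ≤ Subgroup.center Q := by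
    have hρZ : ∀ q ∈ Subgroup.center Q, ρb q ∈ Subgroup.center Q := fun q hq =>
      Subgroup.mem_center_iff.2 fun r => by
        obtain ⟨r', rfl⟩ := ρb.surjective r
        rw [← map_mul, ← map_mul, Subgroup.mem_center_iff.1 hq r']
    intro w hw
    rcases hW4 w hw with rfl | rfl | rfl | rfl
    exacts [one_mem _, hq₀Z, hρZ _ hq₀Z, hρZ _ (hρZ _ hq₀Z)]
  have hq₀sq : q₀ * q₀ = 1 := by
    rcases hW4 _ (W.mul_mem hq₀W hq₀W) with e | e | e | e
    · exact e
    · exact absurd (mul_eq_left.1 e) hq₀1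
    · exfalso
      have e2 : ρb q₀ * ρb q₀ = ρb (ρb q₀) := by rw [← map_mul, e]
      have e3 := hρb.norm q₀
      rw [← e2, ← e] at e3
      have h7 : q₀ ^ 7 = 1 := by rw [← e3]; simp only [pow_succ, pow_zero, one_mul, mul_assoc]
      obtain ⟨k, hk⟩ := hQp q₀
      have := Nat.dvd_gcd (orderOf_dvd_of_pow_eq_one h7) (orderOf_dvd_of_pow_eq_one hk)
      rw [show Nat.gcd 7 (2 ^ k) = 1 from Nat.Coprime.pow_right k (by norm_num)] at this
      exact hq₀1 (orderOf_eq_one_iff.1 (Nat.dvd_one.1 this))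
    · exfalso
      have e2 : ρb q₀ * ρb q₀ = q₀ := by rw [← map_mul, e, hρb.cube]
      have e3 := hρb.norm q₀
      rw [← e] at e3
      have h7 : ρb q₀ ^ 7 = 1 := by
        calc ρb q₀ ^ 7 = (ρb q₀ * ρb q₀) * ρb q₀ * ((ρb q₀ * ρb q₀) * (ρb q₀ * ρb q₀)) := by simp only [pow_succ, pow_zero, one_mul, mul_assoc]
          _ = q₀ * ρb q₀ * (q₀ * q₀) := by rw [e2]
          _ = 1 := e3
      obtain ⟨k, hk⟩ := hQp (ρb q₀)
      have := Nat.dvd_gcd (orderOf_dvd_of_pow_eq_one h7) (orderOf_dvd_of_pow_eq_one hk)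
      rw [show Nat.gcd 7 (2 ^ k) = 1 from Nat.Coprime.pow_right k (by norm_num)] at this
      exact hq₀1 (ρb.injective ((orderOf_eq_one_iff.1 (Nat.dvd_one.1 this)).trans (map_one ρb).symm))
  have hW4' : Nat.card W = 4 := by
    refine le_antisymm hWcard ?_
    classical
    have hv2 : ρb q₀ ≠ q₀ := fun e => hq₀1 (hρb.fix _ e)
    have hr1 : ρb q₀ ≠ 1 := fun e => hq₀1 (ρb.injective (e.trans (map_one ρb).symm))
    have hr2 : ρb (ρb q₀) ≠ 1 := fun e => hr1 (ρb.injective (e.trans (map_one ρb).symm))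
    have hv3 : ρb (ρb q₀) ≠ ρb q₀ := fun e => hv2 (ρb.injective e)
    haveI : Fintype W := Fintype.ofFinite W
    have h4 : ({⟨1, W.one_mem⟩, ⟨q₀, hq₀W⟩, ⟨ρb q₀, hWinv _ hq₀W⟩,
        ⟨ρb (ρb q₀), hWinv _ (hWinv _ hq₀W)⟩} : Finset W).card = 4 := by
      simp [Finset.card_insert_of_notMem, Subtype.ext_iff, Ne.symm hq₀1, Ne.symm hr1, Ne.symm hr2,
        Ne.symm hv2, Ne.symm hv3, Ne.symm (hρb.sq_ne hq₀1)]
    rw [Nat.card_eq_fintype_card, ← h4]
    exact Finset.card_le_univ _
  have SQ : Semi τb ρb W := by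
    refine ⟨hQp, hρb, ⟨hW4', ?_, fun w hw x => Subgroup.mem_center_iff.1 (hWcen hw) x, hWinv⟩, ?_, ?_, fun q => Iff.rfl⟩
    · intro w hw
      rcases hW4 w hw with rfl | rfl | rfl | rfl
      · exact one_mul 1
      · exact hq₀sq
      · rw [← map_mul, hq₀sq, map_one]
      · rw [← map_mul, ← map_mul, hq₀sq, map_one, map_one]
    · intro q
      obtain ⟨x, rfl⟩ := QuotientGroup.mk_surjective q
      rw [τb_mk, τb_mk, S.invol]
    · intro q
      obtain ⟨x, rfl⟩ := QuotientGroup.mk_surjective q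
      rw [ρb_mk, τb_mk, τb_mk, ρb_mk, S.comm]
  have hcardT : Nat.card T = Nat.card Q * 4 := by
    rw [← hV.card]; exact Subgroup.card_eq_card_quotient_mul_card_subgroup V
  have hQlt : Nat.card Q < Nat.card T := by
    rw [hcardT]; have := Nat.card_pos (α := Q); omega
  have shQ := ih _ hQlt rfl SQ
  -- the preimage of `W`
  set X := W.comap (QuotientGroup.mk' V) with hX
  have hXmem : ∀ x : T, x ∈ X ↔ (x : Q) ∈ W := fun x => Iff.rfl
  have hXsq : ∀ x ∈ X, x * x ∈ V := fun x hx => (QuotientGroup.eq_one_iff _).1 (SQ.four.sq _ hx)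
  obtain ⟨z₀, hz₀⟩ := QuotientGroup.mk_surjective q₀
  have hρz : ((ρ z₀ : T) : Q) = ρb q₀ := by rw [← hz₀, ρb_mk]
  have hXgen : ∀ y ∈ X, ∃ w ∈ ({1, z₀, ρ z₀, ρ (ρ z₀)} : Set T), w⁻¹ * y ∈ V := by
    intro y hy
    rcases hW4 _ ((hXmem y).1 hy) with e | e | e | e
    · exact ⟨1, by simp, QuotientGroup.eq.1 e.symm⟩
    · exact ⟨z₀, by simp, QuotientGroup.eq.1 (hz₀.trans e.symm)⟩
    · exact ⟨ρ z₀, by simp, QuotientGroup.eq.1 (by rw [e, ← hz₀, ρb_mk])⟩
    · exact ⟨ρ (ρ z₀), by simp, QuotientGroup.eq.1 (by rw [e, ← hz₀, ρb_mk, ρb_mk])⟩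
  rcases shQ with ⟨hQ16, hQ2⟩ | ⟨hQab, hQ4⟩ | HQ
  · -- `T/V` elementary of order 16
    refine Or.inr (Or.inr ⟨h, hV, by rw [hcardT, hQ16], fun x => (QuotientGroup.eq_one_iff _).1 (hQ2 x), ?_⟩)
    by_contra hab
    push Not at hab
    obtain ⟨q, hq⟩ : ∃ q, q ∉ W := by
      by_contra hall
      push Not at hall
      rw [(Subgroup.eq_top_iff' W).2 hall, Subgroup.card_top, hQ16] at hW4'
      omega
    obtain ⟨x, rfl⟩ := QuotientGroup.mk_surjective q
    have hw : (x⁻¹ * τ x) * (x⁻¹ * τ x) = 1 := by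
      have hxx : x * x ∈ V := (QuotientGroup.eq_one_iff _).1 (hQ2 x)
      calc (x⁻¹ * τ x) * (x⁻¹ * τ x) = (x * x)⁻¹ * τ (x * x) := by
            rw [map_mul, mul_inv_rev, mul_assoc, ← mul_assoc (τ x), hab (τ x) x⁻¹]; group
        _ = 1 := by rw [(S.fix _).2 hxx, inv_mul_cancel]
    refine hq (QuotientGroup.eq.2 ?_)
    have : x⁻¹ * τ x ∈ V := by
      rw [← S.fix]
      rw [map_mul, map_inv, S.invol]
      calc (τ x)⁻¹ * x = (x⁻¹ * τ x)⁻¹ := by group
        _ = _ := inv_eq_of_mul_eq_one_right hw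
    have h2 := V.inv_mem this
    rwa [mul_inv_rev, inv_inv] at h2
  · -- `T/V` homocyclic: `T` is abelian
    obtain ⟨n, hn, q, hq, -⟩ := homocyclic_gen hQab hQp hρb hQnt hQ4
    obtain ⟨a, rfl⟩ := QuotientGroup.mk_surjective q
    have hall : ∀ x : T, x ∈ Subgroup.closure ((V : Set T) ∪ {a, ρ a}) := by
      intro x
      obtain ⟨i, j, e⟩ := hq (x : Q)
      rw [ρb_mk, ← QuotientGroup.mk_pow, ← QuotientGroup.mk_pow, ← QuotientGroup.mk_mul] at e
      have := mul_mem (mul_mem (pow_mem (Subgroup.subset_closure (show a ∈ ((V : Set T) ∪ {a, ρ a}) by simp)) i)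
        (pow_mem (Subgroup.subset_closure (show ρ a ∈ ((V : Set T) ∪ {a, ρ a}) by simp)) j))
        (Subgroup.subset_closure (Or.inl (QuotientGroup.eq.1 e.symm)))
      rwa [mul_inv_cancel_left] at this
    haveI : IsMulCommutative (Subgroup.closure ((V : Set T) ∪ {a, ρ a})) := Subgroup.isMulCommutative_closure (by
      have key : ∀ p ∈ ((V : Set T) ∪ {a, ρ a}), p ∈ V ∨ p = a ∨ p = ρ a := by
        intro p hp; simp at hp; tauto
      intro p hp q hq
      rcases key p hp with hp | hp | hp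
      · exact (hc p hp q).symm
      all_goals rcases key q hq with hq | hq | hq
      all_goals try exact hc q hq _
      all_goals rw [hp, hq]
      exacts [h.comm a, (h.comm a).symm])
    have hab : ∀ x y : T, x * y = y * x := fun x y =>
      Subtype.ext_iff.1 (mul_comm' (⟨x, hall x⟩ : Subgroup.closure ((V : Set T) ∪ {a, ρ a})) ⟨y, hall y⟩)
    have sqmul : ∀ x y : T, (x * y) * (x * y) = (x * x) * (y * y) := fun x y => by
      rw [mul_assoc, ← mul_assoc y, hab y x]; group
    -- the involutions of the quotient lie in `W`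
    have hinW : ∀ r : Q, r * r = 1 → r ∈ W := by
      intro r hr
      let f : W → {r : Q // r * r = 1} := fun w => ⟨w, SQ.four.sq w w.2⟩
      have hinj : Function.Injective f := fun u w huw =>
        Subtype.ext (congrArg (fun t : {r : Q // r * r = 1} => (t : Q)) huw)
      obtain ⟨w, hw⟩ := ((Nat.bijective_iff_injective_and_card f).2
        ⟨hinj, le_antisymm (Nat.card_le_card_of_injective f hinj) (by omega)⟩).2 ⟨r, hr⟩
      rw [← show (w : Q) = r from congrArg Subtype.val hw]
      exact w.2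
    by_cases hXe : ∀ x ∈ X, x * x = 1
    · -- then `T` is elementary of order 16
      by_cases hQW : ∀ r : Q, r ∈ W
      · refine Or.inl ⟨?_, fun x => hXe x (hQW _)⟩
        rw [hcardT, ← Subgroup.card_top, ← (Subgroup.eq_top_iff' W).2 hQW, hW4']
      · exfalso
        push Not at hQW
        obtain ⟨r, hr⟩ := hQW
        -- an element of order four of the quotient
        obtain ⟨r', hr1, hr2⟩ : ∃ r' : Q, (r' * r') * (r' * r') = 1 ∧ r' * r' ≠ 1 := by
          obtain ⟨k, hk⟩ := hQp r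
          induction k generalizing r with
          | zero =>
            rw [pow_zero, pow_one] at hk
            exact absurd (hk ▸ W.one_mem) hr
          | succ k ihk =>
            by_cases hrr : r * r ∈ W
            · exact ⟨r, SQ.four.sq _ hrr, fun e => hr (hinW r e)⟩
            · refine ihk (r * r) hrr ?_
              rw [← pow_two, ← pow_mul, ← pow_succ']
              exact hk
        obtain ⟨y, rfl⟩ := QuotientGroup.mk_surjective r'
        have hzX : y * y ∈ X := hinW _ hr1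
        have hw : (y⁻¹ * τ y) * (y⁻¹ * τ y) ∈ V := by
          rw [sqmul, ← map_mul]
          exact QuotientGroup.eq.1 (hzX : τb _ = _).symm |> fun hh => by
            rwa [mul_inv_rev] at hh
        have hwX : y⁻¹ * τ y ∈ X := hinW _ ((QuotientGroup.eq_one_iff _).2 hw)
        have h1 := hXe _ hwX
        rw [sqmul, ← map_mul, ← mul_inv_rev] at h1
        exact hr2 ((QuotientGroup.eq_one_iff _).2 ((S.fix _).1 (inv_mul_eq_one.1 h1).symm))
    · refine Or.inr (Or.inl ⟨hab, ?_⟩)
      push Not at hXe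
      obtain ⟨x₀, hx₀, hx₀1⟩ := hXe
      -- every involution lies in `V`
      have key : ∀ x : T, x * x = 1 → x ∈ V := by
        intro x hx
        by_contra hxV
        have hxX : x ∈ X := (hXmem x).2 (hinW _ (by rw [← QuotientGroup.mk_mul, hx]; rfl))
        -- the images of `x` then exhaust `X` modulo `V`
        have hρX : ∀ w ∈ X, ρ w ∈ X := fun w hw => hWinv _ hw
        have hr : ∀ w ∈ X, w * w = 1 ∨ w * w ≠ 1 := fun w _ => em _
        obtain ⟨u, hu, hux⟩ := hXgen x hxX
        obtain ⟨u₀, hu₀, hux₀⟩ := hXgen x₀ hx₀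
        have hsq : ∀ w y : T, w⁻¹ * y ∈ V → y * y = w * w := fun w y hwy => by
          conv_lhs => rw [show y = w * (w⁻¹ * y) by group, sqmul, hV.sq _ hwy, mul_one]
        have hzz : z₀ * z₀ = 1 := by
          simp only [Set.mem_insert_iff, Set.mem_singleton_iff] at hu
          have hh := hsq u x hux
          rw [hx] at hh
          rcases hu with rfl | rfl | rfl | rfl
          · rw [inv_one, one_mul] at hux; exact absurd hux hxV
          · exact hh.symm
          · rw [← map_mul] at hh; exact ρ.injective (hh.symm.trans (map_one ρ).symm)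
          · rw [← map_mul, ← map_mul] at hh
            exact ρ.injective (ρ.injective (hh.symm.trans ((map_one ρ).symm.trans (congrArg ρ (map_one ρ).symm))))
        refine hx₀1 ?_
        rw [hsq u₀ x₀ hux₀]
        simp only [Set.mem_insert_iff, Set.mem_singleton_iff] at hu₀
        rcases hu₀ with rfl | rfl | rfl | rfl
        · exact one_mul 1
        · exact hzz
        · rw [← map_mul, hzz, map_one]
        · rw [← map_mul, ← map_mul, hzz, map_one, map_one]
      rw [← hV.card]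
      exact Nat.card_le_card_of_injective (fun x : {x : T // x * x = 1} => (⟨x.1, key _ x.2⟩ : V))
        fun x y e => Subtype.ext (congrArg (fun t : V => (t : T)) e)
  · -- `T/V` of order 64: impossible
    exfalso
    -- an element moved modulo `W`
    obtain ⟨qa, hqa⟩ : ∃ q : Q, q⁻¹ * τb q ∉ W := by
      by_contra hall
      push Not at hall
      let d : Q →* W := MonoidHom.mk' (fun q => ⟨q⁻¹ * τb q, hall q⟩) (fun r s => by
        refine Subtype.ext ?_
        show (r * s)⁻¹ * τb (r * s) = r⁻¹ * τb r * (s⁻¹ * τb s)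
        rw [map_mul, mul_inv_rev, mul_assoc, ← mul_assoc r⁻¹ (τb r), ← mul_assoc, SQ.four.central _ (hall r) s⁻¹]
        group)
      have hk : d.ker ≤ W := fun q hq => (inv_mul_eq_one.1 (congrArg Subtype.val hq)).symm
      have h1 := d.ker.card_mul_index
      rw [Subgroup.index_ker] at h1
      have h2 := Subgroup.card_le_of_le hk
      have h3 := Subgroup.card_le_card_group d.range
      rw [hW4'] at h2 h3
      rw [HQ.card] at h1
      nlinarith
    obtain ⟨a, rfl⟩ := QuotientGroup.mk_surjective qa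
    obtain ⟨b, hb⟩ : ∃ b, b = a⁻¹ * τ a := ⟨_, rfl⟩
    have hτa : τ a = a * b := by rw [hb]; group
    have hτb : τ b = b⁻¹ := by rw [hb, map_mul, map_inv, S.invol]; group
    have hbW : (b : Q) ∉ W := by rw [hb]; exact hqa
    have haW : (a : Q) ∉ W := fun e => hqa (by
      rw [show τb (a : Q) = a from e, inv_mul_cancel]; exact W.one_mem)
    have hbU : (b : Q) ∉ W ⊔ Subgroup.closure {(a : Q), ρb (a : Q)} := by
      intro hmem
      haveI hWn : W.Normal := ⟨fun v hv g => by rw [SQ.four.central v hv g, mul_inv_cancel_right]; exact hv⟩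
      have hsub : ∀ r ∈ Subgroup.closure {(a : Q), ρb (a : Q)},
          r ∈ W ∨ (a : Q)⁻¹ * r ∈ W ∨ (ρb (a : Q))⁻¹ * r ∈ W ∨ (ρb (ρb (a : Q)))⁻¹ * r ∈ W := by
        let π := QuotientGroup.mk' W
        intro r hr
        have hA : ∀ r, π r * π r = 1 := fun r => (QuotientGroup.eq_one_iff _).2 (HQ.sq_mem r)
        have hinv : ∀ r, (π r)⁻¹ = π r := fun r => inv_eq_of_mul_eq_one_right (hA r)
        suffices π r = 1 ∨ π r = π a ∨ π r = π (ρb a) ∨ π r = π (ρb (ρb a)) by
          rcases this with e | e | e | e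
          exacts [Or.inl ((QuotientGroup.eq_one_iff _).1 e), Or.inr (Or.inl (QuotientGroup.eq.1 e.symm)),
            Or.inr (Or.inr (Or.inl (QuotientGroup.eq.1 e.symm))), Or.inr (Or.inr (Or.inr (QuotientGroup.eq.1 e.symm)))]
        have h3 : π (ρb (ρb (a : Q))) = π a * π (ρb a) := by
          rw [hρb.rho_sq, map_inv, map_mul, mul_inv_rev, hinv, hinv, ← map_mul, ← map_mul, hρb.comm]
        have hcm : π a * π (ρb a) = π (ρb a) * π a := by rw [← map_mul, ← map_mul, hρb.comm]
        induction hr using Subgroup.closure_induction with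
        | mem r hr =>
          simp only [Set.mem_insert_iff, Set.mem_singleton_iff] at hr
          rcases hr with rfl | rfl <;> tauto
        | one => exact Or.inl (map_one π)
        | mul r s _ _ ihr ihs =>
          have a1 := hA (a : Q); have a2 := hA (ρb (a : Q))
          have a3 : ∀ x, π a * (π a * x) = x := fun x => by rw [← mul_assoc, a1, one_mul]
          have a4 : ∀ x, π (ρb a) * (π (ρb a) * x) = x := fun x => by rw [← mul_assoc, a2, one_mul]
          have a5 : ∀ x, π (ρb a) * (π a * x) = π a * (π (ρb a) * x) := fun x => by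
            rw [← mul_assoc, ← hcm, mul_assoc]
          rw [map_mul]
          rcases ihr with e | e | e | e <;> rcases ihs with e' | e' | e' | e' <;>
            rw [e, e'] <;> simp [h3, mul_assoc, a1, a2, a3, a4, a5, ← hcm]
        | inv r _ ihr => rw [map_inv, hinv]; exact ihr
      obtain ⟨w, hw, r, hr, e⟩ := Subgroup.mem_sup_of_normal_left.1 hmem
      -- `b` is inverted by `τ`, so is fixed modulo `W`
      have hfix : ∀ r : Q, r⁻¹ * (b : Q) ∈ W → r⁻¹ * τb r ∈ W := by
        intro r hr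
        have e1 : τb (r⁻¹ * (b : Q)) = r⁻¹ * (b : Q) := hr
        rw [map_mul, map_inv, τb_mk, hτb] at e1
        have e2 : τb r = ((b⁻¹ : T) : Q) * (r⁻¹ * (b : Q))⁻¹ := by rw [← e1]; group
        rw [e2, show r⁻¹ * (((b⁻¹ : T) : Q) * (r⁻¹ * (b : Q))⁻¹) =
          (r⁻¹ * (b : Q)) * ((b : Q) * (b : Q))⁻¹ * (r⁻¹ * (b : Q))⁻¹ by rw [QuotientGroup.mk_inv]; group]
        exact W.mul_mem (W.mul_mem hr (W.inv_mem (HQ.sq_mem _))) (W.inv_mem hr)
      have hstep : ∀ r : Q, r⁻¹ * τb r ∈ W → (ρb r)⁻¹ * τb (ρb r) ∈ W := fun r hr => by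
        have := hWinv _ hr
        rw [map_mul, map_inv] at this
        rwa [SQ.comm]
      have hrb : ∀ u : Q, u⁻¹ * r ∈ W → u⁻¹ * (b : Q) ∈ W := fun u hu => by
        rw [← e, ← mul_assoc, SQ.four.central w hw u⁻¹, mul_assoc]
        exact W.mul_mem hw hu
      rcases hsub r hr with h1 | h1 | h1 | h1
      · exact hbW (e ▸ W.mul_mem hw h1)
      · exact hqa (hfix _ (hrb _ h1))
      · have := hstep _ (hstep _ (hfix _ (hrb _ h1)))
        rw [hρb.cube] at this
        exact hqa this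
      · have := hstep _ (hfix _ (hrb _ h1))
        rw [hρb.cube] at this
        exact hqa this
    obtain ⟨E, hE, hE1, heq, hfq, hfq', -, hgenQ⟩ := (HQ.step (a : Q) haW).2 (b : Q) hbU
    -- lifts of the commutators
    obtain ⟨e, hedef⟩ : ∃ e, e = (a * b)⁻¹ * (b * a) := ⟨_, rfl⟩
    obtain ⟨c, hcdef⟩ : ∃ c, c = (ρ a * b)⁻¹ * (b * ρ a) := ⟨_, rfl⟩
    have heE : (e : Q) = E := by
      rw [hedef, QuotientGroup.mk_mul, QuotientGroup.mk_inv, QuotientGroup.mk_mul, QuotientGroup.mk_mul, heq]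
      group
    have hcE : (c : Q) = ((ρ (ρ e) : T) : Q) := by
      rw [hcdef, QuotientGroup.mk_mul, QuotientGroup.mk_inv, QuotientGroup.mk_mul, QuotientGroup.mk_mul,
        ← ρb_mk, hfq, ← ρb_mk (ρ e), ← ρb_mk e, heE]
      group
    have heX : e ∈ X := by show (e : Q) ∈ W; rw [heE]; exact hE
    have hρX : ∀ w ∈ X, ρ w ∈ X := fun w hw => hWinv _ hw
    have hcX : c ∈ X := by show (c : Q) ∈ W; rw [hcE]; exact hρX _ (hρX _ heX)
    let D : T → T → T := fun x g => x⁻¹ * g⁻¹ * x * g
    have Dswap : ∀ x g : T, x * g = g * x * D x g := fun x g => by simp only [D]; group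
    have DV : ∀ x ∈ X, ∀ g : T, D x g ∈ V := by
      intro x hx g
      rw [← QuotientGroup.eq_one_iff]
      show (x : Q)⁻¹ * (g : Q)⁻¹ * (x : Q) * (g : Q) = 1
      rw [mul_assoc _ (x : Q), ← SQ.four.central _ ((hXmem x).1 hx) (g : Q)]; group
    have Dmul : ∀ x ∈ X, ∀ g g' : T, D x (g * g') = D x g * D x g' := fun x hx g g' => by
      calc D x (g * g') = D x g' * (g'⁻¹ * D x g * g') := by simp only [D]; group
        _ = _ := by rw [mul_assoc g'⁻¹, ← hc _ (DV x hx g) g', inv_mul_cancel_left, hc _ (DV x hx g)]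
    have Done : ∀ x g : T, D x g = 1 → x * g = g * x := fun x g e => by rw [Dswap x g, e, mul_one]
    have Dcomm : ∀ x g : T, x * g = g * x → D x g = 1 := fun x g e => by
      show x⁻¹ * g⁻¹ * x * g = 1
      rw [mul_assoc _ x g, e]; group
    have Dinv : ∀ x ∈ X, ∀ g : T, D x g⁻¹ = D x g := fun x hx g => by
      have h2 := Dmul x hx g g⁻¹
      rw [mul_inv_cancel, Dcomm x 1 (by simp)] at h2
      rw [← inv_eq_of_mul_eq_one_right h2.symm, hV.inv_self (DV x hx g)]
    have Dmod : ∀ x y g : T, x⁻¹ * y ∈ V → D y g = D x g := fun x y g hxy => by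
      have e : y = x * (x⁻¹ * y) := by group
      rw [e]
      show (x * (x⁻¹ * y))⁻¹ * g⁻¹ * (x * (x⁻¹ * y)) * g = D x g
      rw [hc _ hxy x]
      calc ((x⁻¹ * y) * x)⁻¹ * g⁻¹ * ((x⁻¹ * y) * x) * g = x⁻¹ * ((x⁻¹ * y)⁻¹ * (g⁻¹ * (x⁻¹ * y))) * x * g := by group
        _ = _ := by rw [hc _ hxy g⁻¹]; simp only [D]; group
    have Dρ : ∀ x g : T, ρ (D x g) = D (ρ x) (ρ g) := fun x g => by
      simp only [D, map_mul, map_inv]
    have hXab : ∀ x ∈ X, ∀ y ∈ X, x * y = y * x := by
      intro x hx y hy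
      obtain ⟨u, hu, hux⟩ := hXgen x hx
      obtain ⟨u', hu', huy⟩ := hXgen y hy
      have huu : u * u' = u' * u := by
        have c1 := h.comm z₀
        have c2 := h.comm (ρ z₀)
        have c3 : z₀ * ρ (ρ z₀) = ρ (ρ z₀) * z₀ := by
          have := h.comm (ρ (ρ z₀))
          rw [h.cube] at this
          exact this.symm
        simp only [Set.mem_insert_iff, Set.mem_singleton_iff] at hu hu'
        rcases hu with rfl | rfl | rfl | rfl <;> rcases hu' with rfl | rfl | rfl | rfl <;>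
          first | rfl | simp only [one_mul, mul_one] | exact c1 | exact c1.symm | exact c2 | exact c2.symm | exact c3 | exact c3.symm
      rw [show x = u * (u⁻¹ * x) by group, show y = u' * (u'⁻¹ * y) by group]
      set v := u⁻¹ * x
      set v' := u'⁻¹ * y
      calc u * v * (u' * v') = (u * u') * (v * v') := by rw [← mul_assoc, mul_assoc u v u', ← hc v hux u']; group
        _ = (u' * u) * (v' * v) := by rw [huu, hc v' huy v]
        _ = _ := by rw [← mul_assoc, mul_assoc u' u v', hc v' huy u]; group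
    -- commutation with `b`, `ρ b`
    have hDb : ∀ x ∈ X, D x b = 1 := by
      intro x hx
      have hv : x⁻¹ * τ x ∈ V := QuotientGroup.eq.1 ((τb_mk x).symm.trans hx).symm
      have e1 : D (τ x) (τ a) = D x a := by
        rw [show D (τ x) (τ a) = τ (D x a) by simp only [D, map_mul, map_inv]]
        exact (S.fix _).2 (DV x hx a)
      rw [Dmod x (τ x) _ hv, hτa, Dmul x hx] at e1
      exact mul_eq_left.1 e1
    have hDρb : ∀ x ∈ X, D x (ρ b) = 1 := fun x hx => by
      have := congrArg ρ (hDb (ρ (ρ x)) (hρX _ (hρX _ hx)))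
      rwa [Dρ, h.cube, map_one] at this
    -- the symmetry
    have Dsym : ∀ x ∈ X, ∀ g : T, D (ρ x) g = D x (ρ g) := by
      intro x hx g
      have hgx := h.comm (g * x)
      rw [map_mul] at hgx
      have hrx := hρX x hx
      have e1 : g * x * (ρ g * ρ x) = g * ρ g * x * ρ x * D x (ρ g) := by
        calc g * x * (ρ g * ρ x) = g * (x * ρ g) * ρ x := by group
          _ = g * (ρ g * x * D x (ρ g)) * ρ x := by rw [← Dswap]
          _ = g * ρ g * x * (D x (ρ g) * ρ x) := by group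
          _ = _ := by rw [← hc _ (DV x hx _) (ρ x)]; group
      have e2 : ρ g * ρ x * (g * x) = g * ρ g * x * ρ x * D (ρ x) g := by
        calc ρ g * ρ x * (g * x) = ρ g * (ρ x * g) * x := by group
          _ = ρ g * (g * ρ x * D (ρ x) g) * x := by rw [← Dswap]
          _ = (ρ g * g) * ρ x * (D (ρ x) g * x) := by group
          _ = (ρ g * g) * (ρ x * x) * D (ρ x) g := by rw [← hc _ (DV _ hrx _) x]; group
          _ = _ := by rw [← h.comm g, ← h.comm x]; group
      exact mul_left_cancel (e2.symm.trans (hgx.symm.trans e1))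
    -- conjugating `b ρa = ρa b c` by `a`
    have hPR : D e (ρ a) = D c a := by
      have hba : a⁻¹ * b * a = b * e := by rw [hedef]; group
      have hra : a⁻¹ * ρ a * a = ρ a := by rw [mul_assoc, ← h.comm a]; group
      have hca : a⁻¹ * c * a = c * D c a := by simp only [D]; group
      have rel : b * ρ a = ρ a * b * c := by rw [hcdef]; group
      have e1 : b * e * ρ a = ρ a * (b * e) * (c * D c a) := by
        rw [← hba, ← hca, ← hra]
        calc a⁻¹ * b * a * (a⁻¹ * ρ a * a) = a⁻¹ * (b * ρ a) * a := by group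
          _ = _ := by rw [rel]; group
      have e2 : b * e * ρ a = ρ a * (b * e) * (c * D e (ρ a)) := by
        calc b * e * ρ a = b * (ρ a * e * D e (ρ a)) := by rw [mul_assoc, Dswap e (ρ a)]
          _ = (b * ρ a) * e * D e (ρ a) := by simp only [mul_assoc]
          _ = ρ a * b * (c * e) * D e (ρ a) := by rw [rel]; simp only [mul_assoc]
          _ = _ := by rw [hXab c hcX e heX]; group
      exact mul_left_cancel (mul_left_cancel (e2.symm.trans e1))
    -- `e` commutes with `a` and `ρ a`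
    have hP : D e a = 1 ∧ D e (ρ a) = 1 := by
      have e1 : D c a = D (ρ (ρ e)) a := Dmod _ _ _ (QuotientGroup.eq.1 hcE.symm)
      rw [e1, Dsym _ (hρX _ heX)] at hPR
      rw [← Dρ] at hPR
      have e2 : D e (ρ a) = ρ (D e a * D e (ρ a)) := by
        have := Dρ e (ρ (ρ a))
        rw [h.cube, Dsym e heX a, h.rho_sq a, Dinv _ heX, Dmul _ heX] at this
        exact this.symm
      rw [map_mul, ← hPR] at e2
      have e3 : D e (ρ a) = 1 := ρ.injective ((mul_eq_left.1 e2.symm).trans (map_one ρ).symm)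
      rw [e3] at hPR
      exact ⟨ρ.injective (hPR.symm.trans (map_one ρ).symm), e3⟩
    -- `X` is central
    have hgenT : Subgroup.closure ((X : Set T) ∪ {a, ρ a, b, ρ b}) = ⊤ := by
      rw [Subgroup.eq_top_iff']
      intro x
      have hle : Subgroup.closure ((W : Set Q) ∪ {(a : Q), ρb (a : Q), (b : Q), ρb (b : Q)}) ≤
          (Subgroup.closure ((X : Set T) ∪ {a, ρ a, b, ρ b})).map (QuotientGroup.mk' V) := by
        rw [Subgroup.closure_le]
        intro q hq
        simp only [Set.mem_union, SetLike.mem_coe, Set.mem_insert_iff, Set.mem_singleton_iff] at hq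
        rcases hq with hq | rfl | rfl | rfl | rfl
        · obtain ⟨y, rfl⟩ := QuotientGroup.mk_surjective q
          exact ⟨y, Subgroup.subset_closure (Or.inl hq), rfl⟩
        · exact ⟨a, Subgroup.subset_closure (by simp), rfl⟩
        · exact ⟨ρ a, Subgroup.subset_closure (by simp), rfl⟩
        · exact ⟨b, Subgroup.subset_closure (by simp), rfl⟩
        · exact ⟨ρ b, Subgroup.subset_closure (by simp), rfl⟩
      obtain ⟨y, hy, e⟩ := hle (show (x : Q) ∈ _ by rw [hgenQ]; exact Subgroup.mem_top _)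
      have hv : y⁻¹ * x ∈ X := by
        show ((y⁻¹ * x : T) : Q) ∈ W
        rw [QuotientGroup.mk_mul, QuotientGroup.mk_inv, show (y : Q) = x from e, inv_mul_cancel]
        exact W.one_mem
      have := mul_mem hy (Subgroup.subset_closure (Or.inl hv))
      rwa [mul_inv_cancel_left] at this
    have hecen : ∀ g : T, e * g = g * e := by
      intro g
      have hg : g ∈ Subgroup.centralizer ({e} : Set T) := by
        have : Subgroup.closure ((X : Set T) ∪ {a, ρ a, b, ρ b}) ≤ Subgroup.centralizer ({e} : Set T) := by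
          rw [Subgroup.closure_le]
          intro y hy
          rw [SetLike.mem_coe, Subgroup.mem_centralizer_singleton_iff]
          simp only [Set.mem_union, SetLike.mem_coe, Set.mem_insert_iff, Set.mem_singleton_iff] at hy
          rcases hy with hy | hy | hy | hy | hy
          · exact (hXab _ heX _ hy).symm
          · rw [hy]; exact (Done _ _ hP.1).symm
          · rw [hy]; exact (Done _ _ hP.2).symm
          · rw [hy]; exact (Done _ _ (hDb _ heX)).symm
          · rw [hy]; exact (Done _ _ (hDρb _ heX)).symm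
        exact this (by rw [hgenT]; exact Subgroup.mem_top g)
      exact (Subgroup.mem_centralizer_singleton_iff.1 hg).symm
    -- every element of `X` is central
    have hee : e * e = 1 := by
      have haX : a * a ∈ X := HQ.sq_mem (a : Q)
      have h1 := Done _ _ (hDb _ haX)
      have rel : b * a = a * b * e := by rw [hedef]; group
      have h2 : b * (a * a) = (a * a) * b * (e * e) := by
        calc b * (a * a) = a * b * (e * a) := by rw [← mul_assoc, rel]; group
          _ = a * (b * a) * e := by rw [hecen]; group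
          _ = _ := by rw [rel]; group
      rw [h1] at h2
      exact mul_eq_left.1 h2.symm
    have hτe : τ e = e⁻¹ := by
      have r : b⁻¹ * a * b = a * e⁻¹ := by
        calc b⁻¹ * a * b = b⁻¹ * ((b * a) * ((a * b)⁻¹ * (b * a))⁻¹) := by group
          _ = b⁻¹ * (b * a * e⁻¹) := by rw [← hedef]
          _ = _ := by group
      have h1 : τ e = a⁻¹ * (b⁻¹ * a * b) := by
        calc τ e = τ ((a * b)⁻¹ * (b * a)) := by rw [← hedef]
          _ = (τ a * τ b)⁻¹ * (τ b * τ a) := by rw [map_mul, map_inv, map_mul, map_mul]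
          _ = (a * b * b⁻¹)⁻¹ * (b⁻¹ * (a * b)) := by rw [hτb, hτa]
          _ = _ := by group
      rw [h1, r, inv_mul_cancel_left]
    refine hE1 ?_
    rw [← heE]
    refine (QuotientGroup.eq_one_iff _).2 ((S.fix _).1 ?_)
    rw [hτe]
    exact inv_eq_of_mul_eq_one_right hee

end Cfsg.Lib.TwoFour
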