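import Mathlib

/-!
# 2-groups with an involutive automorphism and a commuting cycle on its fixed points

`Q` is a 2-group, `α` an automorphism with square one whose fixed points are identified with the
additive group of a field `F` of characteristic two by `e`, and `ρ` commutes with `α` and is
multiplication by a generator `l` of the multiplicative group on the fixed points. If `Q` is not
abelian, then it has order `|F| ^ 3` and squares and commutators are fixed.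
-/

set_option autoImplicit false
set_option linter.unusedSectionVars false

universe u

open scoped commutatorElement

namespace Cfsg.Lib.TwoFour.Singer

/-- `x⁻¹ * α x` -/
def dlt {Q : Type*} [Group Q] (α : Q ≃* Q) (x : Q) : Q := x⁻¹ * α x

/-- the fixed points -/
def fixSub {Q : Type*} [Group Q] (α : Q ≃* Q) : Subgroup Q where
  carrier := {x | α x = x}
  one_mem' := map_one α
  mul_mem' {x y} hx hy := by
    simp only [Set.mem_setOf_eq] at hx hy ⊢
    rw [map_mul, hx, hy]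
  inv_mem' {x} hx := by
    simp only [Set.mem_setOf_eq] at hx ⊢
    rw [map_inv, hx]

/-- The hypotheses. -/
structure Hy {Q : Type*} [Group Q] {F : Type*} [Field F] (α ρ : Q ≃* Q) (e : Q → F) (l : F) : Prop where
  pg : IsPGroup 2 Q
  two : (2 : F) = 0
  invol : ∀ x, α (α x) = x
  comm : ∀ x, α (ρ x) = ρ (α x)
  e_mul : ∀ x y, α x = x → α y = y → e (x * y) = e x + e y
  e_inj : ∀ x, α x = x → e x = 0 → x = 1
  e_surj : ∀ u, ∃ x, α x = x ∧ e x = u
  e_rho : ∀ x, α x = x → e (ρ x) = l * e x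
  gen : ∀ u : F, u ≠ 0 → ∃ k : ℕ, l ^ k = u
  big : ∃ t : F, t ≠ 0 ∧ t ≠ 1

/-- The conclusion. -/
structure Str {Q : Type*} [Group Q] {F : Type*} [Field F] (α ρ : Q ≃* Q) (e : Q → F) : Prop where
  card : Nat.card Q = Nat.card F ^ 3
  dd : ∀ x, α (dlt α (dlt α x)) = dlt α (dlt α x)
  pi_mul : ∀ x y, e (dlt α (dlt α (x * y))) = e (dlt α (dlt α x)) + e (dlt α (dlt α y))
  pi_surj : ∀ u, ∃ x, e (dlt α (dlt α x)) = u
  sq : ∀ x, α (x * x) = x * x
  inv : ∀ d, α (dlt α d) = dlt α d → α d = d⁻¹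
  pair : ∃ k : F, k ≠ 0 ∧ ∀ x d, α (dlt α d) = dlt α d →
    e ⁅x, d⁆ ^ 2 = k * e (dlt α (dlt α x)) * e (dlt α d)

/-- A biadditive map which is homogeneous of degree two on the diagonal is bilinear. -/
theorem biadd_scalar {F : Type*} [Field F] (two : (2 : F) = 0) (hsq : ∀ x : F, ∃ y, y * y = x)
    (B : F → F → F) (h1 : ∀ x x' y, B (x + x') y = B x y + B x' y)
    (h2 : ∀ x y y', B x (y + y') = B x y + B x y')
    (hc : ∀ c x y, B (c * x) (c * y) = c * c * B x y) : ∀ x y, B x y = B 1 1 * x * y := by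
  have t0 : ∀ a : F, a + a = 0 := fun a => by linear_combination a * two
  have hB0 : ∀ y, B 0 y = 0 := fun y => by
    have := h1 0 0 y
    rw [add_zero] at this
    linear_combination -this
  have hφ : ∀ x y, x ≠ 0 → B x y = x * x * B 1 (y / x) := fun x y hx => by
    rw [← hc, mul_one, mul_div_cancel₀ _ hx]
  have hlin : ∀ t z, B 1 (t * t * z) = t * t * B 1 z := by
    intro t z
    rcases eq_or_ne t 0 with rfl | ht
    · have := h2 1 0 0
      simp only [add_zero] at this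
      simp only [zero_mul]
      linear_combination -this
    rcases eq_or_ne (1 + t) 0 with h | h
    · have : t = 1 := by linear_combination h - two
      subst this
      simp
    have e0 := h1 1 t (t * (1 + t) * z)
    rw [hφ _ _ h, hφ _ _ ht, show t * (1 + t) * z / (1 + t) = t * z by field_simp,
      show t * (1 + t) * z / t = z + t * z by field_simp, show t * (1 + t) * z = t * z + t * t * z by ring,
      h2, h2] at e0
    linear_combination -e0 + (t * B 1 (t * z) - t * t * B 1 z) * two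
  intro x y
  rcases eq_or_ne x 0 with rfl | hx
  · rw [hB0]; ring
  · obtain ⟨t, ht⟩ := hsq (y / x)
    have e1 := hlin t 1
    rw [mul_one] at e1
    rw [hφ x y hx, ← ht, e1, ht]
    field_simp

variable {Q : Type u} [Group Q] {F : Type*} [Field F] {α ρ : Q ≃* Q} {e : Q → F} {l : F}

theorem mem_fixSub {x : Q} : x ∈ fixSub α ↔ α x = x := Iff.rfl

namespace Hy

variable (h : Hy α ρ e l)
include h

theorem add_self (a : F) : a + a = 0 := by linear_combination a * h.two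

theorem e_one : e 1 = 0 := by
  have := h.e_mul 1 1 (map_one α) (map_one α)
  simpa using this

theorem e_inv {x : Q} (hx : α x = x) : e x⁻¹ = e x := by
  have := h.e_mul x x⁻¹ hx (by rw [map_inv, hx])
  rw [mul_inv_cancel, h.e_one] at this
  linear_combination -this - h.add_self (e x)

theorem e_eq {x y : Q} (hx : α x = x) (hy : α y = y) (he : e x = e y) : x = y := by
  have := h.e_inj (x * y⁻¹) (by rw [map_mul, map_inv, hx, hy])
    (by rw [h.e_mul _ _ hx (by rw [map_inv, hy]), h.e_inv hy, he, h.add_self])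
  exact mul_inv_eq_one.1 this

theorem sq_fix {x : Q} (hx : α x = x) : x * x = 1 :=
  h.e_inj _ (by rw [map_mul, hx]) (by rw [h.e_mul _ _ hx hx, h.add_self])

theorem inv_fix {x : Q} (hx : α x = x) : x⁻¹ = x := inv_eq_of_mul_eq_one_right (h.sq_fix hx)

theorem fix_rho {x : Q} (hx : α x = x) : α (ρ x) = ρ x := by rw [h.comm, hx]

theorem dlt_rho (x : Q) : dlt α (ρ x) = ρ (dlt α x) := by
  rw [dlt, dlt, map_mul, map_inv, h.comm]

theorem alpha_dlt (x : Q) : α (dlt α x) = (dlt α x)⁻¹ := by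
  rw [dlt, map_mul, map_inv, h.invol, mul_inv_rev, inv_inv]

theorem dlt_dlt (x : Q) : dlt α (dlt α x) = (dlt α x)⁻¹ * (dlt α x)⁻¹ := by
  conv_lhs => rw [dlt, h.alpha_dlt]

/-- An invariant property of fixed points holding at one nontrivial point holds at all. -/
theorem all_of_one (P : Q → Prop) (hP : ∀ x, α x = x → P x → P (ρ x)) (hP1 : P 1) {z : Q}
    (hz : α z = z) (hz1 : z ≠ 1) (hPz : P z) {c : Q} (hc : α c = c) : P c := by
  rcases eq_or_ne (e c) 0 with h0 | h0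
  · rw [h.e_inj c hc h0]; exact hP1
  have hez : e z ≠ 0 := fun e0 => hz1 (h.e_inj z hz e0)
  obtain ⟨k, hk⟩ := h.gen (e c / e z) (div_ne_zero h0 hez)
  have key : ∀ k : ℕ, ∃ w, α w = w ∧ e w = l ^ k * e z ∧ P w := by
    intro k
    induction k with
    | zero => exact ⟨z, hz, by rw [pow_zero, one_mul], hPz⟩
    | succ k ih =>
      obtain ⟨w, hw, hew, hPw⟩ := ih
      exact ⟨ρ w, h.fix_rho hw, by rw [h.e_rho w hw, hew, pow_succ]; ring, hP w hw hPw⟩
  obtain ⟨w, hw, hew, hPw⟩ := key k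
  rw [h.e_eq hc hw (by rw [hew, hk, div_mul_cancel₀ _ hez])]
  exact hPw

variable [Finite Q]

theorem sqrt_exists (x : F) : ∃ y, y * y = x := by
  haveI : Finite F := Finite.of_surjective (fun q : Q => e q) fun u => (h.e_surj u).imp fun _ hx => hx.2
  have hinj : Function.Injective (fun y : F => y * y) := fun a b hab => by
    have h0 : (a + b) * (a + b) = 0 := by linear_combination hab + (b * b + a * b) * h.two
    linear_combination (mul_self_eq_zero.1 h0) - h.add_self b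
  exact Finite.surjective_of_injective hinj x

theorem center_fix [Nontrivial Q] : ∃ z ∈ Subgroup.center Q, α z = z ∧ z ≠ 1 := by
  haveI : Fact (Nat.Prime 2) := ⟨Nat.prime_two⟩
  haveI := h.pg.center_nontrivial
  obtain ⟨k, hk0, hk⟩ := (h.pg.to_subgroup (Subgroup.center Q)).nontrivial_iff_card.1 inferInstance
  obtain ⟨⟨z, hzc⟩, hz⟩ := exists_prime_orderOf_dvd_card' (G := Subgroup.center Q) 2
    (by rw [hk]; exact dvd_pow_self 2 (by omega))
  rw [Subgroup.orderOf_mk] at hz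
  have hz2 : z * z = 1 := by rw [← pow_two, ← hz]; exact pow_orderOf_eq_one z
  have hz1 : z ≠ 1 := fun e1 => by rw [e1, orderOf_one] at hz; omega
  by_cases hfix : α z = z
  · exact ⟨z, hzc, hfix, hz1⟩
  · have hαc : α z ∈ Subgroup.center Q := Subgroup.mem_center_iff.2 fun y => by
      obtain ⟨y', rfl⟩ := α.surjective y
      rw [← map_mul, ← map_mul, Subgroup.mem_center_iff.1 hzc y']
    refine ⟨z * α z, mul_mem hzc hαc, ?_, fun e1 => hfix ?_⟩
    · rw [map_mul, h.invol]; exact Subgroup.mem_center_iff.1 hzc _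
    · rw [eq_inv_of_mul_eq_one_right e1, inv_eq_of_mul_eq_one_right hz2]

theorem fix_central {c : Q} (hc : α c = c) (y : Q) : y * c = c * y := by
  rcases eq_or_ne c 1 with rfl | hc1
  · simp
  haveI : Nontrivial Q := ⟨⟨c, 1, hc1⟩⟩
  obtain ⟨z, hzc, hz, hz1⟩ := h.center_fix
  refine h.all_of_one (fun x => ∀ y, y * x = x * y) ?_ (fun y => by simp) hz hz1
    (fun y => Subgroup.mem_center_iff.1 hzc y) hc y
  intro x _ hx y
  obtain ⟨y', rfl⟩ := ρ.surjective y
  rw [← map_mul, ← map_mul, hx y']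

theorem dlt_mul {x : Q} (hx : α (dlt α x) = dlt α x) (y : Q) :
    dlt α (x * y) = dlt α x * dlt α y := by
  calc dlt α (x * y) = y⁻¹ * dlt α x * α y := by rw [dlt, dlt, map_mul]; group
    _ = dlt α x * y⁻¹ * α y := by rw [← h.fix_central hx y⁻¹]
    _ = dlt α x * dlt α y := by rw [dlt, dlt, mul_assoc]

theorem dlt_mul_fix (x : Q) {c : Q} (hc : α c = c) : dlt α (x * c) = dlt α x := by
  calc dlt α (x * c) = c⁻¹ * dlt α x * c := by rw [dlt, dlt, map_mul, hc]; group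
    _ = dlt α x := by rw [mul_assoc, h.fix_central hc (dlt α x), inv_mul_cancel_left]

theorem comm_central_left {x y z : Q} (hyz : α ⁅y, z⁆ = ⁅y, z⁆) : ⁅x * y, z⁆ = ⁅x, z⁆ * ⁅y, z⁆ := by
  calc ⁅x * y, z⁆ = x * ⁅y, z⁆ * x⁻¹ * ⁅x, z⁆ := by simp only [commutatorElement_def]; group
    _ = ⁅x, z⁆ * ⁅y, z⁆ := by rw [h.fix_central hyz x, mul_inv_cancel_right, ← h.fix_central hyz ⁅x, z⁆]

theorem comm_central_right {x y z : Q} (hxz : α ⁅x, z⁆ = ⁅x, z⁆) : ⁅x, y * z⁆ = ⁅x, y⁆ * ⁅x, z⁆ := by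
  calc ⁅x, y * z⁆ = ⁅x, y⁆ * (y * ⁅x, z⁆ * y⁻¹) := by simp only [commutatorElement_def]; group
    _ = ⁅x, y⁆ * ⁅x, z⁆ := by rw [h.fix_central hxz y, mul_inv_cancel_right]

theorem comm_fix_left {c : Q} (hc : α c = c) (x : Q) : ⁅c, x⁆ = 1 :=
  commutatorElement_eq_one_iff_mul_comm.2 (h.fix_central hc x).symm

theorem comm_fix_right {c : Q} (hc : α c = c) (x : Q) : ⁅x, c⁆ = 1 :=
  commutatorElement_eq_one_iff_mul_comm.2 (h.fix_central hc x)

theorem comm_inv_right {x y : Q} (hxy : α ⁅x, y⁆ = ⁅x, y⁆) : ⁅x, y⁻¹⁆ = ⁅x, y⁆ := by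
  have h1 := h.comm_central_right (y := y⁻¹) hxy
  rw [inv_mul_cancel, commutatorElement_one_right] at h1
  rw [eq_inv_of_mul_eq_one_left h1.symm, h.inv_fix hxy]

/-- If `α` inverts `y` modulo the fixed points then `y` commutes with `x⁻¹ * α x`. -/
theorem comm_dlt {x y c : Q} (hc : α c = c) (hy : α y = y⁻¹ * c)
    (hcm : ∀ x : Q, α ⁅x, y⁆ = ⁅x, y⁆) : ⁅dlt α x, y⁆ = 1 := by
  have h1 : ⁅x, y⁆ = ⁅α x, y⁆ := by
    calc ⁅x, y⁆ = α ⁅x, y⁆ := (hcm x).symm
      _ = ⁅α x, y⁻¹ * c⁆ := by rw [map_commutatorElement, hy]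
      _ = ⁅α x, y⁻¹⁆ := by
        rw [h.comm_central_right (by rw [h.comm_fix_right hc]; exact map_one α), h.comm_fix_right hc, mul_one]
      _ = ⁅α x, y⁆ := h.comm_inv_right (hcm _)
  have h2 : α x = x * dlt α x := by rw [dlt, mul_inv_cancel_left]
  rw [h2, h.comm_central_left (hcm _)] at h1
  exact mul_left_cancel (a := ⁅x, y⁆) (h1.symm.trans (mul_one _).symm)

/-- The commutator pairing of two layers. -/
theorem pairing (P R : Subgroup Q) (p r : Q → F)
    (hPρ : ∀ x ∈ P, ρ x ∈ P) (hRρ : ∀ y ∈ R, ρ y ∈ R)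
    (hp : ∀ x ∈ P, ∀ y ∈ P, p (x * y) = p x + p y) (hr : ∀ x ∈ R, ∀ y ∈ R, r (x * y) = r x + r y)
    (hps : ∀ u, ∃ x ∈ P, p x = u) (hrs : ∀ u, ∃ x ∈ R, r x = u)
    (hpe : ∀ x ∈ P, p (ρ x) = l * p x) (hre : ∀ x ∈ R, r (ρ x) = l * r x)
    (hfix : ∀ x ∈ P, ∀ y ∈ R, α ⁅x, y⁆ = ⁅x, y⁆)
    (hkl : ∀ x ∈ P, ∀ y ∈ R, p x = 0 → ⁅x, y⁆ = 1) (hkr : ∀ x ∈ P, ∀ y ∈ R, r y = 0 → ⁅x, y⁆ = 1) :
    ∃ k : F, ∀ x ∈ P, ∀ y ∈ R, e ⁅x, y⁆ ^ 2 = k * p x * r y := by
  choose sp hspP hsp using hps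
  choose sr hsrR hsr using hrs
  have p0 : p 1 = 0 := by simpa using hp 1 P.one_mem 1 P.one_mem
  have r0 : r 1 = 0 := by simpa using hr 1 R.one_mem 1 R.one_mem
  have wdl : ∀ x ∈ P, ∀ x' ∈ P, ∀ y ∈ R, p x = p x' → ⁅x, y⁆ = ⁅x', y⁆ := by
    intro x hx x' hx' y hy hxx
    have hw : x'⁻¹ * x ∈ P := mul_mem (inv_mem hx') hx
    have hpw : p (x'⁻¹ * x) = 0 := by
      have h1 := hp _ (inv_mem hx') x hx
      have h2 := hp _ (inv_mem hx') x' hx'
      rw [inv_mul_cancel, p0] at h2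
      rw [h1, hxx, ← h2]
    calc ⁅x, y⁆ = ⁅x' * (x'⁻¹ * x), y⁆ := by rw [mul_inv_cancel_left]
      _ = ⁅x', y⁆ := by
        rw [h.comm_central_left (hfix _ hw y hy), hkl _ hw y hy hpw, mul_one]
  have wdr : ∀ x ∈ P, ∀ y ∈ R, ∀ y' ∈ R, r y = r y' → ⁅x, y⁆ = ⁅x, y'⁆ := by
    intro x hx y hy y' hy' hyy
    have hw : y'⁻¹ * y ∈ R := mul_mem (inv_mem hy') hy
    have hrw : r (y'⁻¹ * y) = 0 := by
      have h1 := hr _ (inv_mem hy') y hy
      have h2 := hr _ (inv_mem hy') y' hy'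
      rw [inv_mul_cancel, r0] at h2
      rw [h1, hyy, ← h2]
    calc ⁅x, y⁆ = ⁅x, y' * (y'⁻¹ * y)⁆ := by rw [mul_inv_cancel_left]
      _ = ⁅x, y'⁆ := by
        rw [h.comm_central_right (hfix _ hx _ hw), hkr _ hx _ hw hrw, mul_one]
  obtain ⟨B, hB⟩ : ∃ B : F → F → F, ∀ u v, B u v = e ⁅sp u, sr v⁆ ^ 2 := ⟨_, fun u v => rfl⟩
  have hval : ∀ x ∈ P, ∀ y ∈ R, e ⁅x, y⁆ ^ 2 = B (p x) (r y) := fun x hx y hy => by
    rw [hB, wdl x hx _ (hspP _) y hy (hsp _).symm, wdr _ (hspP _) y hy _ (hsrR _) (hsr _).symm]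
  have h1 : ∀ u u' v, B (u + u') v = B u v + B u' v := fun u u' v => by
    have hv := hval _ (mul_mem (hspP u) (hspP u')) _ (hsrR v)
    rw [hp _ (hspP u) _ (hspP u'), hsp, hsp, hsr, h.comm_central_left (hfix _ (hspP u') _ (hsrR v)),
      h.e_mul _ _ (hfix _ (hspP u) _ (hsrR v)) (hfix _ (hspP u') _ (hsrR v))] at hv
    rw [← hv, hB, hB]
    linear_combination (e ⁅sp u, sr v⁆ * e ⁅sp u', sr v⁆) * h.two
  have h2 : ∀ u v v', B u (v + v') = B u v + B u v' := fun u v v' => by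
    have hv := hval _ (hspP u) _ (mul_mem (hsrR v) (hsrR v'))
    rw [hr _ (hsrR v) _ (hsrR v'), hsr, hsr, hsp, h.comm_central_right (hfix _ (hspP u) _ (hsrR v')),
      h.e_mul _ _ (hfix _ (hspP u) _ (hsrR v)) (hfix _ (hspP u) _ (hsrR v'))] at hv
    rw [← hv, hB, hB]
    linear_combination (e ⁅sp u, sr v⁆ * e ⁅sp u, sr v'⁆) * h.two
  have hl : ∀ u v, B (l * u) (l * v) = l * l * B u v := fun u v => by
    have hv := hval _ (hPρ _ (hspP u)) _ (hRρ _ (hsrR v))
    rw [hpe _ (hspP u), hre _ (hsrR v), hsp, hsr, ← map_commutatorElement,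
      h.e_rho _ (hfix _ (hspP u) _ (hsrR v))] at hv
    rw [← hv, hB]
    ring
  have hc : ∀ c u v, B (c * u) (c * v) = c * c * B u v := by
    intro c u v
    rcases eq_or_ne c 0 with rfl | hc0
    · have := h1 0 0 0
      simp only [add_zero] at this
      simp only [zero_mul]
      linear_combination -this
    · obtain ⟨k, rfl⟩ := h.gen c hc0
      clear hc0
      induction k with
      | zero => simp
      | succ k ih => rw [pow_succ', mul_assoc, mul_assoc, hl, ih]; ring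
  refine ⟨B 1 1, fun x hx y hy => ?_⟩
  rw [hval x hx y hy, biadd_scalar h.two h.sqrt_exists B h1 h2 hc]

theorem exists_D (hne : ∃ x, α x ≠ x) : ∃ x, α (dlt α x) = dlt α x ∧ α x ≠ x := by
  haveI : (fixSub α).Normal := ⟨fun c hc g => by rw [h.fix_central hc g, mul_inv_cancel_right]; exact hc⟩
  haveI : Fact (Nat.Prime 2) := ⟨Nat.prime_two⟩
  obtain ⟨x0, hx0⟩ := hne
  haveI : Nontrivial (Q ⧸ fixSub α) :=
    ⟨⟨(x0 : Q ⧸ fixSub α), 1, fun e1 => hx0 ((QuotientGroup.eq_one_iff x0).1 e1)⟩⟩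
  have hpb : IsPGroup 2 (Q ⧸ fixSub α) := h.pg.to_quotient _
  haveI := hpb.center_nontrivial
  obtain ⟨k, hk0, hk⟩ := (hpb.to_subgroup (Subgroup.center _)).nontrivial_iff_card.1 inferInstance
  obtain ⟨⟨zb, hzc⟩, hz⟩ := exists_prime_orderOf_dvd_card' (G := Subgroup.center (Q ⧸ fixSub α)) 2
    (by rw [hk]; exact dvd_pow_self 2 (by omega))
  rw [Subgroup.orderOf_mk] at hz
  obtain ⟨z, rfl⟩ := QuotientGroup.mk_surjective zb
  have hz1 : α z ≠ z := fun e1 => by
    rw [(QuotientGroup.eq_one_iff z).2 e1, orderOf_one] at hz; omega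
  have hsq : α (z * z) = z * z := by
    refine (QuotientGroup.eq_one_iff (N := fixSub α) (z * z)).1 ?_
    show ((z : Q ⧸ fixSub α) * (z : Q ⧸ fixSub α)) = 1
    rw [← pow_two, ← hz]; exact pow_orderOf_eq_one _
  have hcom : ∀ y, α (z * y * z⁻¹ * y⁻¹) = z * y * z⁻¹ * y⁻¹ := fun y => by
    refine (QuotientGroup.eq_one_iff (N := fixSub α) (z * y * z⁻¹ * y⁻¹)).1 ?_
    show ((z : Q ⧸ fixSub α) * (y : Q ⧸ fixSub α) * (z : Q ⧸ fixSub α)⁻¹ * (y : Q ⧸ fixSub α)⁻¹) = 1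
    rw [← Subgroup.mem_center_iff.1 hzc (y : Q ⧸ fixSub α), mul_inv_cancel_right, mul_inv_cancel]
  by_cases hd : α (dlt α z) = dlt α z
  · exact ⟨z, hd, hz1⟩
  · refine ⟨z * α z, ?_, fun e1 => hd ?_⟩
    · have e2 : dlt α (z * α z) = ⁅(α z)⁻¹, z⁻¹⁆ := by
        rw [dlt, map_mul, h.invol, commutatorElement_def]; group
      have e3 : ⁅z, α z⁆ = z * α z * z⁻¹ * (α z)⁻¹ := commutatorElement_def _ _
      have hzz := hcom (α z)
      rw [← e3] at hzz
      have e4 : dlt α (z * α z) = (z * α z)⁻¹ * ⁅z, α z⁆⁻¹ * (z * α z) := by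
        rw [e2, commutatorElement_def, commutatorElement_def]; group
      have h5 : α ⁅z, α z⁆⁻¹ = ⁅z, α z⁆⁻¹ := by rw [map_inv, hzz]
      rw [e4, mul_assoc, ← h.fix_central h5 (z * α z), inv_mul_cancel_left, h5]
    · -- `z * α z` fixed means `z` commutes with `α z`; then `dlt α z` is `z⁻¹ * z⁻¹` times a fixed point
      have e5 : dlt α z = (z * z)⁻¹ * (z * α z) := by rw [dlt]; group
      rw [e5, map_mul, map_inv, hsq, e1]

theorem eD_surj (hne : ∃ x, α x ≠ x) (u : F) : ∃ x, α (dlt α x) = dlt α x ∧ e (dlt α x) = u := by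
  obtain ⟨x, hx, hx1⟩ := h.exists_D hne
  obtain ⟨c, hc, rfl⟩ := h.e_surj u
  obtain ⟨w, hw, hw'⟩ := h.all_of_one (fun y => ∃ w, α (dlt α w) = dlt α w ∧ dlt α w = y) (by
      rintro y - ⟨w, hw, rfl⟩
      exact ⟨ρ w, by rw [h.dlt_rho, h.fix_rho hw], h.dlt_rho w⟩)
    ⟨1, by simp [dlt], by simp [dlt]⟩ hx (fun e1 => hx1 (by
      have := congrArg (x * ·) e1
      simpa [dlt] using this)) ⟨x, hx, rfl⟩ hc
  exact ⟨w, hw, by rw [hw']⟩

/-- The subgroup of elements fixed modulo the fixed points. -/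
def dSub : Subgroup Q where
  carrier := {x | α (dlt α x) = dlt α x}
  one_mem' := by simp [dlt]
  mul_mem' {x y} hx hy := by
    simp only [Set.mem_setOf_eq] at hx hy ⊢
    rw [h.dlt_mul hx, map_mul, hx, hy]
  inv_mem' {x} hx := by
    simp only [Set.mem_setOf_eq] at hx ⊢
    have e1 := h.dlt_mul hx x⁻¹
    rw [mul_inv_cancel, show dlt α (1 : Q) = 1 by simp [dlt]] at e1
    rw [eq_inv_of_mul_eq_one_right e1.symm, map_inv, hx]

theorem mem_dSub {x : Q} : x ∈ h.dSub ↔ α (dlt α x) = dlt α x := Iff.rfl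

theorem D_comm (hne : ∃ x, α x ≠ x) {a b : Q} (ha : α (dlt α a) = dlt α a)
    (hb : α (dlt α b) = dlt α b) : ⁅a, b⁆ = 1 := by
  have hαD : ∀ x, α (dlt α x) = dlt α x → α x = x * dlt α x := fun x _ => by rw [dlt, mul_inv_cancel_left]
  have hfix : ∀ x ∈ h.dSub, ∀ y ∈ h.dSub, α ⁅x, y⁆ = ⁅x, y⁆ := by
    intro x hx y hy
    rw [map_commutatorElement, hαD x hx, hαD y hy]
    rw [h.comm_central_left (by rw [h.comm_fix_left hx]; exact map_one α), h.comm_fix_left hx, mul_one,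
      h.comm_central_right (by rw [h.comm_fix_right hy]; exact map_one α), h.comm_fix_right hy, mul_one]
  have hk0 : ∀ x ∈ h.dSub, e (dlt α x) = 0 → α x = x := fun x hx e0 => by
    have := h.e_inj _ hx e0
    rw [dlt] at this
    exact (inv_mul_eq_one.1 this).symm
  obtain ⟨k, hk⟩ := h.pairing h.dSub h.dSub (fun x => e (dlt α x)) (fun x => e (dlt α x))
    (fun x hx => by rw [mem_dSub, h.dlt_rho]; exact h.fix_rho hx)
    (fun x hx => by rw [mem_dSub, h.dlt_rho]; exact h.fix_rho hx)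
    (fun x hx y hy => by rw [h.dlt_mul hx, h.e_mul _ _ hx hy])
    (fun x hx y hy => by rw [h.dlt_mul hx, h.e_mul _ _ hx hy])
    (fun u => h.eD_surj hne u) (fun u => h.eD_surj hne u)
    (fun x hx => by rw [h.dlt_rho, h.e_rho _ hx]) (fun x hx => by rw [h.dlt_rho, h.e_rho _ hx])
    hfix (fun x hx y _ e0 => h.comm_fix_left (hk0 x hx e0) y)
    (fun x _ y hy e0 => h.comm_fix_right (hk0 y hy e0) x)
  obtain ⟨x1, hx1, hx1'⟩ := h.eD_surj hne 1
  have h1 := hk x1 hx1 x1 hx1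
  rw [commutatorElement_self, h.e_one, hx1'] at h1
  have hk00 : k = 0 := by linear_combination -h1
  have h2 := hk a ha b hb
  rw [hk00, zero_mul, zero_mul] at h2
  exact h.e_inj _ (hfix a ha b hb) (pow_eq_zero_iff two_ne_zero |>.1 h2)

theorem card_fix : Nat.card (fixSub α) = Nat.card F := by
  refine Nat.card_eq_of_bijective (fun x : fixSub α => e x) ⟨?_, ?_⟩
  · intro x y hxy
    exact Subtype.ext (h.e_eq x.2 y.2 hxy)
  · intro u
    obtain ⟨x, hx, hxu⟩ := h.e_surj u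
    exact ⟨⟨x, hx⟩, hxu⟩

/-- Passing to the quotient by the fixed points. -/
theorem quot (hne : ∃ x, α x ≠ x) :
    ∃ (Qb : Type u) (_ : Group Qb) (_ : Finite Qb) (p : Q →* Qb) (αb ρb : Qb ≃* Qb) (eb : Qb → F),
      Function.Surjective p ∧ (∀ x, p x = 1 ↔ α x = x) ∧ (∀ x, αb (p x) = p (α x)) ∧
      (∀ x, ρb (p x) = p (ρ x)) ∧ Hy αb ρb eb l ∧
      (∀ x, α (dlt α x) = dlt α x → eb (p x) = e (dlt α x)) ∧
      Nat.card Q = Nat.card Qb * Nat.card F := by
  classical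
  haveI : (fixSub α).Normal := ⟨fun c hc g => by rw [h.fix_central hc g, mul_inv_cancel_right]; exact hc⟩
  let p := QuotientGroup.mk' (fixSub α)
  have hp1 : ∀ x, p x = 1 ↔ α x = x := fun x => QuotientGroup.eq_one_iff x
  let αb : Q ⧸ fixSub α ≃* Q ⧸ fixSub α := QuotientGroup.congr _ _ α (Subgroup.eq_of_le_of_card_ge
    (by rintro _ ⟨v, hv, rfl⟩
        show α (α v) = α v
        rw [show α v = v from hv]; exact hv)
    (Subgroup.card_map_of_injective α.injective).ge)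
  let ρb : Q ⧸ fixSub α ≃* Q ⧸ fixSub α := QuotientGroup.congr _ _ ρ (Subgroup.eq_of_le_of_card_ge
    (by rintro _ ⟨v, hv, rfl⟩; exact h.fix_rho hv) (Subgroup.card_map_of_injective ρ.injective).ge)
  have hα : ∀ x, αb (p x) = p (α x) := fun x => rfl
  have hρ : ∀ x, ρb (p x) = p (ρ x) := fun x => rfl
  have hfixb : ∀ x, αb (p x) = p x → α (dlt α x) = dlt α x := fun x hx => by
    rw [hα] at hx
    exact (hp1 _).1 (by rw [dlt, map_mul, map_inv, hx, inv_mul_cancel])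
  obtain ⟨eb, heb⟩ : ∃ eb : Q ⧸ fixSub α → F, ∀ x, eb x = e (dlt α (Quotient.out x)) := ⟨_, fun x => rfl⟩
  have hval : ∀ x, eb (p x) = e (dlt α x) := fun x => by
    obtain ⟨⟨c, hc⟩, hc'⟩ := QuotientGroup.mk_out_eq_mul (fixSub α) x
    rw [heb]
    show e (dlt α (Quotient.out (x : Q ⧸ fixSub α))) = _
    rw [hc', h.dlt_mul_fix x hc]
  have hDb : ∀ x, α (dlt α x) = dlt α x → αb (p x) = p x := fun x hx => by
    rw [hα]
    have := (hp1 _).2 hx
    rw [dlt, map_mul, map_inv, inv_mul_eq_one] at this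
    exact this.symm
  have hS : Function.Surjective p := QuotientGroup.mk'_surjective _
  refine ⟨Q ⧸ fixSub α, inferInstance, inferInstance, p, αb, ρb, eb, hS, hp1, hα, hρ, ?_,
    fun x _ => hval x, ?_⟩
  · refine ⟨h.pg.to_quotient _, h.two, hS.forall.2 fun x => ?_, hS.forall.2 fun x => ?_,
      hS.forall₂.2 fun x y hx hy => ?_, hS.forall.2 fun x hx e0 => ?_, fun u => ?_, hS.forall.2 fun x hx => ?_,
      h.gen, h.big⟩
    · rw [hα, hα, h.invol]
    · rw [hρ, hα, hα, hρ, h.comm]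
    · rw [← map_mul, hval, hval, hval, h.dlt_mul (hfixb x hx), h.e_mul _ _ (hfixb x hx) (hfixb y hy)]
    · rw [hval] at e0
      have h1 := h.e_inj _ (hfixb x hx) e0
      rw [hp1]
      rw [dlt] at h1
      exact (inv_mul_eq_one.1 h1).symm
    · obtain ⟨x, hx, hxu⟩ := h.eD_surj hne u
      exact ⟨p x, hDb x hx, by rw [hval, hxu]⟩
    · rw [hρ, hval, hval, h.dlt_rho, h.e_rho _ (hfixb x hx)]
  · rw [← h.card_fix]
    exact Subgroup.card_eq_card_quotient_mul_card_subgroup _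

end Hy

end Cfsg.Lib.TwoFour.Singer
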