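import Cfsg.Agent.Lib.TwoFour.SingerCore

/-!
# The order of a 2-group with an involutive automorphism and a cycle on its fixed points
-/

set_option autoImplicit false
set_option linter.unusedSectionVars false

universe u

open scoped commutatorElement

namespace Cfsg.Lib.TwoFour.Singer

variable {Q : Type u} [Group Q] [Finite Q] {F : Type*} [Field F] {α ρ : Q ≃* Q} {e : Q → F} {l : F}

theorem dlt_eq_one {x : Q} : dlt α x = 1 ↔ α x = x := by
  rw [dlt, inv_mul_eq_one, eq_comm]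

theorem map_dlt {Qb : Type u} [Group Qb] (p : Q →* Qb) (αb : Qb ≃* Qb)
    (hα : ∀ x, αb (p x) = p (α x)) (x : Q) : dlt αb (p x) = p (dlt α x) := by
  rw [dlt, dlt, map_mul, map_inv, hα]

theorem alpha_eq (x : Q) : α x = x * dlt α x := by rw [dlt, mul_inv_cancel_left]

namespace Hy

variable (h : Hy α ρ e l)
include h

/-- The step when the quotient by the fixed points is abelian. -/
theorem step_abelian (hna : ∃ a b : Q, a * b ≠ b * a) {Qb : Type u} [Group Qb] [Finite Qb]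
    (p : Q →* Qb) {αb ρb : Qb ≃* Qb} {eb : Qb → F} (hS : Function.Surjective p)
    (hp1 : ∀ x, p x = 1 ↔ α x = x) (hα : ∀ x, αb (p x) = p (α x)) (hρ : ∀ x, ρb (p x) = p (ρ x))
    (hb : Hy αb ρb eb l) (hval : ∀ x, α (dlt α x) = dlt α x → eb (p x) = e (dlt α x))
    (hcard : Nat.card Q = Nat.card Qb * Nat.card F) (hab : ∀ a b : Qb, a * b = b * a) :
    Str α ρ e := by
  classical
  haveI : Fact (Nat.Prime 2) := ⟨Nat.prime_two⟩
  have hne : ∃ x, α x ≠ x := by
    by_contra hall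
    push Not at hall
    obtain ⟨a, b, hab'⟩ := hna
    exact hab' (h.fix_central (hall b) a)
  have hD : ∀ x, α (dlt α x) = dlt α x ↔ αb (p x) = p x := fun x => by
    rw [← hp1, ← map_dlt p αb hα, dlt_eq_one]
  have hcm : ∀ x y : Q, α ⁅x, y⁆ = ⁅x, y⁆ := fun x y => by
    rw [← hp1, map_commutatorElement, commutatorElement_eq_one_iff_mul_comm]
    exact hab _ _
  let dh : Qb →* Qb :=
    { toFun := dlt αb
      map_one' := by simp [dlt]
      map_mul' := fun a b => by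
        show dlt αb (a * b) = dlt αb a * dlt αb b
        rw [dlt, dlt, dlt, map_mul, mul_inv_rev]
        calc b⁻¹ * a⁻¹ * (αb a * αb b) = b⁻¹ * (a⁻¹ * αb a) * αb b := by group
          _ = a⁻¹ * αb a * b⁻¹ * αb b := by rw [hab b⁻¹ (a⁻¹ * αb a)]
          _ = _ := by group }
  have hdh : ∀ a, dh a = dlt αb a := fun a => rfl
  obtain ⟨N, hN⟩ := IsPGroup.iff_card.1 hb.pg
  have hex : ∃ k, ∀ a, dh a ^ (2 ^ k) = 1 := ⟨N, fun a => by rw [← hN]; exact pow_card_eq_one'⟩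
  have hk0 : Nat.find hex ≠ 0 := fun e0 => by
    have h1 := Nat.find_spec hex
    rw [e0] at h1
    obtain ⟨a, b, hab'⟩ := hna
    have hall : ∀ x, α (dlt α x) = dlt α x := fun x => by
      rw [hD, ← dlt_eq_one, ← hdh]
      simpa using h1 (p x)
    exact hab' (commutatorElement_eq_one_iff_mul_comm.1 (h.D_comm hne (hall a) (hall b)))
  obtain ⟨j, hj⟩ : ∃ j, Nat.find hex = j + 1 := ⟨Nat.find hex - 1, by omega⟩
  have hj1 : ∀ a, dh a ^ (2 ^ (j + 1)) = 1 := hj ▸ Nat.find_spec hex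
  have hj0 : ¬ ∀ a, dh a ^ (2 ^ j) = 1 := Nat.find_min hex (by omega)
  let g : Qb →* Qb :=
    { toFun := fun a => dh a ^ (2 ^ j)
      map_one' := by rw [map_one, one_pow]
      map_mul' := fun a b => by rw [map_mul, (show Commute (dh a) (dh b) from hab _ _).mul_pow] }
  have hg : ∀ a, g a = dlt αb a ^ (2 ^ j) := fun a => rfl
  have hgfix : ∀ a, αb (g a) = g a := fun a => by
    rw [hg, map_pow, hb.alpha_dlt, inv_pow, inv_eq_iff_mul_eq_one, ← pow_add, ← hdh, ← two_mul,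
      ← pow_succ']
    exact hj1 a
  have hgd : ∀ a, g (dlt αb a) = 1 := fun a => by
    rw [hg, hb.dlt_dlt, (Commute.refl _).mul_pow, ← pow_add, ← two_mul, ← pow_succ', inv_pow, inv_eq_one, ← hdh]
    exact hj1 a
  have hgone : ∀ a, αb a = a → g a = 1 := fun a ha => by
    rw [hg, dlt_eq_one.2 ha, one_pow]
  have hgρ : ∀ a, g (ρb a) = ρb (g a) := fun a => by rw [hg, hg, hb.dlt_rho, map_pow]
  have hgall : ∀ c, αb c = c → ∃ a, g a = c := by
    obtain ⟨a0, ha0⟩ := not_forall.1 hj0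
    exact fun c hc => hb.all_of_one (fun y => ∃ a, g a = y)
      (by rintro y - ⟨a, rfl⟩; exact ⟨ρb a, hgρ a⟩) ⟨1, map_one g⟩ (hgfix a0) ha0 ⟨a0, rfl⟩ hc
  have hker : ∀ a, g a = 1 → ∃ b, dlt αb b = a := by
    have hle : dh.range ≤ g.ker := by rintro _ ⟨b, rfl⟩; exact hgd b
    have h1 : Nat.card dh.ker = Nat.card g.range := by
      refine Nat.card_congr (Equiv.subtypeEquivRight fun a => ?_)
      show dlt αb a = 1 ↔ _
      rw [dlt_eq_one]
      exact ⟨fun ha => hgall a ha, by rintro ⟨b, rfl⟩; exact hgfix b⟩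
    have h2 := dh.ker.card_mul_index
    have h3 := g.ker.card_mul_index
    rw [Subgroup.index_ker] at h2 h3
    have h4 : Nat.card g.ker ≤ Nat.card dh.range := by
      refine Nat.le_of_mul_le_mul_right ?_ (Nat.card_pos (α := g.range))
      rw [h3, mul_comm, ← h1, h2]
    intro a ha
    have : a ∈ dh.range := by rw [Subgroup.eq_of_le_of_card_ge hle h4]; exact ha
    exact this
  -- the elements killed by `g` form an abelian group
  have hJ1 : ∀ x, g (p x) = 1 → ∀ y, ⁅dlt α y, x⁆ = 1 := by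
    intro x hx y
    obtain ⟨b, hb'⟩ := hker _ hx
    have hc : α (x * α x) = x * α x := (hp1 _).1 (by
      rw [map_mul, ← hα, ← hb', hb.alpha_dlt, mul_inv_cancel])
    exact h.comm_dlt hc (by rw [inv_mul_cancel_left]) (fun z => hcm z x)
  have hJ2 : ∀ x y, g (p x) = 1 → g (p y) = 1 → ⁅x, y⁆ = 1 := by
    intro x y hx hy
    obtain ⟨b, hb'⟩ := hker _ hx
    obtain ⟨b, rfl⟩ := hS b
    rw [map_dlt p αb hα] at hb'
    have hc : α ((dlt α b)⁻¹ * x) = (dlt α b)⁻¹ * x :=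
      (hp1 _).1 (by rw [map_mul, map_inv, hb', inv_mul_cancel])
    calc ⁅x, y⁆ = ⁅dlt α b * ((dlt α b)⁻¹ * x), y⁆ := by rw [mul_inv_cancel_left]
      _ = 1 := by rw [h.comm_central_left (hcm _ _), hJ1 y hy b, h.comm_fix_left hc, mul_one]
  have hDJ : ∀ x, α (dlt α x) = dlt α x → g (p x) = 1 := fun x hx => hgone _ ((hD x).1 hx)
  obtain ⟨π, hπ⟩ : ∃ π : Q → F, ∀ x, π x = eb (g (p x)) := ⟨_, fun x => rfl⟩
  have hπm : ∀ x y, π (x * y) = π x + π y := fun x y => by
    rw [hπ, hπ, hπ, map_mul, map_mul, hb.e_mul _ _ (hgfix _) (hgfix _)]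
  have hπs : ∀ u, ∃ x, π x = u := fun u => by
    obtain ⟨c, hc, hcu⟩ := hb.e_surj u
    obtain ⟨a, rfl⟩ := hgall c hc
    obtain ⟨x, rfl⟩ := hS a
    exact ⟨x, by rw [hπ, hcu]⟩
  have hπρ : ∀ x, π (ρ x) = l * π x := fun x => by
    rw [hπ, hπ, ← hρ, hgρ, hb.e_rho _ (hgfix _)]
  have hπ0 : ∀ x, π x = 0 → g (p x) = 1 := fun x hx => hb.e_inj _ (hgfix _) (hπ x ▸ hx)
  have hJnc : ¬ ∀ x : Q, g (p x) = 1 → ∀ y : Q, ⁅y, x⁆ = 1 := by
    intro hJc
    have hleft : ∀ x y : Q, π x = 0 → ⁅x, y⁆ = 1 := fun x y hx => by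
      rw [← commutatorElement_inv, hJc x (hπ0 x hx) y, inv_one]
    obtain ⟨k, hk⟩ := h.pairing ⊤ ⊤ π π (fun x _ => trivial) (fun x _ => trivial)
      (fun x _ y _ => hπm x y) (fun x _ y _ => hπm x y)
      (fun u => (hπs u).imp fun x hx => ⟨trivial, hx⟩) (fun u => (hπs u).imp fun x hx => ⟨trivial, hx⟩)
      (fun x _ => hπρ x) (fun x _ => hπρ x) (fun x _ y _ => hcm x y)
      (fun x _ y _ hx => hleft x y hx) (fun x _ y _ hy => hJc y (hπ0 y hy) x)
    obtain ⟨x1, hx1⟩ := hπs 1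
    have h1 := hk x1 trivial x1 trivial
    rw [commutatorElement_self, h.e_one, hx1] at h1
    have hk00 : k = 0 := by linear_combination -h1
    obtain ⟨a, b, hab'⟩ := hna
    have h2 := hk a trivial b trivial
    rw [hk00, zero_mul, zero_mul] at h2
    exact hab' (commutatorElement_eq_one_iff_mul_comm.1
      (h.e_inj _ (hcm a b) (pow_eq_zero_iff two_ne_zero |>.1 h2)))
  have hj00 : j = 0 := by
    by_contra hjne
    obtain ⟨i, rfl⟩ := Nat.exists_eq_succ_of_ne_zero hjne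
    have hsq : ∀ y w : Q, ⁅y, w * w⁆ = 1 := fun y w => by
      rw [h.comm_central_right (hcm _ _)]
      exact h.sq_fix (hcm _ _)
    have hDc : ∀ d : Q, α (dlt α d) = dlt α d → ∀ y : Q, ⁅y, d⁆ = 1 := by
      intro d hd y
      obtain ⟨a, ha⟩ := hgall _ ((hD d).1 hd)
      obtain ⟨w, hw⟩ := hS (dlt αb a ^ (2 ^ i))
      have hc : α ((w * w)⁻¹ * d) = (w * w)⁻¹ * d := (hp1 _).1 (by
        rw [map_mul, map_inv, map_mul, hw, ← ha, hg, pow_succ, mul_two, pow_add, inv_mul_cancel])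
      calc ⁅y, d⁆ = ⁅y, w * w * ((w * w)⁻¹ * d)⁆ := by rw [mul_inv_cancel_left]
        _ = 1 := by rw [h.comm_central_right (hcm _ _), hsq, h.comm_fix_right hc, mul_one]
    refine hJnc fun x hx y => ?_
    obtain ⟨b, hb'⟩ := hker _ hx
    obtain ⟨b, rfl⟩ := hS b
    rw [map_dlt p αb hα] at hb'
    have hd : α (dlt α (b * b * dlt α b)) = dlt α (b * b * dlt α b) := by
      rw [hD, map_mul, map_mul, ← map_dlt p αb hα, map_mul, map_mul, hb.alpha_dlt, alpha_eq (α := αb) (p b),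
        mul_assoc (p b * dlt αb (p b)) _ _, mul_inv_cancel_right,
        mul_assoc (p b) (dlt αb (p b)) (p b), hab (dlt αb (p b)) (p b), mul_assoc]
    have h1 := hDc _ hd y
    rw [h.comm_central_right (hcm _ _), hsq, one_mul] at h1
    have hc : α ((dlt α b)⁻¹ * x) = (dlt α b)⁻¹ * x :=
      (hp1 _).1 (by rw [map_mul, map_inv, hb', inv_mul_cancel])
    calc ⁅y, x⁆ = ⁅y, dlt α b * ((dlt α b)⁻¹ * x)⁆ := by rw [mul_inv_cancel_left]
      _ = 1 := by rw [h.comm_central_right (hcm _ _), h1, h.comm_fix_right hc, mul_one]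
  subst hj00
  have hg0 : ∀ x, g (p x) = p (dlt α x) := fun x => by rw [hg, pow_zero, pow_one, map_dlt p αb hα]
  have hdd : ∀ x, α (dlt α (dlt α x)) = dlt α (dlt α x) := fun x => by
    rw [hD, ← hg0]; exact hgfix _
  have hπe : ∀ x, π x = e (dlt α (dlt α x)) := fun x => by rw [hπ, hg0, hval _ (hdd x)]
  have hJD : ∀ x, g (p x) = 1 → α (dlt α x) = dlt α x := fun x hx => (hp1 _).1 (hg0 x ▸ hx)
  obtain ⟨k, hk⟩ := h.pairing ⊤ h.dSub π (fun d => e (dlt α d)) (fun x _ => trivial)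
    (fun x hx => by rw [mem_dSub, h.dlt_rho]; exact h.fix_rho hx)
    (fun x _ y _ => hπm x y) (fun x hx y hy => by rw [h.dlt_mul hx, h.e_mul _ _ hx hy])
    (fun u => (hπs u).imp fun x hx => ⟨trivial, hx⟩) (fun u => h.eD_surj hne u)
    (fun x _ => hπρ x) (fun x hx => by rw [h.dlt_rho, h.e_rho _ hx]) (fun x _ y _ => hcm x y)
    (fun x _ y hy hx => hJ2 x y (hπ0 x hx) (hDJ y hy))
    (fun x _ y hy e0 => h.comm_fix_right (dlt_eq_one.1 (h.e_inj _ hy e0)) x)
  have hk' : k ≠ 0 := fun e0 => hJnc fun x hx y => by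
    have h2 := hk y trivial x (hJD x hx)
    rw [e0, zero_mul, zero_mul] at h2
    exact h.e_inj _ (hcm _ _) (pow_eq_zero_iff two_ne_zero |>.1 h2)
  refine ⟨?_, hdd, fun x y => by rw [← hπe, ← hπe, ← hπe, hπm], fun u => ?_, fun x => ?_,
    fun d hd => ?_, k, hk', fun x d hd => by rw [hk x trivial d hd, hπe]⟩
  · have h1 := g.ker.card_mul_index
    rw [Subgroup.index_ker] at h1
    have h2 : g.range = fixSub αb := le_antisymm (by rintro _ ⟨a, rfl⟩; exact hgfix a) fun c hc => hgall c hc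
    have h3 : g.ker = fixSub αb := by
      refine le_antisymm (fun a ha => ?_) fun a ha => hgone a ha
      have : dlt αb a ^ (2 ^ 0) = 1 := ha
      rw [pow_zero, pow_one] at this
      exact dlt_eq_one.1 this
    rw [h2, h3, hb.card_fix] at h1
    rw [hcard, ← h1]; ring
  · exact (hπs u).imp fun x hx => (hπe x).symm.trans hx
  · have hfixb : αb (p (x * x)) = p (x * x) := by
      have h1 : dlt αb (p x) * dlt αb (p x) = 1 := by
        have := hj1 (p x)
        rwa [zero_add, pow_one, pow_two, hdh] at this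
      rw [map_mul, map_mul, alpha_eq (α := αb) (p x)]
      calc p x * dlt αb (p x) * (p x * dlt αb (p x))
          = p x * p x * (dlt αb (p x) * dlt αb (p x)) := by
            rw [mul_assoc, ← mul_assoc (dlt αb (p x)), hab (dlt αb (p x)) (p x)]; group
        _ = p x * p x := by rw [h1, mul_one]
    have hd : α (dlt α (x * x)) = dlt α (x * x) := (hD _).2 hfixb
    refine dlt_eq_one.1 ?_
    by_cases hx : π x = 0
    · have hxD := hJD x (hπ0 x hx)
      rw [h.dlt_mul hxD]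
      exact h.sq_fix hxD
    · refine h.e_inj _ hd ?_
      have h1 := hk x trivial (x * x) hd
      rw [commutatorElement_eq_one_iff_mul_comm.2 (mul_assoc x x x).symm, h.e_one, zero_pow two_ne_zero] at h1
      exact (mul_eq_zero.1 h1.symm).resolve_left (mul_ne_zero hk' hx)
  · obtain ⟨a, ha⟩ := hgall _ ((hD d).1 hd)
    obtain ⟨y, rfl⟩ := hS a
    rw [hg0] at ha
    have hc : α ((dlt α y)⁻¹ * d) = (dlt α y)⁻¹ * d :=
      (hp1 _).1 (by rw [map_mul, map_inv, ha, inv_mul_cancel])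
    obtain ⟨c, hc0⟩ : ∃ c, c = (dlt α y)⁻¹ * d := ⟨_, rfl⟩
    rw [← hc0] at hc
    obtain rfl : d = dlt α y * c := by rw [hc0, mul_inv_cancel_left]
    rw [map_mul, h.alpha_dlt, hc, mul_inv_rev, h.inv_fix hc, h.fix_central hc]

/-- The step when the quotient by the fixed points is not abelian cannot occur. -/
theorem step_nonabelian {Qb : Type u} [Group Qb] [Finite Qb]
    (p : Q →* Qb) {αb ρb : Qb ≃* Qb} {eb : Qb → F} (hS : Function.Surjective p)
    (hp1 : ∀ x, p x = 1 ↔ α x = x) (hα : ∀ x, αb (p x) = p (α x)) (hρ : ∀ x, ρb (p x) = p (ρ x))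
    (hb : Hy αb ρb eb l) (hval : ∀ x, α (dlt α x) = dlt α x → eb (p x) = e (dlt α x))
    (hne : ∃ x, α x ≠ x) (S : Str αb ρb eb) : False := by
  have hD : ∀ x, α (dlt α x) = dlt α x ↔ αb (p x) = p x := fun x => by
    rw [← hp1, ← map_dlt p αb hα, dlt_eq_one]
  have hcb : ∀ a b : Qb, αb ⁅a, b⁆ = ⁅a, b⁆ := fun a b => by
    have e1 : ⁅a, b⁆ = a * a * ((a⁻¹ * b) * (a⁻¹ * b)) * (b⁻¹ * b⁻¹) := by
      rw [commutatorElement_def]; group
    rw [e1, map_mul, map_mul, S.sq, S.sq, S.sq]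
  obtain ⟨π, hπ⟩ : ∃ π : Q → F, ∀ x, π x = eb (dlt αb (dlt αb (p x))) := ⟨_, fun x => rfl⟩
  have hπs : ∀ u, ∃ x, π x = u := fun u => by
    obtain ⟨a, ha⟩ := S.pi_surj u
    obtain ⟨x, rfl⟩ := hS a
    exact ⟨x, by rw [hπ, ha]⟩
  have hDinv : ∀ d, α (dlt α d) = dlt α d → α d = d⁻¹ := by
    intro d hd
    obtain ⟨y, hy⟩ := hπs (eb (p d))
    rw [hπ, map_dlt p αb hα, map_dlt p αb hα] at hy
    have hy' := hb.e_eq (by rw [← map_dlt p αb hα, ← map_dlt p αb hα]; exact S.dd _) ((hD d).1 hd) hy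
    obtain ⟨c, hc0⟩ : ∃ c, c = (dlt α (dlt α y))⁻¹ * d := ⟨_, rfl⟩
    have hc : α c = c := (hp1 _).1 (by rw [hc0, map_mul, map_inv, hy', inv_mul_cancel])
    obtain rfl : d = dlt α (dlt α y) * c := by rw [hc0, mul_inv_cancel_left]
    rw [map_mul, h.alpha_dlt, hc, mul_inv_rev, h.inv_fix hc, h.fix_central hc]
  have hDcm : ∀ x d, α (dlt α d) = dlt α d → α ⁅x, d⁆ = ⁅x, d⁆ := fun x d hd => by
    rw [← hp1, map_commutatorElement]
    exact hb.comm_fix_right ((hD d).1 hd) _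
  have hK : ∀ y d, α (dlt α d) = dlt α d → ⁅dlt α y, d⁆ = 1 := fun y d hd =>
    h.comm_dlt (c := 1) (map_one α) (by rw [mul_one]; exact hDinv d hd) (fun x => hDcm x d hd)
  obtain ⟨a, ha⟩ : ∃ a, ∀ x ∈ (⊤ : Subgroup Q), ∀ d ∈ h.dSub, e ⁅x, d⁆ ^ 2 = a * π x * e (dlt α d) := by
    refine h.pairing ⊤ h.dSub π (fun d => e (dlt α d)) (fun x _ => trivial)
      (fun x hx => by rw [mem_dSub, h.dlt_rho]; exact h.fix_rho hx)
      (fun x _ y _ => by rw [hπ, hπ, hπ, map_mul, S.pi_mul])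
      (fun x hx y hy => by rw [h.dlt_mul hx, h.e_mul _ _ hx hy])
      (fun u => (hπs u).imp fun x hx => ⟨trivial, hx⟩) (fun u => h.eD_surj hne u)
      (fun x _ => by rw [hπ, hπ, ← hρ, hb.dlt_rho, hb.dlt_rho, hb.e_rho _ (S.dd _)])
      (fun x hx => by rw [h.dlt_rho, h.e_rho _ hx]) (fun x _ y hy => hDcm x y hy) ?_
      (fun x _ y hy e0 => h.comm_fix_right (dlt_eq_one.1 (h.e_inj _ hy e0)) x)
    intro x _ d hd hx
    have h1 : αb (dlt αb (p x)) = dlt αb (p x) :=
      dlt_eq_one.1 (hb.e_inj _ (S.dd _) (hπ x ▸ hx))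
    obtain ⟨y, hy⟩ := hπs (eb (dlt αb (p x)))
    rw [hπ] at hy
    have hy' := hb.e_eq (S.dd _) h1 hy
    rw [map_dlt p αb hα y] at hy'
    have hw : α (dlt α ((dlt α y)⁻¹ * x)) = dlt α ((dlt α y)⁻¹ * x) := by
      rw [hD, ← dlt_eq_one]
      have h2 := hb.dlt_mul (x := p (dlt α y)) (hy'.symm ▸ h1) (p ((dlt α y)⁻¹ * x))
      rw [← map_mul, mul_inv_cancel_left, hy'] at h2
      exact mul_left_cancel (a := dlt αb (p x)) (h2.symm.trans (mul_one _).symm)
    calc ⁅x, d⁆ = ⁅dlt α y * ((dlt α y)⁻¹ * x), d⁆ := by rw [mul_inv_cancel_left]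
      _ = 1 := by rw [h.comm_central_left (hDcm _ d hd), hK y d hd, h.D_comm hne hw hd, mul_one]
  obtain ⟨k, hk, hkp⟩ := S.pair
  obtain ⟨x, hx⟩ := hπs 1
  have key : ∀ v : F, v ≠ 0 → k * v = a ^ 2 := by
    intro v hv
    obtain ⟨y, hy⟩ := hπs v
    obtain ⟨d, hd0⟩ : ∃ d, d = ⁅dlt α y, x⁆ := ⟨_, rfl⟩
    have hd : α (dlt α d) = dlt α d := by
      rw [hD, hd0, map_commutatorElement]; exact hcb _ _
    have hxx : α (dlt α (x * x)) = dlt α (x * x) := by rw [hD, map_mul]; exact S.sq _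
    have hcd : ⁅x, d⁆ = dlt α d := by
      have h1 := hK y _ hxx
      have e1 : ⁅dlt α y, x * x⁆ = d * (⁅x, d⁆ * d) := by
        rw [hd0]; simp only [commutatorElement_def]; group
      rw [e1, ← mul_assoc, h.fix_central (hDcm x d hd) d, mul_assoc] at h1
      rw [eq_inv_of_mul_eq_one_left h1, dlt, hDinv d hd, mul_inv_rev]
    have h1 := ha x trivial d hd
    rw [hcd, hx, mul_one] at h1
    have h2 := hkp (p x) (p (dlt α y)) (by rw [← map_dlt p αb hα]; exact S.dd _)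
    have hsw : eb ⁅p x, p (dlt α y)⁆ = eb (p d) := by
      rw [← commutatorElement_inv, hb.e_inv (hcb _ _), hd0, map_commutatorElement]
    rw [hsw, hval d hd, ← hπ x, hx, mul_one, ← map_dlt p αb hα, ← hπ, hy] at h2
    have hw0 : e (dlt α d) ≠ 0 := fun e0 => by
      rw [e0, zero_pow two_ne_zero] at h2
      exact mul_ne_zero hk hv h2.symm
    have hwa : e (dlt α d) = a := mul_right_cancel₀ hw0 (by rw [← h1, pow_two])
    rw [← h2, hwa]
  obtain ⟨t, ht0, ht1⟩ := h.big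
  exact ht1 (mul_left_cancel₀ hk ((key t ht0).trans (key 1 one_ne_zero).symm))

end Hy

/-- A non-abelian group in the situation has order `|F| ^ 3`. -/
theorem Hy.structure_theorem {F : Type*} [Field F] {l : F} : ∀ (N : ℕ) {Q : Type u} [Group Q] [Finite Q]
    {α ρ : Q ≃* Q} {e : Q → F}, Nat.card Q = N → Hy α ρ e l → (∃ a b : Q, a * b ≠ b * a) → Str α ρ e := by
  intro N
  induction N using Nat.strong_induction_on with
  | _ N ih =>
    intro Q _ _ α ρ e hN h hna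
    have hne : ∃ x, α x ≠ x := by
      by_contra hall
      push Not at hall
      obtain ⟨a, b, hab'⟩ := hna
      exact hab' (h.fix_central (hall b) a)
    obtain ⟨Qb, _, _, p, αb, ρb, eb, hS, hp1, hα, hρ, hb, hval, hcard⟩ := h.quot hne
    by_cases hab : ∀ a b : Qb, a * b = b * a
    · exact h.step_abelian hna p hS hp1 hα hρ hb hval hcard hab
    · push Not at hab
      have hlt : Nat.card Qb < N := by
        haveI : Finite F := Finite.of_surjective (fun q : Q => e q) fun u => (h.e_surj u).imp fun _ hx => hx.2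
        rw [← hN, hcard]
        exact lt_mul_of_one_lt_right Nat.card_pos Finite.one_lt_card
      exact (h.step_nonabelian p hS hp1 hα hρ hb hval hne (ih _ hlt rfl hb hab)).elim

end Cfsg.Lib.TwoFour.Singer
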