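import Cfsg.Agent.Lib.TwoFour.SingerMain

/-!
# Coordinates for a 2-group with an involutive automorphism and a cycle on its fixed points

The squaring map is a binary quadratic form over the field; two such groups with the same form are
isomorphic.
-/

set_option autoImplicit false
set_option linter.unusedSectionVars false
set_option linter.style.haveILetI false

open scoped commutatorElement

namespace Cfsg.Lib.TwoFour.Singer

/-- A group with a central elementary abelian kernel: coordinates on kernel and quotient. -/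
structure SqData (G : Type*) [Group G] (V W : Type*) [AddCommGroup V] [AddCommGroup W] where
  /-- the quotient map -/
  p : G → V
  /-- coordinates on the kernel -/
  E : G → W
  p_mul : ∀ g g', p (g * g') = p g + p g'
  p_surj : ∀ v, ∃ g, p g = v
  central : ∀ g g', p g = 0 → g' * g = g * g'
  E_mul : ∀ g g', p g = 0 → p g' = 0 → E (g * g') = E g + E g'
  E_inj : ∀ g, p g = 0 → E g = 0 → g = 1
  E_surj : ∀ w, ∃ g, p g = 0 ∧ E g = w

/-- Two such groups are isomorphic, compatibly with the coordinates, if corresponding elements have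
corresponding squares. -/
theorem SqData.exists_mulEquiv {G H V W : Type*} [Group G] [Group H] [AddCommGroup V] [AddCommGroup W]
    (hV : ∀ v : V, v + v = 0) (c : SqData G V W) (c' : SqData H V W)
    (hsq : ∀ g g', c.p g = c'.p g' → c.E (g * g) = c'.E (g' * g')) :
    ∃ f : G ≃* H, (∀ g, c'.p (f g) = c.p g) ∧ ∀ g, c.p g = 0 → c'.E (f g) = c.E g := by
  classical
  have p1 : c.p 1 = 0 := by simpa using c.p_mul 1 1
  have p1' : c'.p 1 = 0 := by simpa using c'.p_mul 1 1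
  have E1 : c.E 1 = 0 := by simpa using c.E_mul 1 1 p1 p1
  have E1' : c'.E 1 = 0 := by simpa using c'.E_mul 1 1 p1' p1'
  have pinv : ∀ g, c.p g⁻¹ = -c.p g := fun g =>
    eq_neg_of_add_eq_zero_left (by rw [← c.p_mul, inv_mul_cancel, p1])
  have pinv' : ∀ g, c'.p g⁻¹ = -c'.p g := fun g =>
    eq_neg_of_add_eq_zero_left (by rw [← c'.p_mul, inv_mul_cancel, p1'])
  have Einv : ∀ g, c.p g = 0 → c.E g⁻¹ = -c.E g := fun g hg =>
    eq_neg_of_add_eq_zero_left (by rw [← c.E_mul _ _ (by rw [pinv, hg, neg_zero]) hg, inv_mul_cancel, E1])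
  have Einv' : ∀ g, c'.p g = 0 → c'.E g⁻¹ = -c'.E g := fun g hg =>
    eq_neg_of_add_eq_zero_left (by rw [← c'.E_mul _ _ (by rw [pinv', hg, neg_zero]) hg, inv_mul_cancel, E1'])
  let X : Subgroup (G × H) :=
    { carrier := {z | c.p z.1 = c'.p z.2}
      one_mem' := p1.trans p1'.symm
      mul_mem' := fun {a b} (ha : c.p a.1 = c'.p a.2) (hb : c.p b.1 = c'.p b.2) => by
        show c.p (a.1 * b.1) = c'.p (a.2 * b.2)
        rw [c.p_mul, c'.p_mul, ha, hb]
      inv_mem' := fun {a} (ha : c.p a.1 = c'.p a.2) => by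
        show c.p a.1⁻¹ = c'.p a.2⁻¹
        rw [pinv, pinv', ha] }
  let N : Subgroup X :=
    { carrier := {z | c.p (z : G × H).1 = 0 ∧ c.E (z : G × H).1 = c'.E (z : G × H).2}
      one_mem' := ⟨p1, E1.trans E1'.symm⟩
      mul_mem' := fun {a b} ha hb => by
        have hb0 : c'.p (b : G × H).2 = 0 := by rw [← b.2, hb.1]
        have ha0 : c'.p (a : G × H).2 = 0 := by rw [← a.2, ha.1]
        refine ⟨?_, ?_⟩
        · show c.p ((a : G × H).1 * (b : G × H).1) = 0
          rw [c.p_mul, ha.1, hb.1, add_zero]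
        · show c.E ((a : G × H).1 * (b : G × H).1) = c'.E ((a : G × H).2 * (b : G × H).2)
          rw [c.E_mul _ _ ha.1 hb.1, c'.E_mul _ _ ha0 hb0, ha.2, hb.2]
      inv_mem' := fun {a} ha => by
        have ha0 : c'.p (a : G × H).2 = 0 := by rw [← a.2, ha.1]
        refine ⟨?_, ?_⟩
        · show c.p (a : G × H).1⁻¹ = 0
          rw [pinv, ha.1, neg_zero]
        · show c.E (a : G × H).1⁻¹ = c'.E (a : G × H).2⁻¹
          rw [Einv _ ha.1, Einv' _ ha0, ha.2] }
  haveI : N.Normal := ⟨fun n hn g => by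
    have h2 : c'.p (n : G × H).2 = 0 := by rw [← n.2, hn.1]
    have e1 : g * n * g⁻¹ = n := Subtype.ext (Prod.ext
      (show (g : G × H).1 * (n : G × H).1 * (g : G × H).1⁻¹ = _ by
        rw [c.central _ _ hn.1, mul_inv_cancel_right])
      (show (g : G × H).2 * (n : G × H).2 * (g : G × H).2⁻¹ = _ by
        rw [c'.central _ _ h2, mul_inv_cancel_right]))
    rw [e1]; exact hn⟩
  have hsq2 : ∀ a : X ⧸ N, a * a = 1 := fun a => by
    obtain ⟨z, rfl⟩ := QuotientGroup.mk_surjective a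
    refine (QuotientGroup.eq_one_iff (N := N) (z * z)).2 ⟨?_, hsq _ _ z.2⟩
    show c.p ((z : G × H).1 * (z : G × H).1) = 0
    rw [c.p_mul, hV]
  letI : CommGroup (X ⧸ N) :=
    { (inferInstance : Group (X ⧸ N)) with
      mul_comm := fun a b => by
        have i : ∀ a : X ⧸ N, a⁻¹ = a := fun a => inv_eq_of_mul_eq_one_right (hsq2 a)
        calc a * b = (a * b)⁻¹ := (i _).symm
          _ = b * a := by rw [mul_inv_rev, i, i] }
  letI : Module (ZMod 2) (Additive (X ⧸ N)) := AddCommGroup.zmodModule fun x => by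
    rw [two_nsmul]; exact hsq2 (Additive.toMul x)
  have hW : ∀ w : W, w + w = 0 := fun w => by
    obtain ⟨g, hg, rfl⟩ := c.E_surj w
    have := hsq g 1 (by rw [hg, p1'])
    rw [mul_one, E1', c.E_mul _ _ hg hg] at this
    exact this
  letI : Module (ZMod 2) W := AddCommGroup.zmodModule fun x => by rw [two_nsmul]; exact hW x
  choose sec hsec hsecE using c.E_surj
  have hclass : ∀ g (hg : c.p g = 0),
      ((⟨(g, 1), hg.trans p1'.symm⟩ : X) : X ⧸ N) = ((⟨(sec (c.E g), 1), (hsec _).trans p1'.symm⟩ : X) : X ⧸ N) := by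
    intro g hg
    refine QuotientGroup.eq.2 ⟨?_, ?_⟩
    · show c.p (g⁻¹ * sec (c.E g)) = 0
      rw [c.p_mul, pinv, hg, hsec, neg_zero, add_zero]
    · show c.E (g⁻¹ * sec (c.E g)) = c'.E (1⁻¹ * 1)
      rw [c.E_mul _ _ (by rw [pinv, hg, neg_zero]) (hsec _), Einv _ hg, hsecE, inv_one, mul_one, E1',
        neg_add_cancel]
  let ι : W →+ Additive (X ⧸ N) :=
    AddMonoidHom.mk' (fun w => Additive.ofMul ((⟨(sec w, 1), (hsec w).trans p1'.symm⟩ : X) : X ⧸ N))
      fun a b => by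
        refine congrArg Additive.ofMul ?_
        have h0 : c.p (sec a * sec b) = 0 := by rw [c.p_mul, hsec, hsec, add_zero]
        have h1 := hclass _ h0
        rw [c.E_mul _ _ (hsec _) (hsec _), hsecE, hsecE] at h1
        rw [← h1]
        show QuotientGroup.mk (s := N) _ = QuotientGroup.mk (s := N)
          ((⟨(sec a, 1), (hsec a).trans p1'.symm⟩ : X) * (⟨(sec b, 1), (hsec b).trans p1'.symm⟩ : X))
        exact congrArg (QuotientGroup.mk (s := N)) (Subtype.ext (Prod.ext rfl (mul_one 1).symm))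
  have hinj : LinearMap.ker (ι.toZModLinearMap 2) = ⊥ := by
    rw [LinearMap.ker_eq_bot']
    intro w hw
    have h1 : ((⟨(sec w, 1), (hsec w).trans p1'.symm⟩ : X) : X ⧸ N) = 1 := congrArg Additive.toMul hw
    have h2 := ((QuotientGroup.eq_one_iff (N := N) _).1 h1).2
    exact (hsecE w).symm.trans (h2.trans E1')
  obtain ⟨L, hL⟩ := LinearMap.exists_leftInverse_of_injective (ι.toZModLinearMap 2) hinj
  have hLι : ∀ w, L (ι w) = w := fun w => LinearMap.congr_fun hL w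
  obtain ⟨ψ, hψ⟩ : ∃ ψ : X → W, ∀ z : X, ψ z = L (Additive.ofMul (z : X ⧸ N)) := ⟨_, fun z => rfl⟩
  have ψm : ∀ z z', ψ (z * z') = ψ z + ψ z' := fun z z' => by
    rw [hψ, hψ, hψ, QuotientGroup.mk_mul, ofMul_mul, map_add]
  have ψ1 : ∀ g (hg : c.p g = 0), ψ ⟨(g, 1), hg.trans p1'.symm⟩ = c.E g := fun g hg => by
    rw [hψ, hclass g hg]; exact hLι _
  have ψ2 : ∀ g (hg : c'.p g = 0), ψ ⟨(1, g), p1.trans hg.symm⟩ = c'.E g := fun g hg => by
    have e1 : ((⟨(1, g), p1.trans hg.symm⟩ : X) : X ⧸ N) =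
        ((⟨(sec (c'.E g), 1), (hsec _).trans p1'.symm⟩ : X) : X ⧸ N) := by
      refine ((QuotientGroup.eq (s := N)).2 ⟨?_, ?_⟩).symm
      · show c.p ((sec (c'.E g))⁻¹ * 1) = 0
        rw [mul_one, pinv, hsec, neg_zero]
      · show c.E ((sec (c'.E g))⁻¹ * 1) = c'.E ((1 : H)⁻¹ * g)
        rw [mul_one, Einv _ (hsec _), hsecE, inv_one, one_mul]
        exact neg_eq_of_add_eq_zero_left (hW _)
    rw [hψ, e1]; exact hLι _
  -- the subgroup on which `ψ` vanishes is the graph of an isomorphism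
  have hex : ∀ g, ∃ z : X, (z : G × H).1 = g ∧ ψ z = 0 := fun g => by
    obtain ⟨h0, hh0⟩ := c'.p_surj (c.p g)
    obtain ⟨d, hd, hd'⟩ := c'.E_surj (ψ ⟨(g, h0), hh0.symm⟩)
    refine ⟨⟨(g, h0), hh0.symm⟩ * ⟨(1, d), p1.trans hd.symm⟩, mul_one g, ?_⟩
    rw [ψm, ψ2 d hd, hd', hW]
  have hex' : ∀ k, ∃ z : X, (z : G × H).2 = k ∧ ψ z = 0 := fun k => by
    obtain ⟨g0, hg0⟩ := c.p_surj (c'.p k)
    obtain ⟨d, hd, hd'⟩ := c.E_surj (ψ ⟨(g0, k), hg0⟩)
    refine ⟨⟨(g0, k), hg0⟩ * ⟨(d, 1), hd.trans p1'.symm⟩, mul_one k, ?_⟩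
    rw [ψm, ψ1 d hd, hd', hW]
  have ψone : ψ 1 = 0 := by simpa using ψm 1 1
  have ψinv : ∀ z, ψ z⁻¹ = -ψ z := fun z =>
    eq_neg_of_add_eq_zero_left (by rw [← ψm, inv_mul_cancel, ψone])
  have huniq : ∀ z z' : X, ψ z = 0 → ψ z' = 0 → (z : G × H).1 = (z' : G × H).1 → z = z' := by
    intro z z' hz hz' e1
    have hu : ψ (z⁻¹ * z') = 0 := by rw [ψm, ψinv, hz, hz', neg_zero, add_zero]
    have h1 : ((z⁻¹ * z' : X) : G × H).1 = 1 := by
      show (z : G × H).1⁻¹ * (z' : G × H).1 = 1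
      rw [e1, inv_mul_cancel]
    obtain ⟨⟨w1, w2⟩, hw⟩ : ∃ w, w = (z⁻¹ * z') := ⟨_, rfl⟩
    obtain ⟨a, b⟩ := w1
    rw [← hw] at hu h1
    subst h1
    have hb : c'.p b = 0 := w2.symm.trans p1
    rw [ψ2 b hb] at hu
    have hb1 : b = 1 := c'.E_inj b hb hu
    subst hb1
    exact inv_mul_eq_one.1 (hw.symm.trans rfl)
  have huniq' : ∀ z z' : X, ψ z = 0 → ψ z' = 0 → (z : G × H).2 = (z' : G × H).2 → z = z' := by
    intro z z' hz hz' e1
    have hu : ψ (z⁻¹ * z') = 0 := by rw [ψm, ψinv, hz, hz', neg_zero, add_zero]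
    have h1 : ((z⁻¹ * z' : X) : G × H).2 = 1 := by
      show (z : G × H).2⁻¹ * (z' : G × H).2 = 1
      rw [e1, inv_mul_cancel]
    obtain ⟨⟨w1, w2⟩, hw⟩ : ∃ w, w = (z⁻¹ * z') := ⟨_, rfl⟩
    obtain ⟨a, b⟩ := w1
    rw [← hw] at hu h1
    subst h1
    have ha : c.p a = 0 := w2.trans p1'
    rw [ψ1 a ha] at hu
    have ha1 : a = 1 := c.E_inj a ha hu
    subst ha1
    exact inv_mul_eq_one.1 (hw.symm.trans rfl)
  choose f hf1 hf0 using hex
  refine ⟨MulEquiv.ofBijective (MonoidHom.mk' (fun g => ((f g : X) : G × H).2) fun a b => ?_) ⟨?_, ?_⟩,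
    fun g => ?_, fun g hg => ?_⟩
  · rw [huniq (f (a * b)) (f a * f b) (hf0 _) (by rw [ψm, hf0, hf0, add_zero])
      (by rw [hf1]; show _ = ((f a : X) : G × H).1 * ((f b : X) : G × H).1; rw [hf1, hf1])]
    rfl
  · intro a b hab
    have := huniq' _ _ (hf0 a) (hf0 b) hab
    rw [← hf1 a, ← hf1 b, this]
  · intro k
    obtain ⟨z, hz, hz0⟩ := hex' k
    exact ⟨(z : G × H).1, by
      show ((f _ : X) : G × H).2 = k
      rw [huniq _ _ (hf0 _) hz0 (hf1 _), hz]⟩
  · show c'.p ((f g : X) : G × H).2 = _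
    rw [← (f g).2, hf1]
  · obtain ⟨b, hb⟩ : ∃ b, b = ((f g : X) : G × H).2 := ⟨_, rfl⟩
    have hb0 : c'.p b = 0 := by rw [hb, ← (f g).2, hf1, hg]
    show c'.E ((f g : X) : G × H).2 = _
    rw [← hb]
    have e1 : f g = (⟨(g, 1), hg.trans p1'.symm⟩ : X) * ⟨(1, b), p1.trans hb0.symm⟩ :=
      Subtype.ext (Prod.ext ((hf1 g).trans (mul_one g).symm) (hb.symm.trans (one_mul b).symm))
    have h0 := hf0 g
    rw [e1, ψm, ψ1 g hg, ψ2 b hb0] at h0
    calc c'.E b = (c.E g + c.E g) + c'.E b := by rw [hW, zero_add]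
      _ = c.E g := by rw [add_assoc, h0, add_zero]

/-- Two such groups are isomorphic if corresponding elements have corresponding squares. -/
theorem SqData.nonempty_mulEquiv {G H V W : Type*} [Group G] [Group H] [AddCommGroup V] [AddCommGroup W]
    (hV : ∀ v : V, v + v = 0) (c : SqData G V W) (c' : SqData H V W)
    (hsq : ∀ g g', c.p g = c'.p g' → c.E (g * g) = c'.E (g' * g')) : Nonempty (G ≃* H) :=
  ⟨(c.exists_mulEquiv hV c' hsq).choose⟩

variable {Q : Type*} [Group Q] [Finite Q] {F : Type*} [Field F] [Finite F] {α ρ : Q ≃* Q} {e : Q → F} {l : F}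

/-- The squaring map as a quadratic form, normalised. -/
theorem Hy.exists_form (h : Hy α ρ e l) (S : Str α ρ e) {N : ℕ} (hN : N % 2 = 1) (hl : l ^ N = 1)
    (hρN : ∀ x, ρ^[N] x = x) :
    ∃ (ε : F) (c : SqData Q (F × F) F),
      ∀ x, c.E (x * x) = ε * (c.p x).1 ^ 2 + (c.p x).1 * (c.p x).2 + (c.p x).2 ^ 2 := by
  classical
  haveI : Fact (Nat.Prime 2) := ⟨Nat.prime_two⟩
  obtain ⟨x0, hx0⟩ := S.pi_surj 1
  have hne : ∃ x, α x ≠ x := by
    refine ⟨x0, fun e1 => one_ne_zero (α := F) ?_⟩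
    rw [← hx0, show dlt α x0 = 1 from dlt_eq_one.2 e1, show dlt α (1 : Q) = 1 by simp [dlt], h.e_one]
  have hcm : ∀ a b : Q, α ⁅a, b⁆ = ⁅a, b⁆ := fun a b => by
    have e1 : ⁅a, b⁆ = a * a * ((a⁻¹ * b) * (a⁻¹ * b)) * (b⁻¹ * b⁻¹) := by
      rw [commutatorElement_def]; group
    rw [e1, map_mul, map_mul, S.sq, S.sq, S.sq]
  obtain ⟨Qb, _, _, p, αb, ρb, eb, hS, hp1, hα, hρ, hb, hval, -⟩ := h.quot hne
  have hsqb : ∀ a : Qb, a * a = 1 := fun a => by
    obtain ⟨x, rfl⟩ := hS a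
    rw [← map_mul, hp1]; exact S.sq x
  letI : CommGroup Qb :=
    { (inferInstance : Group Qb) with
      mul_comm := fun a b => by
        have i : ∀ a : Qb, a⁻¹ = a := fun a => inv_eq_of_mul_eq_one_right (hsqb a)
        calc a * b = (a * b)⁻¹ := (i _).symm
          _ = b * a := by rw [mul_inv_rev, i, i] }
  letI : Module (ZMod 2) (Additive Qb) := AddCommGroup.zmodModule fun x => by
    rw [two_nsmul]; exact hsqb (Additive.toMul x)
  letI : Module (ZMod 2) F := AddCommGroup.zmodModule fun x => by rw [two_nsmul]; exact h.add_self x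
  let A : Submodule (ZMod 2) (Additive Qb) :=
    AddSubgroup.toZModSubmodule 2 (fixSub αb).toAddSubgroup
  have hA : ∀ x : Additive Qb, x ∈ A ↔ αb (Additive.toMul x) = Additive.toMul x := fun x => Iff.rfl
  let ebA : A →+ F := AddMonoidHom.mk' (fun x => eb (Additive.toMul (x : Additive Qb))) fun x y =>
    hb.e_mul _ _ ((hA _).1 x.2) ((hA _).1 y.2)
  obtain ⟨R0, hR0⟩ := LinearMap.exists_extend (ebA.toZModLinearMap 2)
  obtain ⟨r0, hr0⟩ : ∃ r0 : Q → F, ∀ x, r0 x = R0 (Additive.ofMul (p x)) := ⟨_, fun x => rfl⟩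
  have r0m : ∀ x y, r0 (x * y) = r0 x + r0 y := fun x y => by
    rw [hr0, hr0, hr0, map_mul, ofMul_mul, map_add]
  have r0D : ∀ x, α (dlt α x) = dlt α x → r0 x = e (dlt α x) := fun x hx => by
    have hm : αb (p x) = p x := by
      rwa [← dlt_eq_one, map_dlt p αb hα, hp1]
    have h1 := LinearMap.congr_fun hR0 ⟨Additive.ofMul (p x), (hA _).2 hm⟩
    rw [hr0, ← hval x hx]
    exact h1
  have hit : ∀ (i : ℕ) x y, ρ^[i] (x * y) = ρ^[i] x * ρ^[i] y := by
    intro i
    induction i with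
    | zero => simp
    | succ i ih => intro x y; rw [Function.iterate_succ_apply, Function.iterate_succ_apply,
                     Function.iterate_succ_apply, map_mul, ih]
  have hitD : ∀ (i : ℕ) x, α (dlt α x) = dlt α x →
      α (dlt α (ρ^[i] x)) = dlt α (ρ^[i] x) ∧ e (dlt α (ρ^[i] x)) = l ^ i * e (dlt α x) := by
    intro i
    induction i with
    | zero => intro x hx; simp [hx]
    | succ i ih =>
      intro x hx
      obtain ⟨h1, h2⟩ := ih x hx
      rw [Function.iterate_succ_apply', h.dlt_rho, h.comm, h1, h.e_rho _ h1, h2, pow_succ']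
      exact ⟨rfl, by ring⟩
  have hl0 : l ≠ 0 := fun e0 => by rw [e0, zero_pow (by omega)] at hl; exact zero_ne_one hl
  have hN1 : (N : F) = 1 := by
    obtain ⟨M, hM⟩ : ∃ M, N = 2 * M + 1 := ⟨N / 2, by omega⟩
    rw [hM, Nat.cast_add, Nat.cast_mul, Nat.cast_ofNat, h.two, zero_mul, zero_add, Nat.cast_one]
  obtain ⟨r, hr⟩ : ∃ r : Q → F, ∀ x, r x = ∑ i ∈ Finset.range N, (l⁻¹) ^ i * r0 (ρ^[i] x) :=
    ⟨_, fun x => rfl⟩
  have rm : ∀ x y, r (x * y) = r x + r y := fun x y => by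
    rw [hr, hr, hr, ← Finset.sum_add_distrib]
    refine Finset.sum_congr rfl fun i _ => ?_
    rw [hit, r0m, mul_add]
  have rρ : ∀ x, r (ρ x) = l * r x := fun x => by
    obtain ⟨f, hf⟩ : ∃ f : ℕ → F, ∀ i, f i = (l⁻¹) ^ i * r0 (ρ^[i] x) := ⟨_, fun i => rfl⟩
    have h1 : r (ρ x) = l * ∑ i ∈ Finset.range N, f (i + 1) := by
      rw [hr, Finset.mul_sum]
      refine Finset.sum_congr rfl fun i _ => ?_
      rw [hf, ← Function.iterate_succ_apply, pow_succ]
      field_simp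
    have h2 : ∑ i ∈ Finset.range N, f (i + 1) = ∑ i ∈ Finset.range N, f i := by
      have h3 := Finset.sum_range_succ f N
      have h4 := Finset.sum_range_succ' f N
      have h5 : f N = f 0 := by rw [hf, hf, inv_pow, hl, hρN]; simp
      rw [h3, h5] at h4
      exact (add_right_cancel h4).symm
    rw [h1, h2, hr, Finset.sum_congr rfl fun i _ => hf i]
  have rD : ∀ x, α (dlt α x) = dlt α x → r x = e (dlt α x) := fun x hx => by
    have h1 : ∀ i ∈ Finset.range N, (l⁻¹) ^ i * r0 (ρ^[i] x) = e (dlt α x) := fun i _ => by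
      obtain ⟨h2, h3⟩ := hitD i x hx
      rw [r0D _ h2, h3, ← mul_assoc, inv_pow, inv_mul_cancel₀ (pow_ne_zero _ hl0), one_mul]
    rw [hr, Finset.sum_congr rfl h1, Finset.sum_const, Finset.card_range, nsmul_eq_mul, hN1, one_mul]
  obtain ⟨π, hπ⟩ : ∃ π : Q → F, ∀ x, π x = e (dlt α (dlt α x)) := ⟨_, fun x => rfl⟩
  have hπD : ∀ x, π x = 0 → α (dlt α x) = dlt α x := fun x hx =>
    dlt_eq_one.1 (h.e_inj _ (S.dd x) (hπ x ▸ hx))
  have hπd : ∀ x, α (dlt α x) = dlt α x → π x = 0 := fun x hx => by rw [hπ, dlt_eq_one.2 hx, h.e_one]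
  have hπρ : ∀ x, π (ρ x) = l * π x := fun x => by
    rw [hπ, hπ, h.dlt_rho, h.dlt_rho, h.e_rho _ (S.dd x)]
  have hker : ∀ x, π x = 0 → r x = 0 → α x = x := fun x h1 h2 => by
    have hx := hπD x h1
    rw [rD x hx] at h2
    exact dlt_eq_one.1 (h.e_inj _ hx h2)
  have hfix0 : ∀ x, α x = x → π x = 0 ∧ r x = 0 := fun x hx => by
    have h1 : dlt α x = 1 := dlt_eq_one.2 hx
    have hxD : α (dlt α x) = dlt α x := by rw [h1, map_one]
    exact ⟨hπd x hxD, by rw [rD x hxD, h1, h.e_one]⟩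
  have hsurj : ∀ u v, ∃ x, π x = u ∧ r x = v := fun u v => by
    obtain ⟨x, hx⟩ := S.pi_surj u
    obtain ⟨d, hd, hd'⟩ := h.eD_surj hne (v - r x)
    exact ⟨x * d, by rw [hπ, S.pi_mul, hx, ← hπ, hπd d hd, add_zero], by rw [rm, rD d hd, hd']; ring⟩
  obtain ⟨k, hk0, hk⟩ := S.pair
  have hsqfix : ∀ x y, π x = π y → r x = r y → x * x = y * y := fun x y h1 h2 => by
    obtain ⟨c, hc0⟩ : ∃ c, c = y⁻¹ * x := ⟨_, rfl⟩
    have hπi : ∀ a b, π (a * b) = π a + π b := fun a b => by rw [hπ, hπ, hπ, S.pi_mul]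
    obtain rfl : x = y * c := by rw [hc0, mul_inv_cancel_left]
    rw [hπi] at h1
    rw [rm] at h2
    have hc : α c = c := hker c (by linear_combination h1) (by linear_combination h2)
    calc y * c * (y * c) = y * (c * y) * c := by group
      _ = y * y * (c * c) := by rw [← h.fix_central hc y]; group
      _ = y * y := by rw [h.sq_fix hc, mul_one]
  choose sx hsx hsx' using fun u => hsurj u 0
  obtain ⟨f, hf⟩ : ∃ f : F → F, ∀ u, f u = e (sx u * sx u) ^ 2 := ⟨_, fun u => rfl⟩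
  have hfl : ∀ u, f (l * u) = l ^ 2 * f u := fun u => by
    rw [hf, hf, hsqfix (sx (l * u)) (ρ (sx u)) (by rw [hπρ, hsx, hsx]) (by rw [rρ, hsx', hsx', mul_zero]),
      ← map_mul, h.e_rho _ (S.sq _)]
    ring
  have hfu : ∀ u, f u = f 1 * u ^ 2 := by
    intro u
    rcases eq_or_ne u 0 with rfl | hu
    · obtain ⟨h1, h2⟩ := hfix0 1 (map_one α)
      rw [hf, hsqfix (sx 0) 1 (by rw [hsx, h1]) (by rw [hsx', h2]), mul_one, h.e_one]
      ring
    · obtain ⟨i, rfl⟩ := h.gen u hu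
      clear hu
      induction i with
      | zero => simp
      | succ i ih => rw [pow_succ', hfl, ih]; ring
  have key : ∀ x, e (x * x) ^ 2 = f 1 * π x ^ 2 + k * π x * r x + r x ^ 2 := by
    intro x
    obtain ⟨d, hd, hd'⟩ := h.eD_surj hne (r x)
    obtain ⟨y, hy⟩ : ∃ y, y = sx (π x) := ⟨_, rfl⟩
    have hxy : x * x = y * d * (y * d) := hsqfix x (y * d)
      (by rw [hπ (y * d), S.pi_mul, ← hπ y, ← hπ d, hπd d hd, hy, hsx, add_zero])
      (by rw [rm, rD d hd, hd', hy, hsx', zero_add])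
    have e1 : y * d * (y * d) = y * y * (⁅d, y⁆⁻¹)⁻¹ * (d * d) := by
      calc y * d * (y * d) = y * ⁅d, y⁆ * y * (d * d) := by rw [commutatorElement_def]; group
        _ = _ := by
          rw [mul_assoc y ⁅d, y⁆ y, ← h.fix_central (hcm d y) y, inv_inv]
          simp only [mul_assoc]
    have e2 : d * d = (dlt α d)⁻¹ := by rw [dlt, S.inv d hd, mul_inv_rev, inv_inv]
    have hpr := hk y d hd
    rw [← hπ, hd', hy, hsx, ← commutatorElement_inv, h.e_inv (hcm _ _), ← hy] at hpr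
    rw [hxy, e1, inv_inv, h.e_mul _ _ (by rw [map_mul, S.sq, hcm]) (by rw [e2, map_inv, hd]),
      h.e_mul _ _ (S.sq y) (hcm d y), e2, h.e_inv hd, hd']
    have hfy := hfu (π x)
    rw [hf, ← hy] at hfy
    linear_combination hfy + hpr +
      (e (y * y) * e ⁅d, y⁆ + (e (y * y) + e ⁅d, y⁆) * r x) * h.two
  refine ⟨f 1 / k ^ 2,
    { p := fun x => (k * π x, r x)
      E := fun x => e x ^ 2
      p_mul := fun a b => Prod.ext
        (show k * π (a * b) = _ by rw [hπ, hπ, hπ, S.pi_mul]; exact mul_add k _ _) (rm a b)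
      p_surj := fun v => ?_
      central := fun g g' hg => ?_
      E_mul := fun g g' hg hg' => ?_
      E_inj := fun g hg he => ?_
      E_surj := fun w => ?_ }, fun x => ?_⟩
  · obtain ⟨x, h1, h2⟩ := hsurj (v.1 / k) v.2
    exact ⟨x, Prod.ext (show k * π x = v.1 by rw [h1, mul_div_cancel₀ _ hk0]) h2⟩
  · exact h.fix_central (hker g ((mul_eq_zero.1 (congrArg Prod.fst hg)).resolve_left hk0)
      (congrArg Prod.snd hg)) g'
  · have h1 := hker g ((mul_eq_zero.1 (congrArg Prod.fst hg)).resolve_left hk0) (congrArg Prod.snd hg)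
    have h2 := hker g' ((mul_eq_zero.1 (congrArg Prod.fst hg')).resolve_left hk0) (congrArg Prod.snd hg')
    show e (g * g') ^ 2 = e g ^ 2 + e g' ^ 2
    rw [h.e_mul _ _ h1 h2]
    linear_combination e g * e g' * h.two
  · exact h.e_inj g (hker g ((mul_eq_zero.1 (congrArg Prod.fst hg)).resolve_left hk0) (congrArg Prod.snd hg))
      (pow_eq_zero_iff two_ne_zero |>.1 he)
  · obtain ⟨v, hv⟩ := h.sqrt_exists w
    obtain ⟨c, hc, hce⟩ := h.e_surj v
    obtain ⟨h1, h2⟩ := hfix0 c hc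
    exact ⟨c, Prod.ext (show k * π c = 0 by rw [h1, mul_zero]) h2, by
      show e c ^ 2 = w
      rw [hce, pow_two, hv]⟩
  · show e (x * x) ^ 2 = f 1 / k ^ 2 * (k * π x) ^ 2 + k * π x * r x + r x ^ 2
    rw [key x]
    field_simp

end Cfsg.Lib.TwoFour.Singer
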