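import Cfsg.Agent.Lib.TwoFour.SingerShape
import Cfsg.Agent.Lib.TwoFour.Targets

/-!
# The field of a transitive cycle, and the two target groups
-/

set_option autoImplicit false
set_option linter.unusedSectionVars false
set_option linter.style.haveILetI false

open Matrix

namespace Cfsg.Lib.TwoFour.Singer

/-- A cycle which is transitive on the nonzero elements makes the group a field. -/
theorem exists_coord {A : Type*} [AddCommGroup A] [Finite A] {n : ℕ} (hn : 2 ≤ n)
    (hA : Nat.card A = 2 ^ n) (r : AddMonoid.End A)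
    (htr : ∀ x y : A, x ≠ 0 → y ≠ 0 → ∃ k : ℕ, (r ^ k) x = y) (hr0 : ∀ x, r x = 0 → x = 0) :
    ∃ (e : A → GaloisField 2 n) (l : GaloisField 2 n), Function.Bijective e ∧
      (∀ x y, e (x + y) = e x + e y) ∧ (∀ x, e (r x) = l * e x) ∧ ∀ u, u ≠ 0 → ∃ k : ℕ, l ^ k = u := by
  classical
  haveI : Nontrivial A := Finite.one_lt_card_iff_nontrivial.1 (by
    rw [hA]; exact Nat.one_lt_two_pow (by omega))
  obtain ⟨c0, hc0⟩ := exists_ne (0 : A)
  let S : Subring (AddMonoid.End A) := Subring.centralizer {r}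
  have hS : ∀ s : S, ∀ x, (s : AddMonoid.End A) (r x) = r ((s : AddMonoid.End A) x) := fun s x =>
    (DFunLike.congr_fun ((Subring.mem_centralizer_iff.1 s.2) r rfl) x).symm
  have hrk : ∀ k : ℕ, r ^ k ∈ S := fun k => Subring.mem_centralizer_iff.2 fun g hg => by
    rw [Set.mem_singleton_iff] at hg
    rw [hg]; exact (Commute.self_pow r k).eq
  have hrk0 : ∀ (k : ℕ) x, (r ^ k) x = 0 → x = 0 := by
    intro k
    induction k with
    | zero => intro x hx; exact hx
    | succ k ih => intro x hx; rw [pow_succ'] at hx; exact ih x (hr0 _ hx)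
  have hzero : ∀ s : S, (s : AddMonoid.End A) c0 = 0 → s = 0 := fun s hs => by
    refine Subtype.ext (AddMonoidHom.ext fun x => ?_)
    rcases eq_or_ne x 0 with rfl | hx
    · exact map_zero _
    obtain ⟨k, rfl⟩ := htr c0 x hc0 hx
    show ((s : AddMonoid.End A) * r ^ k) c0 = 0
    rw [← (show Commute (r ^ k) (s : AddMonoid.End A) from
      Commute.pow_left (Subring.mem_centralizer_iff.1 s.2 r rfl) k).eq]
    show (r ^ k) ((s : AddMonoid.End A) c0) = 0
    rw [hs, map_zero]
  have hpow : ∀ s : S, s ≠ 0 → ∃ k : ℕ, s = ⟨r ^ k, hrk k⟩ := fun s hs => by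
    obtain ⟨k, hk⟩ := htr c0 _ hc0 fun e0 => hs (hzero s e0)
    refine ⟨k, sub_eq_zero.1 (hzero _ ?_)⟩
    show (s : AddMonoid.End A) c0 - (r ^ k) c0 = 0
    rw [hk, sub_self]
  have hcomm : ∀ a b : S, a * b = b * a := fun a b => by
    by_cases ha : a = 0
    · rw [ha, zero_mul, mul_zero]
    by_cases hb : b = 0
    · rw [hb, zero_mul, mul_zero]
    obtain ⟨i, rfl⟩ := hpow a ha
    obtain ⟨j, rfl⟩ := hpow b hb
    exact Subtype.ext ((Commute.refl r).pow_pow i j).eq
  haveI : Finite (AddMonoid.End A) := Finite.of_injective (fun f : AddMonoid.End A => (f : A → A))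
    DFunLike.coe_injective
  haveI : Finite S := Subtype.finite
  letI : CommRing S := { (inferInstance : Ring S) with mul_comm := hcomm }
  haveI : Nontrivial S := ⟨⟨0, 1, fun e1 => hc0 (DFunLike.congr_fun (congrArg Subtype.val e1) c0).symm⟩⟩
  haveI : NoZeroDivisors S := ⟨fun {a b} hab => by
    by_contra hne
    push Not at hne
    obtain ⟨i, rfl⟩ := hpow a hne.1
    obtain ⟨j, rfl⟩ := hpow b hne.2
    have h1 : (r ^ i * r ^ j) c0 = 0 := DFunLike.congr_fun (congrArg Subtype.val hab) c0
    rw [← pow_add] at h1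
    exact hc0 (hrk0 _ _ h1)⟩
  haveI : IsDomain S := NoZeroDivisors.to_isDomain S
  letI : Field S := (Finite.isField_of_domain S).toField
  have hbij : Function.Bijective (fun s : S => (s : AddMonoid.End A) c0) := by
    refine ⟨fun a b hab => sub_eq_zero.1 (hzero _ ?_), fun x => ?_⟩
    · show (a : AddMonoid.End A) c0 - (b : AddMonoid.End A) c0 = 0
      rw [show (a : AddMonoid.End A) c0 = (b : AddMonoid.End A) c0 from hab, sub_self]
    · rcases eq_or_ne x 0 with rfl | hx
      · exact ⟨0, rfl⟩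
      · obtain ⟨k, hk⟩ := htr c0 x hc0 hx
        exact ⟨⟨r ^ k, hrk k⟩, hk⟩
  have hcard : Nat.card S = Nat.card (GaloisField 2 n) := by
    rw [Nat.card_eq_of_bijective _ hbij, hA, GaloisField.card 2 n (by omega)]
  letI : Fintype S := Fintype.ofFinite S
  letI : Fintype (GaloisField 2 n) := Fintype.ofFinite _
  let ι : S ≃+* GaloisField 2 n := FiniteField.ringEquivOfCardEq
    (by rw [← Nat.card_eq_fintype_card, ← Nat.card_eq_fintype_card, hcard])
  let φ := Equiv.ofBijective _ hbij
  let rS : S := ⟨r, by simpa using hrk 1⟩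
  refine ⟨fun x => ι (φ.symm x), ι rS, ι.bijective.comp φ.symm.bijective, fun x y => ?_, fun x => ?_, fun u hu => ?_⟩
  · rw [← map_add]
    refine congrArg ι (φ.injective ?_)
    rw [φ.apply_symm_apply]
    show x + y = ((φ.symm x : S) : AddMonoid.End A) c0 + ((φ.symm y : S) : AddMonoid.End A) c0
    exact (congrArg₂ (· + ·) (φ.apply_symm_apply x) (φ.apply_symm_apply y)).symm
  · rw [← map_mul]
    refine congrArg ι (φ.injective ?_)
    rw [φ.apply_symm_apply]
    show r x = r (((φ.symm x : S) : AddMonoid.End A) c0)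
    exact congrArg r (φ.apply_symm_apply x).symm
  · obtain ⟨s, rfl⟩ := ι.surjective u
    obtain ⟨k, hk⟩ := hpow s fun e0 => hu (by rw [e0, map_zero])
    exact ⟨k, by rw [← map_pow, hk]; exact congrArg ι (Subtype.ext (SubmonoidClass.coe_pow rS k))⟩

/-- The linear case. -/
theorem linear_target {G F : Type*} [Group G] [Field F] [Fintype F] {n : ℕ} (hn : 1 ≤ n)
    (hF : Fintype.card F = 2 ^ n) (c : SqData G (F × F) F)
    (hsq : ∀ x, c.E (x * x) = (c.p x).1 * (c.p x).2) :
    ∃ S : Sylow 2 (Matrix.ProjectiveSpecialLinearGroup (Fin 3) F),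
      Nonempty (G ≃* (S : Subgroup (Matrix.ProjectiveSpecialLinearGroup (Fin 3) F))) := by
  classical
  haveI : Fact (Nat.Prime 2) := ⟨Nat.prime_two⟩
  have two : (2 : F) = 0 := by
    have h := Nat.cast_card_eq_zero F
    rw [hF, Nat.cast_pow, Nat.cast_ofNat] at h
    exact (pow_eq_zero_iff (by omega)).1 h
  have two0 : ∀ x : F, x + x = 0 := fun x => by linear_combination x * two
  let U : Subgroup (Matrix.ProjectiveSpecialLinearGroup (Fin 3) F) :=
    { carrier := {g | ∃ x y z : F, ptri x y z = g}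
      one_mem' := ⟨0, 0, 0, ptri_zero⟩
      mul_mem' := by rintro _ _ ⟨x, y, z, rfl⟩ ⟨x', y', z', rfl⟩; exact ⟨_, _, _, (ptri_mul ..).symm⟩
      inv_mem' := by
        rintro _ ⟨x, y, z, rfl⟩
        refine ⟨-x, -y, -z + x * y, (inv_eq_of_mul_eq_one_right ?_).symm⟩
        rw [ptri_mul, ← ptri_zero]; congr 1 <;> ring }
  let co : F × F × F → U := fun p => ⟨ptri p.1 p.2.1 p.2.2, _, _, _, rfl⟩
  have hbij : Function.Bijective co := by
    refine ⟨fun p q e => ?_, ?_⟩
    · obtain ⟨h1, h2, h3⟩ := ptri_inj (congrArg Subtype.val e)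
      exact Prod.ext h1 (Prod.ext h2 h3)
    · rintro ⟨g, x, y, z, rfl⟩
      exact ⟨(x, y, z), rfl⟩
  have hU : Nat.card U = (2 ^ n) ^ 3 := by
    rw [← Nat.card_eq_of_bijective _ hbij, Nat.card_prod, Nat.card_prod, Nat.card_eq_fintype_card, hF]
    ring
  obtain ⟨P, hP⟩ := (IsPGroup.of_card (p := 2) (n := n * 3) (by rw [hU, pow_mul]) : IsPGroup 2 U).exists_le_sylow
  have hUP : U = P := by
    refine Subgroup.eq_of_le_of_card_ge hP ?_
    obtain ⟨k, hk⟩ := IsPGroup.iff_card.1 P.isPGroup'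
    have h1 := Cfsg.Lib.Linear.card_SL_mul (F := F) 3 (by norm_num)
    rw [Cfsg.Lib.Linear.card_SL_eq_gcd_mul_card_PSL, hF, Fintype.card_fin] at h1
    simp [Fin.prod_univ_three] at h1
    obtain ⟨m, hm⟩ := Subgroup.card_subgroup_dvd_card (P : Subgroup (Matrix.ProjectiveSpecialLinearGroup (Fin 3) F))
    rw [← Nat.card_eq_fintype_card, hm, hk] at h1
    obtain ⟨Q, hQ⟩ : ∃ Q, Q = 2 ^ n := ⟨_, rfl⟩
    rw [← hQ] at h1
    have hQ2 : 2 ∣ Q := hQ ▸ dvd_pow_self 2 (by omega)
    have hQ1 : 2 ≤ Q := hQ ▸ Nat.le_self_pow (by omega) 2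
    have hsplit : (Q ^ 3 - 1) * (Q ^ 3 - Q) * (Q ^ 3 - Q ^ 2) =
        Q ^ 3 * ((Q ^ 3 - 1) * (Q ^ 2 - 1) * (Q - 1)) := by
      rw [show Q ^ 3 - Q = Q * (Q ^ 2 - 1) by rw [Nat.mul_sub]; congr 1 <;> ring,
        show Q ^ 3 - Q ^ 2 = Q ^ 2 * (Q - 1) by rw [Nat.mul_sub]; congr 1 <;> ring]
      ring
    rw [hsplit] at h1
    have hodd : ∀ j, 1 ≤ j → ¬ 2 ∣ Q ^ j - 1 := fun j hj hd => by
      have : 2 ∣ Q ^ j := hQ2.trans (dvd_pow_self Q (by omega))
      have := Nat.one_le_pow j Q (by omega)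
      omega
    have hcop : Nat.Coprime (2 ^ k) ((Q ^ 3 - 1) * (Q ^ 2 - 1) * (Q - 1)) := by
      refine Nat.Coprime.pow_left k ((Nat.prime_two.coprime_iff_not_dvd).2 fun hd => ?_)
      have h3 := hodd 1 le_rfl
      rw [pow_one] at h3
      exact ((Nat.prime_two.dvd_mul).1 hd).elim
        (fun hd => ((Nat.prime_two.dvd_mul).1 hd).elim (hodd 3 (by norm_num)) (hodd 2 (by norm_num))) h3
    have hdvd : 2 ^ k ∣ Q ^ 3 * ((Q ^ 3 - 1) * (Q ^ 2 - 1) * (Q - 1)) := by
      rw [← h1]; exact ((dvd_mul_right _ _).mul_left _).mul_left _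
    have := Nat.le_of_dvd (pow_pos (by omega) 3) (hcop.dvd_of_dvd_mul_right hdvd)
    rw [hU, hk, ← hQ]
    exact this
  let cc := fun u : U => (Equiv.ofBijective _ hbij).symm u
  have hcc : ∀ u, co (cc u) = u := fun u => (Equiv.ofBijective _ hbij).apply_symm_apply u
  have hccm : ∀ u v : U, cc (u * v) =
      ((cc u).1 + (cc v).1, (cc u).2.1 + (cc v).2.1, (cc u).2.2 + (cc v).2.2 + (cc u).1 * (cc v).2.1) := by
    intro u v
    refine hbij.1 ?_
    rw [hcc]
    refine Subtype.ext ?_
    show (u : Matrix.ProjectiveSpecialLinearGroup (Fin 3) F) * v = _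
    conv_lhs => rw [← hcc u, ← hcc v]
    exact ptri_mul ..
  have hone : cc 1 = (0, 0, 0) := hbij.1 (by rw [hcc]; exact Subtype.ext ptri_zero.symm)
  let d : SqData U (F × F) F :=
    { p := fun u => ((cc u).1, (cc u).2.1)
      E := fun u => (cc u).2.2
      p_mul := fun u v => by rw [hccm]; rfl
      p_surj := fun v => ⟨co (v.1, v.2, 0), by
        rw [show cc (co (v.1, v.2, 0)) = (v.1, v.2, 0) from hbij.1 (by rw [hcc])]⟩
      central := fun u v hu => by
        simp only [Prod.mk_eq_zero] at hu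
        refine (Equiv.ofBijective _ hbij).symm.injective ?_
        show cc (v * u) = cc (u * v)
        rw [hccm, hccm, hu.1, hu.2]
        refine Prod.ext (add_comm _ _) (Prod.ext (add_comm _ _) ?_)
        show _ + _ + (cc v).1 * 0 = _ + _ + 0 * (cc v).2.1
        rw [mul_zero, zero_mul, add_comm (cc v).2.2]
      E_mul := fun u v hu hv => by
        simp only [Prod.mk_eq_zero] at hu
        show (cc (u * v)).2.2 = (cc u).2.2 + (cc v).2.2
        rw [hccm, hu.1]
        show _ + _ + 0 * (cc v).2.1 = _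
        rw [zero_mul, add_zero]
      E_inj := fun u hu he => by
        simp only [Prod.mk_eq_zero] at hu
        refine (Equiv.ofBijective _ hbij).symm.injective ?_
        show cc u = cc 1
        rw [hone]
        exact Prod.ext hu.1 (Prod.ext hu.2 he)
      E_surj := fun w => ⟨co (0, 0, w), by
        rw [show cc (co (0, 0, w)) = (0, 0, w) from hbij.1 (by rw [hcc])]
        exact ⟨rfl, rfl⟩⟩ }
  obtain ⟨f⟩ := c.nonempty_mulEquiv (fun v => Prod.ext (two0 _) (two0 _)) d fun g u hgu => by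
    rw [hsq, hgu]
    show (cc u).1 * (cc u).2.1 = (cc (u * u)).2.2
    rw [hccm]
    show _ = (cc u).2.2 + (cc u).2.2 + (cc u).1 * (cc u).2.1
    rw [two0, zero_add]
  exact ⟨P, ⟨f.trans (MulEquiv.subgroupCongr hUP)⟩⟩

/-- The unitary case. -/
theorem unitary_target {G F F' : Type*} [Group G] [Field F] [Fintype F] [Field F'] [Fintype F'] {n : ℕ}
    (hn : 1 ≤ n) (hF : Fintype.card F = 2 ^ n) (hF' : Fintype.card F' = (2 ^ n) ^ 2) (ι : F →+* F')
    (c : SqData G F' F) (hsq : ∀ x, ι (c.E (x * x)) = c.p x ^ (2 ^ n + 1)) :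
    ∃ S : Sylow 2 (Cfsg.PSU 3 F' (2 ^ n)),
      Nonempty (G ≃* (S : Subgroup (Cfsg.PSU 3 F' (2 ^ n)))) := by
  classical
  obtain ⟨P⟩ : Nonempty (Sylow 2 (Cfsg.PSU 3 F' (2 ^ n))) := inferInstance
  obtain ⟨k⟩ := Cfsg.Lib.U3Even.nonempty_coords_psu hn hF' P
  have hrange : ∀ y : F', y ^ (2 ^ n) = y → ∃ x, ι x = y := by
    let R := {y : F' // y ^ (2 ^ n) = 1 * y}
    let j : F → R := fun x => ⟨ι x, by
      rw [one_mul, ← map_pow]
      exact congrArg ι (by rw [← hF]; exact FiniteField.pow_card x)⟩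
    have hj : Function.Injective j := fun a b hab => ι.injective (congrArg Subtype.val hab)
    have hb : Function.Bijective j := by
      refine hj.bijective_of_nat_card_le ?_
      rw [Nat.card_eq_fintype_card (α := F), hF]
      exact Cfsg.Lib.U3Even.card_roots_le hn 1
    intro y hy
    obtain ⟨x, hx⟩ := hb.2 ⟨y, by rw [one_mul, hy]⟩
    exact ⟨x, congrArg Subtype.val hx⟩
  have hiota : ∀ y : F', y ^ (2 ^ n) = y → ι (Function.invFun ι y) = y := fun y hy =>
    Function.invFun_eq (hrange y hy)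
  have hB : ∀ g, k.A g = 0 → ι (Function.invFun ι (k.B g)) = k.B g := fun g hg =>
    hiota _ (k.B_fixed hn hF' hg)
  let d : SqData (P : Subgroup (Cfsg.PSU 3 F' (2 ^ n))) F' F :=
    { p := k.A
      E := fun g => Function.invFun ι (k.B g)
      p_mul := k.A_mul
      p_surj := fun v => by
        obtain ⟨b, hb⟩ := Cfsg.Lib.U3Even.exists_point hn hF' v
        obtain ⟨g, hg, -⟩ := k.exists_mk v b hb
        exact ⟨g, hg⟩
      central := fun g g' hg => Subgroup.mem_center_iff.1 ((k.mem_center_iff hn hF' g).2 hg) g'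
      E_mul := fun g g' hg hg' => ι.injective (by
        rw [map_add, hB g hg, hB g' hg', hB _ (by rw [k.A_mul, hg, hg', add_zero]), k.B_mul, hg, zero_mul,
          add_zero])
      E_inj := fun g hg he => by
        refine k.inj g 1 (hg.trans (k.A_one hn hF').symm) ?_
        rw [k.B_one hn hF', ← hB g hg, he, map_zero]
      E_surj := fun w => by
        have hw : (ι w) ^ (2 ^ n) = ι w := by
          rw [← map_pow]; exact congrArg ι (by rw [← hF]; exact FiniteField.pow_card w)
        obtain ⟨g, hg, hg'⟩ := k.exists_zero hn hF' hw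
        exact ⟨g, hg, by rw [hg']; exact Function.leftInverse_invFun ι.injective w⟩ }
  obtain ⟨f⟩ := c.nonempty_mulEquiv (fun v => Cfsg.Lib.U3Even.add_self hn hF' v) d fun g u hgu =>
    ι.injective (by
      rw [hsq, hgu]
      show k.A u ^ (2 ^ n + 1) = ι (Function.invFun ι (k.B (u * u)))
      rw [hB _ (k.A_sq hn hF' u), k.B_sq hn hF'])
  exact ⟨P, ⟨f⟩⟩

/-- Both cases. -/
theorem classify {F : Type} [Field F] [Fintype F] {n : ℕ} (hn : 1 ≤ n) (hF : Fintype.card F = 2 ^ n)
    {Q : Type*} [Group Q] (ε : F) (c : SqData Q (F × F) F)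
    (hsq : ∀ x, c.E (x * x) = ε * (c.p x).1 ^ 2 + (c.p x).1 * (c.p x).2 + (c.p x).2 ^ 2) :
    (∃ (F' : Type) (_ : Field F') (_ : Fintype F'), Fintype.card F' = 4 ^ n ∧
        ∃ S : Sylow 2 (Cfsg.PSU 3 F' (2 ^ n)), Nonempty (Q ≃* ↥(S : Subgroup (Cfsg.PSU 3 F' (2 ^ n))))) ∨
      (∃ S : Sylow 2 (Matrix.ProjectiveSpecialLinearGroup (Fin 3) F),
        Nonempty (Q ≃* ↥(S : Subgroup (Matrix.ProjectiveSpecialLinearGroup (Fin 3) F)))) := by
  classical
  haveI : Fact (Nat.Prime 2) := ⟨Nat.prime_two⟩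
  have two : (2 : F) = 0 := by
    have h := Nat.cast_card_eq_zero F
    rw [hF, Nat.cast_pow, Nat.cast_ofNat] at h
    exact (pow_eq_zero_iff (by omega)).1 h
  by_cases hsplit : ∃ r : F, r ^ 2 + r = ε
  · right
    obtain ⟨r, hr⟩ := hsplit
    have hz : ∀ v : F × F, (v.2 + r * v.1, v.2 + r * v.1 + v.1) = ((0, 0) : F × F) → v = 0 := by
      intro v hv
      obtain ⟨h1, h2⟩ := Prod.mk.injEq _ _ _ _ ▸ hv
      have hv1 : v.1 = 0 := by linear_combination h2 - h1
      exact Prod.ext hv1 (show v.2 = 0 by linear_combination h1 - r * hv1)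
    refine linear_target hn hF
      { p := fun x => ((c.p x).2 + r * (c.p x).1, (c.p x).2 + r * (c.p x).1 + (c.p x).1)
        E := c.E
        p_mul := fun a b => by
          rw [c.p_mul]
          refine Prod.ext ?_ ?_ <;> simp only [Prod.fst_add, Prod.snd_add] <;> ring
        p_surj := fun v => by
          obtain ⟨g, hg⟩ := c.p_surj (v.1 + v.2, v.1 + r * (v.1 + v.2))
          refine ⟨g, ?_⟩
          rw [hg]
          refine Prod.ext ?_ ?_
          · show v.1 + r * (v.1 + v.2) + r * (v.1 + v.2) = v.1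
            linear_combination r * (v.1 + v.2) * two
          · show v.1 + r * (v.1 + v.2) + r * (v.1 + v.2) + (v.1 + v.2) = v.2
            linear_combination (r * (v.1 + v.2) + v.1) * two
        central := fun g g' hg => c.central g g' ?_
        E_mul := fun g g' hg hg' => c.E_mul g g' ?_ ?_
        E_inj := fun g hg he => c.E_inj g ?_ he
        E_surj := fun w => by
          obtain ⟨g, hg, hgE⟩ := c.E_surj w
          exact ⟨g, by rw [hg]; simp, hgE⟩ } fun x => ?_
    pick_goal 5
    · show c.E (x * x) = ((c.p x).2 + r * (c.p x).1) * ((c.p x).2 + r * (c.p x).1 + (c.p x).1)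
      rw [hsq x, ← hr]
      linear_combination -(r * (c.p x).1 * (c.p x).2) * two
    all_goals
      first
        | exact hz _ hg
        | exact hz _ hg'
  · left
    push Not at hsplit
    obtain ⟨P, hP⟩ : ∃ P : Polynomial F, P = Polynomial.X ^ 2 + Polynomial.X + Polynomial.C ε := ⟨_, rfl⟩
    have hmon : P.Monic := by rw [hP]; monicity!
    have hdeg : P.natDegree = 2 := by rw [hP]; compute_degree!
    haveI : Fact (Irreducible P) := ⟨by
      refine (Polynomial.Monic.irreducible_iff_roots_eq_zero_of_degree_le_three hmon (by omega) (by omega)).2 ?_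
      refine Multiset.eq_zero_of_forall_notMem fun a ha => ?_
      rw [Polynomial.mem_roots hmon.ne_zero, Polynomial.IsRoot, hP] at ha
      simp at ha
      exact hsplit a (by linear_combination ha - ε * two)⟩
    let pb := AdjoinRoot.powerBasis hmon.ne_zero
    haveI : Module.Finite F (AdjoinRoot P) := pb.finite
    haveI : Finite (AdjoinRoot P) := Module.finite_of_finite F
    letI : Fintype (AdjoinRoot P) := Fintype.ofFinite _
    have hF' : Fintype.card (AdjoinRoot P) = (2 ^ n) ^ 2 := by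
      rw [← Nat.card_eq_fintype_card, Module.natCard_eq_pow_finrank (K := F), pb.finrank,
        AdjoinRoot.powerBasis_dim, hdeg, Nat.card_eq_fintype_card, hF]
    refine ⟨AdjoinRoot P, inferInstance, inferInstance, by rw [hF', ← pow_mul, mul_comm, pow_mul]; norm_num, ?_⟩
    obtain ⟨ι, hι⟩ : ∃ ι : F →+* AdjoinRoot P, ι = AdjoinRoot.of P := ⟨_, rfl⟩
    obtain ⟨θ, hθ⟩ : ∃ θ : AdjoinRoot P, θ ^ 2 + θ + ι ε = 0 := by
      refine ⟨AdjoinRoot.root P, ?_⟩
      have h := AdjoinRoot.eval₂_root P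
      simpa [hP, hι] using h
    have two' : (2 : AdjoinRoot P) = 0 := by
      have := congrArg ι two
      rwa [map_ofNat, map_zero] at this
    have hθr : ∀ a : F, θ ≠ ι a := fun a e1 => hsplit a (by
      refine ι.injective ?_
      rw [map_add, map_pow, ← e1]
      linear_combination hθ - ι ε * two')
    have hfix : ∀ a : F, (ι a) ^ (2 ^ n) = ι a := fun a => by
      rw [← map_pow]; exact congrArg ι (by rw [← hF]; exact FiniteField.pow_card a)
    have hθq : θ ^ (2 ^ n) = θ + 1 := by
      have hfr := Cfsg.Lib.U3Even.frob_add hn hF'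
      have h1 : (θ ^ (2 ^ n)) ^ 2 + θ ^ (2 ^ n) + ι ε = 0 := by
        have e1 : (θ ^ 2 + θ + ι ε) ^ (2 ^ n) = 0 := by rw [hθ, zero_pow (by positivity)]
        rw [hfr, hfr, hfix] at e1
        rw [← pow_mul, mul_comm, pow_mul]
        exact e1
      have h2 : (θ ^ (2 ^ n) - θ) * (θ ^ (2 ^ n) + θ + 1) = 0 := by linear_combination h1 - hθ
      rcases mul_eq_zero.1 h2 with h3 | h3
      · exfalso
        -- the fixed points are exactly the image of `ι`
        let j : Option F → {y : AdjoinRoot P // y ^ (2 ^ n) = 1 * y} := fun o =>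
          o.elim ⟨θ, by rw [one_mul]; exact sub_eq_zero.1 h3⟩ fun a => ⟨ι a, by rw [one_mul, hfix]⟩
        have hj : Function.Injective j := by
          rintro (_ | a) (_ | b) e1
          · rfl
          · exact absurd (congrArg Subtype.val e1) (hθr b)
          · exact absurd (congrArg Subtype.val e1).symm (hθr a)
          · exact congrArg some (ι.injective (congrArg Subtype.val e1))
        have h4 := (Nat.card_le_card_of_injective j hj).trans (Cfsg.Lib.U3Even.card_roots_le hn 1)
        rw [Nat.card_eq_fintype_card, Fintype.card_option, hF] at h4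
        omega
      · linear_combination h3 - (θ + 1) * two'
    let Φ : F × F → AdjoinRoot P := fun v => ι v.2 + θ * ι v.1
    have hΦ : Function.Bijective Φ := by
      have hinj : Function.Injective Φ := by
        intro a b hab
        have h1 : θ * (ι a.1 - ι b.1) = ι (b.2 - a.2) := by
          rw [map_sub]
          have hab' : ι a.2 + θ * ι a.1 = ι b.2 + θ * ι b.1 := hab
          linear_combination hab'
        rcases eq_or_ne a.1 b.1 with h2 | h2
        · rw [h2, sub_self, mul_zero] at h1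
          have h3 : b.2 - a.2 = 0 := ι.injective (by rw [← h1, map_zero])
          exact Prod.ext h2 (sub_eq_zero.1 h3).symm
        · refine absurd ?_ (hθr ((b.2 - a.2) / (a.1 - b.1)))
          rw [map_div₀, map_sub ι a.1, eq_div_iff (sub_ne_zero.2 fun e1 => h2 (ι.injective e1))]
          exact h1
      refine hinj.bijective_of_nat_card_le (le_of_eq ?_)
      rw [Nat.card_prod, Nat.card_eq_fintype_card, Nat.card_eq_fintype_card, hF, hF']
      ring
    have hΦ0 : Φ (0, 0) = 0 := by simp [Φ]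
    exact unitary_target hn hF hF' ι
      { p := fun x => Φ (c.p x)
        E := c.E
        p_mul := fun a b => by
          rw [c.p_mul]
          simp only [Φ, Prod.fst_add, Prod.snd_add, map_add]
          ring
        p_surj := fun v => by
          obtain ⟨w, hw⟩ := hΦ.2 v
          obtain ⟨g, hg⟩ := c.p_surj w
          exact ⟨g, by rw [hg, hw]⟩
        central := fun g g' hg => c.central g g' (hΦ.1 (hg.trans hΦ0.symm))
        E_mul := fun g g' hg hg' => c.E_mul g g' (hΦ.1 (hg.trans hΦ0.symm)) (hΦ.1 (hg'.trans hΦ0.symm))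
        E_inj := fun g hg he => c.E_inj g (hΦ.1 (hg.trans hΦ0.symm)) he
        E_surj := fun w => by
          obtain ⟨g, hg, hgE⟩ := c.E_surj w
          exact ⟨g, by rw [hg]; exact hΦ0, hgE⟩ }
      fun x => by
        show ι (c.E (x * x)) = (ι (c.p x).2 + θ * ι (c.p x).1) ^ (2 ^ n + 1)
        rw [pow_succ, Cfsg.Lib.U3Even.frob_add hn hF', mul_pow, hfix, hfix, hθq, hsq x, map_add, map_add,
          map_mul, map_mul, map_pow, map_pow]
        linear_combination -(ι (c.p x).1 ^ 2) * hθ + (ι ε * ι (c.p x).1 ^ 2 - θ * ι (c.p x).1 * ι (c.p x).2) * two'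

end Cfsg.Lib.TwoFour.Singer
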