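import Cfsg.Agent.Lib.TwoFour.Class64
import Cfsg.Agent.Lib.TwoFour.Parity
import Cfsg.Agent.Lib.PGroup.Basic

/-!
# 2-groups with exactly three involutions, permuted by an automorphism of 3-power order
-/

set_option autoImplicit false
set_option linter.style.haveILetI false

namespace Cfsg.Lib.TwoFour

open Subgroup

variable {T : Type*} [Group T]

/-- the hypotheses, before the order of the automorphism is known. -/
structure Three (ρ : T ≃* T) (V : Subgroup T) (j : ℕ) : Prop where
  two : IsPGroup 2 T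
  mem : ∀ x, x ∈ V ↔ x * x = 1
  card : Nat.card V = 4
  central : ∀ v ∈ V, ∀ x : T, x * v = v * x
  fix : ∀ x, ρ x = x → x = 1
  cubeV : ∀ v ∈ V, ρ (ρ (ρ v)) = v
  jpow : ∃ a, j = 3 ^ a
  per : ∀ x, (fun y => ρ (ρ (ρ y)))^[j] x = x

namespace Three

variable {ρ : T ≃* T} {V : Subgroup T} {j : ℕ}

theorem jodd (S : Three ρ V j) : Odd j := by
  obtain ⟨a, rfl⟩ := S.jpow
  exact Odd.pow (by decide)

theorem inv_mem (S : Three ρ V j) {v : T} (hv : v ∈ V) : ρ v ∈ V := by
  rw [S.mem] at hv ⊢
  rw [← map_mul, hv, map_one]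

theorem cases [Finite T] (S : Three ρ V j) {v : T} (hv : v ∈ V) (hv1 : v ≠ 1) {w : T} (hw : w ∈ V) :
    w = 1 ∨ w = v ∨ w = ρ v ∨ w = ρ (ρ v) := by
  classical
  by_contra hne
  push Not at hne
  obtain ⟨n1, n2, n3, n4⟩ := hne
  have hv2 : ρ v ≠ v := fun e => hv1 (S.fix v e)
  have hv3 : ρ (ρ v) ≠ ρ v := fun e => hv2 (ρ.injective e)
  have hv4 : ρ (ρ v) ≠ v := fun e => hv2 (by
    have := congrArg ρ e
    rw [S.cubeV v hv] at this
    exact this.symm)
  have hr1 : ρ v ≠ 1 := fun e => hv1 (ρ.injective (e.trans (map_one ρ).symm))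
  have hr2 : ρ (ρ v) ≠ 1 := fun e => hr1 (ρ.injective (e.trans (map_one ρ).symm))
  haveI : Fintype V := Fintype.ofFinite V
  have h5 : ({⟨1, V.one_mem⟩, ⟨v, hv⟩, ⟨ρ v, S.inv_mem hv⟩, ⟨ρ (ρ v), S.inv_mem (S.inv_mem hv)⟩, ⟨w, hw⟩} :
      Finset V).card = 5 := by
    simp [Finset.card_insert_of_notMem, Subtype.ext_iff, Ne.symm hv1, Ne.symm hr1, Ne.symm hr2,
      Ne.symm n1, Ne.symm n2, Ne.symm n3, Ne.symm n4, Ne.symm hv2, Ne.symm hv3, Ne.symm hv4]
  have := Finset.card_le_univ ({⟨1, V.one_mem⟩, ⟨v, hv⟩, ⟨ρ v, S.inv_mem hv⟩,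
      ⟨ρ (ρ v), S.inv_mem (S.inv_mem hv)⟩, ⟨w, hw⟩} : Finset V)
  rw [h5, ← Nat.card_eq_fintype_card, S.card] at this
  omega

theorem exists_ne (S : Three ρ V j) : ∃ v ∈ V, v ≠ 1 := by
  suffices hb : V ≠ ⊥ by
    obtain ⟨v, hv⟩ := Subgroup.ne_bot_iff_exists_ne_one.1 hb
    exact ⟨v, v.2, fun e => hv (Subtype.ext e)⟩
  intro e
  have := S.card
  rw [e, Subgroup.card_bot] at this
  omega

/-- a fixed displacement is trivial. -/
theorem displace [Finite T] (S : Three ρ V j) {x d : T} (hx : ρ (ρ (ρ x)) = x * d) (hd : ρ (ρ (ρ d)) = d) :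
    d = 1 := by
  have key : ∀ k : ℕ, (fun y => ρ (ρ (ρ y)))^[k] x = x * d ^ k := by
    intro k
    induction k with
    | zero => simp
    | succ k ih =>
      rw [Function.iterate_succ_apply', ih]
      simp only [map_mul, map_pow, hx, hd, pow_succ']
      rw [mul_assoc]
  have h1 : d ^ j = 1 := mul_eq_left.1 ((key j).symm.trans (S.per x))
  obtain ⟨k, hk⟩ := S.two d
  have h2 := Nat.dvd_gcd (orderOf_dvd_of_pow_eq_one h1) (orderOf_dvd_of_pow_eq_one hk)
  have hc : Nat.Coprime j (2 ^ k) := Nat.Coprime.pow_right k (Nat.coprime_two_right.2 S.jodd)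
  rw [hc.gcd_eq_one] at h2
  exact orderOf_eq_one_iff.1 (Nat.dvd_one.1 h2)

/-- the cube is trivial on abelian invariant subgroups. -/
theorem cube_abelian [Finite T] (S : Three ρ V j) {A : Subgroup T} (hab : ∀ a ∈ A, ∀ b ∈ A, a * b = b * a)
    (hAρ : ∀ a ∈ A, ρ a ∈ A) {a : T} (ha : a ∈ A) : ρ (ρ (ρ a)) = a := by
  have key : ∀ k : ℕ, ∀ a ∈ A, a ^ (2 ^ k) = 1 → ρ (ρ (ρ a)) = a := by
    intro k
    induction k with
    | zero => intro a _ h; rw [pow_zero, pow_one] at h; subst h; simp
    | succ k ih =>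
      intro a ha h
      have h2 : ρ (ρ (ρ (a * a))) = a * a := ih _ (A.mul_mem ha ha) (by
        rw [← pow_two, ← pow_mul, ← pow_succ', h])
      set d := a⁻¹ * ρ (ρ (ρ a)) with hd
      have hdA : d ∈ A := A.mul_mem (A.inv_mem ha) (hAρ _ (hAρ _ (hAρ _ ha)))
      have hdV : d ∈ V := by
        rw [S.mem]
        have : (a * d) * (a * d) = a * a * (d * d) := by
          rw [mul_assoc a d, ← mul_assoc d a, hab d hdA a ha]; group
        have e : a * d = ρ (ρ (ρ a)) := by rw [hd, mul_inv_cancel_left]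
        rw [e, ← map_mul, ← map_mul, ← map_mul, h2] at this
        exact mul_eq_left.1 this.symm
      have := S.displace (x := a) (d := d) (by rw [hd, mul_inv_cancel_left]) (S.cubeV d hdV)
      exact (inv_mul_eq_one.1 this).symm
  obtain ⟨k, hk⟩ := S.two a
  exact key k a ha hk

/-- A self-centralising invariant abelian normal subgroup. -/
theorem exists_self_centralizing [Finite T] (S : Three ρ V j) :
    ∃ A : Subgroup T, A.Normal ∧ V ≤ A ∧ (∀ a ∈ A, ρ a ∈ A) ∧ (∀ a ∈ A, ∀ b ∈ A, a * b = b * a) ∧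
      ∀ x, (∀ a ∈ A, x * a = a * x) → x ∈ A := by
  classical
  haveI : Fact (Nat.Prime 2) := ⟨Nat.prime_two⟩
  obtain ⟨A, -, ⟨⟨hAn, hVA, hAρ, hAab⟩, hmax⟩⟩ := Finite.exists_le_maximal
    (p := fun A : Subgroup T => A.Normal ∧ V ≤ A ∧ (∀ a ∈ A, ρ a ∈ A) ∧ ∀ a ∈ A, ∀ b ∈ A, a * b = b * a)
    (a := V) ⟨⟨fun v hv g => by rw [S.central v hv g, mul_inv_cancel_right]; exact hv⟩, le_rfl,
      fun v hv => S.inv_mem hv, fun a ha b _ => (S.central a ha b).symm⟩
  haveI := hAn
  refine ⟨A, hAn, hVA, hAρ, hAab, ?_⟩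
  by_contra hC
  push Not at hC
  obtain ⟨x₀, hx₀, hx₀A⟩ := hC
  set C := Subgroup.centralizer (A : Set T) with hCdef
  have hmemC : ∀ x, x ∈ C ↔ ∀ a ∈ A, x * a = a * x := fun x =>
    ⟨fun h a ha => (Subgroup.mem_centralizer_iff.1 h a ha).symm,
      fun h => Subgroup.mem_centralizer_iff.2 fun a ha => (h a ha).symm⟩
  set π := QuotientGroup.mk' A
  -- a central involution of `T / A` in the image of the centraliser
  have hCn : C.Normal := by rw [hCdef]; infer_instance
  obtain ⟨b, hbC, hbA, hbsq, hbcen⟩ : ∃ b ∈ C, b ∉ A ∧ b * b ∈ A ∧ ∀ g, b⁻¹ * g⁻¹ * b * g ∈ A := by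
    haveI := hCn
    set Cb := C.map π
    haveI : Cb.Normal := hCn.map π (QuotientGroup.mk'_surjective A)
    haveI : Nontrivial Cb := by
      rw [Subgroup.nontrivial_iff_ne_bot]
      intro e
      have : π x₀ ∈ Cb := ⟨x₀, (hmemC x₀).2 hx₀, rfl⟩
      rw [e, Subgroup.mem_bot] at this
      exact hx₀A ((QuotientGroup.eq_one_iff _).1 this)
    have hQ2 : IsPGroup 2 (T ⧸ A) := S.two.to_quotient A
    have hne : Cb ⊓ Subgroup.center (T ⧸ A) ≠ ⊥ := by
      exact Cfsg.Lib.PGroup.inf_center_ne_bot hQ2 (N := Cb) ((Subgroup.nontrivial_iff_ne_bot Cb).1 inferInstance)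
    obtain ⟨q, hq⟩ := exists_prime_orderOf_dvd_card' (G := (Cb ⊓ Subgroup.center (T ⧸ A) : Subgroup (T ⧸ A))) 2 (by
      haveI : Nontrivial (Cb ⊓ Subgroup.center (T ⧸ A) : Subgroup (T ⧸ A)) := (Subgroup.nontrivial_iff_ne_bot _).2 hne
      obtain ⟨k, hk0, hk⟩ := (hQ2.to_subgroup (Cb ⊓ Subgroup.center (T ⧸ A))).nontrivial_iff_card.1 inferInstance
      rw [hk]; exact dvd_pow_self 2 (by omega))
    obtain ⟨⟨b, hbC, hbq⟩, hqZ⟩ := q.2
    have hbb : π b * π b = 1 := by
      have h2 := pow_orderOf_eq_one q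
      rw [hq, pow_two] at h2
      rw [hbq]
      exact congrArg Subtype.val h2
    refine ⟨b, hbC, fun e => ?_, (QuotientGroup.eq_one_iff _).1 hbb, fun g => (QuotientGroup.eq_one_iff _).1 ?_⟩
    · have : q = 1 := Subtype.ext (hbq.symm.trans ((QuotientGroup.eq_one_iff _).2 e))
      rw [this, orderOf_one] at hq
      omega
    · show (π b)⁻¹ * (π g)⁻¹ * π b * π g = 1
      rw [hbq, mul_assoc, ← Subgroup.mem_center_iff.1 hqZ (π g)]
      group
  -- all such elements
  let B : Subgroup T :=
    { carrier := {x | x ∈ C ∧ x * x ∈ A ∧ ∀ g, x⁻¹ * g⁻¹ * x * g ∈ A}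
      one_mem' := ⟨C.one_mem, by simp, fun g => by simp⟩
      mul_mem' := fun {x y} hx hy => by
        have cx : ∀ g, π x * π g = π g * π x := fun g => by
          have := (QuotientGroup.eq_one_iff _).2 (hx.2.2 g)
          have h' : (π x)⁻¹ * (π g)⁻¹ * π x * π g = 1 := this
          calc π x * π g = π g * π x * ((π x)⁻¹ * (π g)⁻¹ * π x * π g) := by group
            _ = _ := by rw [h', mul_one]
        have cy : ∀ g, π y * π g = π g * π y := fun g => by
          have := (QuotientGroup.eq_one_iff _).2 (hy.2.2 g)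
          have h' : (π y)⁻¹ * (π g)⁻¹ * π y * π g = 1 := this
          calc π y * π g = π g * π y * ((π y)⁻¹ * (π g)⁻¹ * π y * π g) := by group
            _ = _ := by rw [h', mul_one]
        refine ⟨C.mul_mem hx.1 hy.1, (QuotientGroup.eq_one_iff _).1 ?_, fun g => (QuotientGroup.eq_one_iff _).1 ?_⟩
        · show π x * π y * (π x * π y) = 1
          have hxx : π x * π x = 1 := (QuotientGroup.eq_one_iff _).2 hx.2.1
          have hyy : π y * π y = 1 := (QuotientGroup.eq_one_iff _).2 hy.2.1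
          rw [mul_assoc, ← mul_assoc (π y), cy x, mul_assoc, hyy, mul_one, hxx]
        · show (π x * π y)⁻¹ * (π g)⁻¹ * (π x * π y) * π g = 1
          rw [mul_assoc _ (π x * π y), mul_assoc (π x), cy g, ← mul_assoc (π x), cx g]
          group
      inv_mem' := fun {x} hx => by
        have cx : ∀ g, π x * π g = π g * π x := fun g => by
          have := (QuotientGroup.eq_one_iff _).2 (hx.2.2 g)
          have h' : (π x)⁻¹ * (π g)⁻¹ * π x * π g = 1 := this
          calc π x * π g = π g * π x * ((π x)⁻¹ * (π g)⁻¹ * π x * π g) := by group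
            _ = _ := by rw [h', mul_one]
        refine ⟨C.inv_mem hx.1, ?_, fun g => (QuotientGroup.eq_one_iff _).1 ?_⟩
        · rw [← mul_inv_rev]; exact A.inv_mem hx.2.1
        · show ((π x)⁻¹)⁻¹ * (π g)⁻¹ * (π x)⁻¹ * π g = 1
          rw [inv_inv, ← map_inv π g, cx g⁻¹, map_inv]; group }
  have hbB : b ∈ B := ⟨hbC, hbsq, hbcen⟩
  have hAB : A ≤ B := fun a ha => ⟨(hmemC a).2 (hAab a ha), A.mul_mem ha ha, fun g =>
    by
      rw [mul_assoc a⁻¹, mul_assoc a⁻¹]
      refine A.mul_mem (A.inv_mem ha) ?_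
      have := hAn.conj_mem a ha g⁻¹
      rwa [inv_inv] at this⟩
  have hBρ : ∀ x ∈ B, ρ x ∈ B := fun x hx => by
    refine ⟨(hmemC _).2 fun a ha => ?_, by rw [← map_mul]; exact hAρ _ hx.2.1, fun g => ?_⟩
    · have ha3 := S.cube_abelian hAab hAρ ha
      have := congrArg ρ ((hmemC x).1 hx.1 _ (hAρ _ (hAρ _ ha)))
      rwa [map_mul, map_mul, ha3] at this
    · obtain ⟨g', rfl⟩ := ρ.surjective g
      rw [← map_inv, ← map_inv, ← map_mul, ← map_mul, ← map_mul]
      exact hAρ _ (hx.2.2 g')
  have hcomm : ∀ x ∈ B, ∀ a ∈ A, x * a = a * x := fun x hx => (hmemC x).1 hx.1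
  -- commutators of `B`
  let D : T → T → T := fun x g => x⁻¹ * g⁻¹ * x * g
  have Dswap : ∀ x g : T, x * g = g * x * D x g := fun x g => by simp only [D]; group
  have DA : ∀ x ∈ B, ∀ y, D x y ∈ A := fun x hx y => hx.2.2 y
  have Dmul : ∀ x ∈ B, ∀ g, ∀ g' ∈ B, D x (g * g') = D x g * D x g' := fun x hx g g' hg' => by
    calc D x (g * g') = D x g' * (g'⁻¹ * D x g * g') := by simp only [D]; group
      _ = _ := by
        rw [mul_assoc g'⁻¹, ← hcomm g' hg' _ (DA x hx g), inv_mul_cancel_left, hAab _ (DA x hx g') _ (DA x hx g)]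
  have DV : ∀ x ∈ B, ∀ y ∈ B, D x y ∈ V := by
    intro x hx y hy
    rw [S.mem, ← Dmul x hx y y hy]
    show x⁻¹ * (y * y)⁻¹ * x * (y * y) = 1
    rw [mul_assoc _ x, hcomm x hx _ hy.2.1]; group
  have sqmul : ∀ x ∈ B, ∀ y ∈ B, (x * y) * (x * y) = x * x * (y * y) * D y x := by
    intro x hx y hy
    calc (x * y) * (x * y) = x * (y * x) * y := by group
      _ = x * x * y * (D y x * y) := by rw [Dswap y x]; group
      _ = _ := by rw [← hcomm y hy _ (DA y hy x)]; group
  -- the cube is trivial modulo `A`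
  have hcube : ∀ x ∈ B, x⁻¹ * ρ (ρ (ρ x)) ∈ A := by
    by_cases hA2 : ∃ a ∈ A, a * a ≠ 1
    · -- the four-group consists of squares in `A`
      obtain ⟨a, ha, ha2⟩ := hA2
      obtain ⟨w, hw, hw1⟩ : ∃ w ∈ A, w * w ∈ V ∧ w * w ≠ 1 := by
        obtain ⟨k, hk⟩ := S.two a
        induction k generalizing a with
        | zero => rw [pow_zero, pow_one] at hk; simp [hk] at ha2
        | succ k ih =>
          by_cases h4 : a * a * (a * a) = 1
          · exact ⟨a, ha, (S.mem _).2 h4, ha2⟩
          · exact ih (a * a) (A.mul_mem ha ha) h4 (by rw [← pow_two, ← pow_mul, ← pow_succ']; exact hk)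
      have hVsq : ∀ v ∈ V, ∃ c ∈ A, c * c = v := by
        intro v hv
        rcases S.cases hw1.1 hw1.2 hv with rfl | rfl | rfl | rfl
        · exact ⟨1, A.one_mem, one_mul 1⟩
        · exact ⟨w, hw, rfl⟩
        · exact ⟨ρ w, hAρ _ hw, (map_mul ρ w w).symm⟩
        · exact ⟨ρ (ρ w), hAρ _ (hAρ _ hw), by rw [← map_mul, ← map_mul]⟩
      intro x hx
      set d := x⁻¹ * ρ (ρ (ρ x)) with hd
      have hdB : d ∈ B := B.mul_mem (B.inv_mem hx) (hBρ _ (hBρ _ (hBρ _ hx)))
      have hsq : x * x * (d * d) * D d x = x * x := by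
        rw [← sqmul x hx d hdB, hd, mul_inv_cancel_left, ← map_mul, ← map_mul, ← map_mul,
          S.cube_abelian hAab hAρ hx.2.1]
      have hdd : d * d ∈ V := by
        rw [mul_assoc, mul_eq_left] at hsq
        rw [eq_inv_of_mul_eq_one_left hsq]
        exact V.inv_mem (DV d hdB x hx)
      obtain ⟨c, hc, hcd⟩ := hVsq _ hdd
      have : d * c ∈ V := by
        rw [S.mem, mul_assoc, ← mul_assoc c d, ← hcomm d hdB c hc, mul_assoc d c c, hcd, ← mul_assoc]
        exact (S.mem _).1 hdd
      have := A.mul_mem (hVA this) (A.inv_mem hc)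
      rwa [mul_inv_cancel_right] at this
    · push Not at hA2
      have hAV : A = V := le_antisymm (fun a ha => (S.mem a).2 (hA2 a ha)) hVA
      -- the group `B / V`
      let W : Subgroup (T ⧸ A) := B.map π
      have hWexp : ∀ q : W, q * q = 1 := by
        rintro ⟨q, x, hx, rfl⟩
        exact Subtype.ext ((QuotientGroup.eq_one_iff _).2 hx.2.1)
      have hlift : ∀ q : W, ∃ x ∈ B, π x = q := fun q => q.2
      choose lf hlfB hlf using hlift
      have hwd : ∀ (q : W) (x : T), x ∈ B → π x = q → x * x = lf q * lf q := by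
        intro q x hx e
        have hv : (lf q)⁻¹ * x ∈ V := hAV ▸ QuotientGroup.eq.1 ((hlf q).trans e.symm)
        calc x * x = lf q * ((lf q)⁻¹ * x) * (lf q * ((lf q)⁻¹ * x)) := by group
          _ = lf q * lf q * (((lf q)⁻¹ * x) * ((lf q)⁻¹ * x)) := by
            rw [mul_assoc (lf q), ← mul_assoc ((lf q)⁻¹ * x) (lf q), ← S.central _ hv (lf q)]; group
          _ = _ := by rw [(S.mem _).1 hv, mul_one]
      have hW16 : Nat.card W ≤ 16 := by
        by_contra hbig
        obtain ⟨v₀, hv₀, hv₀1⟩ := S.exists_ne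
        let g₁ : T → ZMod 2 := fun v => if v = 1 ∨ v = ρ v₀ then 0 else 1
        let g₂ : T → ZMod 2 := fun v => if v = 1 ∨ v = v₀ then 0 else 1
        have h2 : v₀ * v₀ = 1 := (S.mem _).1 hv₀
        have h2' : ρ v₀ * ρ v₀ = 1 := by rw [← map_mul, h2, map_one]
        have hrr : ρ (ρ v₀) = v₀ * ρ v₀ := by
          rcases S.cases hv₀ hv₀1 (V.mul_mem hv₀ (S.inv_mem hv₀)) with e | e | e | e
          · exact absurd (S.fix _ ((inv_eq_of_mul_eq_one_right e).symm.trans (inv_eq_of_mul_eq_one_right h2))) hv₀1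
          · exact absurd (ρ.injective ((mul_eq_left.1 e).trans (map_one ρ).symm)) hv₀1
          · exact absurd (mul_eq_right.1 e) hv₀1
          · exact e.symm
        have hne1 : ρ v₀ ≠ 1 := fun e => hv₀1 (ρ.injective (e.trans (map_one ρ).symm))
        have hne2 : ρ v₀ ≠ v₀ := fun e => hv₀1 (S.fix _ e)
        have hne3 : v₀ * ρ v₀ ≠ 1 := fun e =>
          hne2 ((inv_eq_of_mul_eq_one_right e).symm.trans (inv_eq_of_mul_eq_one_right h2))
        have hne4 : v₀ * ρ v₀ ≠ v₀ := fun e => hne1 (mul_eq_left.1 e)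
        have hne5 : v₀ * ρ v₀ ≠ ρ v₀ := fun e => hv₀1 (mul_eq_right.1 e)
        have k1 : ∀ z, v₀ * (v₀ * z) = z := fun z => by rw [← mul_assoc, h2, one_mul]
        have k2 : ∀ z, ρ v₀ * (ρ v₀ * z) = z := fun z => by rw [← mul_assoc, h2', one_mul]
        have c1 : ρ v₀ * v₀ = v₀ * ρ v₀ := S.central _ hv₀ (ρ v₀)
        have c2 : ∀ z, ρ v₀ * (v₀ * z) = v₀ * (ρ v₀ * z) := fun z => by rw [← mul_assoc, c1, mul_assoc]
        have hg : ∀ v ∈ V, ∀ w ∈ V, g₁ (v * w) = g₁ v + g₁ w ∧ g₂ (v * w) = g₂ v + g₂ w := by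
          intro v hv w hw
          rcases S.cases hv₀ hv₀1 hv with rfl | rfl | rfl | rfl <;>
            rcases S.cases hv₀ hv₀1 hw with rfl | rfl | rfl | rfl <;>
            simp [g₁, g₂, hrr, h2, h2', k1, k2, c1, c2, mul_assoc, hv₀1, hne1, hne2, Ne.symm hne2, hne3,
              hne4, hne5, CharTwo.add_self_eq_zero]
        have hq : ∀ (g : T → ZMod 2), (∀ v ∈ V, ∀ w ∈ V, g (v * w) = g v + g w) →
            DegLE 2 (fun q : W => g (lf q * lf q)) := by
          intro g hgadd h k x y
          have hVsq : ∀ z ∈ B, z * z ∈ V := fun z hz => hAV ▸ hz.2.1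
          have expand : ∀ (p q : W), g (lf (p * q) * lf (p * q)) =
              g (lf p * lf p) + g (lf q * lf q) + g (D (lf q) (lf p)) := by
            intro p q
            rw [← hwd (p * q) (lf p * lf q) (B.mul_mem (hlfB p) (hlfB q)) (by rw [map_mul, hlf, hlf]; rfl),
              sqmul _ (hlfB p) _ (hlfB q), hgadd _ (V.mul_mem (hVsq _ (hlfB p)) (hVsq _ (hlfB q))) _ (DV _ (hlfB q) _ (hlfB p)),
              hgadd _ (hVsq _ (hlfB p)) _ (hVsq _ (hlfB q))]
          have lin : ∀ (z : W) (p q : W), g (D (lf z) (lf (p * q))) = g (D (lf z) (lf p)) + g (D (lf z) (lf q)) := by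
            intro z p q
            have hv : (lf p * lf q)⁻¹ * lf (p * q) ∈ V := by
              refine hAV ▸ QuotientGroup.eq.1 ?_
              show π (lf p * lf q) = π (lf (p * q))
              rw [map_mul, hlf, hlf, hlf]; rfl
            have e1 : D (lf z) (lf (p * q)) = D (lf z) (lf p * lf q) := by
              rw [show lf (p * q) = (lf p * lf q) * ((lf p * lf q)⁻¹ * lf (p * q)) by group,
                Dmul _ (hlfB z) _ _ (hAB (hVA hv))]
              have : D (lf z) ((lf p * lf q)⁻¹ * lf (p * q)) = 1 := by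
                show (lf z)⁻¹ * _⁻¹ * lf z * _ = 1
                rw [mul_assoc _ (lf z), S.central _ hv (lf z)]; group
              rw [this, mul_one]
            rw [e1, Dmul _ (hlfB z) _ _ (hlfB q), hgadd _ (DV _ (hlfB z) _ (hlfB p)) _ (DV _ (hlfB z) _ (hlfB q))]
          simp only [expand, lin]
          have two : ∀ u : ZMod 2, u + u = 0 := fun u => CharTwo.add_self_eq_zero u
          linear_combination (norm := ring_nf) 2 * two (g (lf x * lf x)) - 2 * two (g (lf y * lf y)) +
            two (g (D (lf h) (lf x))) - two (g (D (lf h) (lf y))) + two (g (lf h * lf h)) - two (g (lf h * lf h)) +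
            two (g (D (lf k) (lf x))) - two (g (D (lf k) (lf y)))
        haveI : Fintype W := Fintype.ofFinite W
        have e1 : lf (1 : W) * lf (1 : W) = 1 := by
          have := hwd 1 1 B.one_mem (map_one π)
          rw [← this, one_mul]
        obtain ⟨q, hq1, z1, z2⟩ := exists_common_zero hWexp _ _ (hq g₁ fun v hv w hw => (hg v hv w hw).1)
          (hq g₂ fun v hv w hw => (hg v hv w hw).2) (by simp [g₁, e1]) (by simp [g₂, e1])
          (by rw [← Nat.card_eq_fintype_card]; omega)
        have hsqV : lf q * lf q ∈ V := hAV ▸ (hlfB q).2.1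
        have h1 : lf q * lf q = 1 := by
          rcases S.cases hv₀ hv₀1 hsqV with e | e | e | e
          · exact e
          · simp [g₁, e, hv₀1, Ne.symm hne2] at z1
          · simp [g₂, e, hne1, hne2] at z2
          · simp [g₁, e, hrr, hne3, hne5] at z1
        refine hq1 (Subtype.ext ?_)
        rw [← hlf q]
        exact (QuotientGroup.eq_one_iff _).2 (hAV ▸ (S.mem _).2 h1)
      -- a permutation of `B / V`
      intro x hx
      classical
      by_contra hne
      haveI : Fintype W := Fintype.ofFinite W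
      let σ : W → W := fun q => ⟨π (ρ (lf q)), ρ (lf q), hBρ _ (hlfB q), rfl⟩
      have hσ : ∀ y (hy : y ∈ B), σ ⟨π y, y, hy, rfl⟩ = ⟨π (ρ y), ρ y, hBρ _ hy, rfl⟩ := by
        intro y hy
        refine Subtype.ext (QuotientGroup.eq.2 ?_)
        rw [← map_inv, ← map_mul]
        exact hAρ _ (QuotientGroup.eq.1 (hlf ⟨π y, y, hy, rfl⟩))
      -- iterates
      have hiter : ∀ (i : ℕ) (y : T) (hy : y ∈ B), ∃ h : ρ^[i] y ∈ B, σ^[i] ⟨π y, y, hy, rfl⟩ = ⟨π (ρ^[i] y), _, h, rfl⟩ := by
        intro i y hy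
        induction i with
        | zero => exact ⟨hy, rfl⟩
        | succ i ih =>
          obtain ⟨h, e⟩ := ih
          refine ⟨by rw [Function.iterate_succ_apply']; exact hBρ _ h, ?_⟩
          rw [Function.iterate_succ_apply', e, hσ _ h]
          exact Subtype.ext (by simp [Function.iterate_succ_apply'])
      have hσmul : ∀ p q : W, σ (p * q) = σ p * σ q := by
        intro p q
        refine Subtype.ext ?_
        show π (ρ (lf (p * q))) = π (ρ (lf p)) * π (ρ (lf q))
        rw [← map_mul, ← map_mul]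
        refine QuotientGroup.eq.2 ?_
        rw [← map_inv, ← map_mul]
        refine hAρ _ (QuotientGroup.eq.1 ?_)
        show π (lf (p * q)) = π (lf p * lf q)
        rw [map_mul, hlf, hlf, hlf]; rfl
      let σh : W →* W := MonoidHom.mk' σ hσmul
      have hσinj : Function.Injective σ := by
        intro p q e
        refine Subtype.ext ?_
        rw [← hlf p, ← hlf q]
        apply QuotientGroup.eq.2
        have h1 : ρ ((lf p)⁻¹ * lf q) ∈ A := by
          rw [map_mul, map_inv]; exact QuotientGroup.eq.1 (congrArg Subtype.val e)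
        have h2 := hAρ _ (hAρ _ h1)
        have h3 := hAB h2
        -- the image of `A` is all of `A`
        let f : A → A := fun a => ⟨ρ a, hAρ _ a.2⟩
        obtain ⟨a, ha⟩ := Finite.surjective_of_injective (f := f)
          (fun a b e => Subtype.ext (ρ.injective (congrArg Subtype.val e))) ⟨_, h1⟩
        rw [← ρ.injective (congrArg Subtype.val ha : ρ (a : T) = ρ _)]
        exact a.2
      set q₀ : W := ⟨π x, x, hx, rfl⟩
      -- the period of `q₀` is at least nine
      have hperiodic : Function.IsPeriodicPt σ (3 * j) q₀ := by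
        obtain ⟨h, e⟩ := hiter (3 * j) x hx
        show σ^[3 * j] q₀ = q₀
        rw [e]
        refine Subtype.ext ?_
        show π (ρ^[3 * j] x) = π x
        rw [Function.iterate_mul, show (⇑ρ)^[3] = fun y => ρ (ρ (ρ y)) from rfl, S.per]
      have hnot : ¬ Function.IsPeriodicPt σ 3 q₀ := by
        intro e
        obtain ⟨h, e'⟩ := hiter 3 x hx
        exact hne (QuotientGroup.eq.1 (congrArg Subtype.val (e'.symm.trans e)).symm)
      -- the period divides `3 j` but not three, and `3 j` is a power of three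
      let P : W → ℕ := fun q => Function.minimalPeriod σ q
      let Fix : Subgroup W := MonoidHom.eqLocus (σh.comp (σh.comp σh)) (MonoidHom.id W)
      have hFix : ∀ q, q ∈ Fix ↔ Function.IsPeriodicPt σ 3 q := fun q => Iff.rfl
      -- orbits outside the fixed points of the cube
      have horbit : ∀ q : W, q ∉ Fix → ∃ O : Finset W, 9 ≤ O.card ∧ (O.card < 27 → O.card = 9) ∧ q ∈ O ∧
          (∀ r ∈ O, r ∉ Fix) ∧ (∀ r, σ r ∈ O → r ∈ O) ∧ ∀ r ∈ O, ∃ i, σ^[i] q = r := by
        intro q hq
        have hjj : Function.IsPeriodicPt σ (3 * j) q := by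
          obtain ⟨y, hy, hyq⟩ := q.2
          obtain ⟨h, e⟩ := hiter (3 * j) y hy
          have hq' : (⟨π y, y, hy, rfl⟩ : W) = q := Subtype.ext hyq
          show σ^[3 * j] q = q
          rw [← hq', e]
          refine Subtype.ext ?_
          show π (ρ^[3 * j] y) = π y
          rw [Function.iterate_mul, show (⇑ρ)^[3] = fun y => ρ (ρ (ρ y)) from rfl, S.per]
        obtain ⟨a, ha⟩ := S.jpow
        have hd : P q ∣ 3 ^ (a + 1) := by rw [pow_succ', ← ha]; exact hjj.minimalPeriod_dvd
        obtain ⟨i, hi, hP⟩ := (Nat.dvd_prime_pow Nat.prime_three).1 hd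
        have hi2 : 2 ≤ i := by
          by_contra hlt
          refine hq ((hFix q).2 (Function.isPeriodicPt_iff_minimalPeriod_dvd.2 ?_))
          show P q ∣ 3
          rw [hP]
          exact (pow_dvd_pow 3 (show i ≤ 1 by omega)).trans (by simp)
        have hcard : ((Finset.range (P q)).image fun i => σ^[i] q).card = P q := by
          rw [Finset.card_image_of_injOn, Finset.card_range]
          intro u hu v hv e
          exact Function.iterate_injOn_Iio_minimalPeriod (by simpa using hu) (by simpa using hv) e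
        refine ⟨(Finset.range (P q)).image fun i => σ^[i] q, ?_, ?_, ?_, ?_, ?_, ?_⟩
        · rw [hcard, hP]
          exact (show (9 : ℕ) = 3 ^ 2 by norm_num) ▸ Nat.pow_le_pow_right (by norm_num) hi2
        · intro hlt
          rw [hcard, hP] at hlt ⊢
          have : i < 3 := (Nat.pow_lt_pow_iff_right (by norm_num : 1 < 3)).1 (hlt.trans_le (by norm_num))
          rw [show i = 2 by omega]; norm_num
        · exact Finset.mem_image.2 ⟨0, Finset.mem_range.2 (by rw [hP]; positivity), rfl⟩
        · intro r hr hrF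
          obtain ⟨u, -, rfl⟩ := Finset.mem_image.1 hr
          refine hq ((hFix q).2 ?_)
          refine (hσinj.iterate u) ?_
          rw [← Function.iterate_add_apply, Nat.add_comm, Function.iterate_add_apply]
          exact (hFix _).1 hrF
        · intro r hr
          obtain ⟨u, hu, e⟩ := Finset.mem_image.1 hr
          refine Finset.mem_image.2 ⟨(u + (P q - 1)) % P q, Finset.mem_range.2 (Nat.mod_lt _ (by rw [hP]; positivity)), hσinj ?_⟩
          rw [← Function.iterate_succ_apply' σ, ← e, ← Function.iterate_mod_minimalPeriod_eq]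
          have hpos : 0 < P q := by rw [hP]; positivity
          show σ^[((u + (P q - 1)) % P q + 1) % P q] q = σ^[u] q
          rw [Nat.mod_add_mod, show u + (P q - 1) + 1 = u + P q by omega, Nat.add_mod_right,
            Nat.mod_eq_of_lt (Finset.mem_range.1 hu)]
        · intro r hr
          obtain ⟨u, -, e⟩ := Finset.mem_image.1 hr
          exact ⟨u, e⟩
      have hq₀ : q₀ ∉ Fix := fun e => hnot ((hFix q₀).1 e)
      obtain ⟨O, hO9, hO27, -, hOF, hOinv, -⟩ := horbit q₀ hq₀
      have hWcard : Fintype.card W ≤ 16 := by rw [← Nat.card_eq_fintype_card]; exact hW16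
      set FW : Finset W := Finset.univ.filter fun q => q ∈ Fix
      have hdisj : Disjoint O FW := Finset.disjoint_left.2 fun r hr hr' => hOF r hr (Finset.mem_filter.1 hr').2
      by_cases hall : ∀ r, r ∈ O ∪ FW
      · have hcard : Fintype.card W = O.card + Nat.card Fix := by
          rw [← Finset.card_univ, ← (Finset.eq_univ_iff_forall.2 hall), Finset.card_union_of_disjoint hdisj,
            Nat.card_eq_fintype_card, Fintype.card_subtype]
        have hFpos : 0 < Nat.card Fix := Nat.card_pos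
        have hO' := hO27 (by omega)
        rw [hO'] at hcard
        obtain ⟨k, hk⟩ : ∃ k, Nat.card W = 2 ^ k := IsPGroup.iff_card.1 (fun q => ⟨1, by rw [pow_one, pow_two, hWexp]⟩ : IsPGroup 2 W)
        have hd := Subgroup.card_subgroup_dvd_card Fix
        rw [Nat.card_eq_fintype_card (α := W)] at hk hd
        have hk4 : k ≤ 4 := by
          by_contra hk5
          have : 2 ^ 5 ≤ 2 ^ k := Nat.pow_le_pow_right (by norm_num) (by omega)
          omega
        have hcard' : 2 ^ k = 9 + Nat.card Fix := by rw [← hk]; exact hcard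
        rw [hk] at hd
        interval_cases k <;> norm_num at hcard' <;> try omega
        have h7 : Nat.card Fix = 7 := by omega
        rw [h7] at hd
        norm_num at hd
      · push Not at hall
        obtain ⟨r, hr⟩ := hall
        rw [Finset.mem_union, not_or] at hr
        obtain ⟨O', hO9', -, -, -, -, hOgen⟩ := horbit r fun e => hr.2 (Finset.mem_filter.2 ⟨Finset.mem_univ _, e⟩)
        have hd' : Disjoint O O' := Finset.disjoint_right.2 fun t ht htO => by
          obtain ⟨i, rfl⟩ := hOgen t ht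
          clear ht
          induction i with
          | zero => exact hr.1 htO
          | succ i ih => rw [Function.iterate_succ_apply'] at htO; exact ih (hOinv _ htO)
        have := Finset.card_le_univ (O ∪ O')
        rw [Finset.card_union_of_disjoint hd'] at this
        omega
  -- an abelian extension
  have hz : ∀ y ∈ B, y * ρ y * ρ (ρ y) ∈ A := by
    intro y hy
    refine mem_of_fixed_mod S.fix hAρ ?_
    have hd := hcube y hy
    have e : (y * ρ y * ρ (ρ y))⁻¹ * ρ (y * ρ y * ρ (ρ y)) =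
        D (ρ y * ρ (ρ y)) y * (y⁻¹ * ρ (ρ (ρ y))) := by
      simp only [D, map_mul]; group
    rw [e]
    exact A.mul_mem (DA _ (B.mul_mem (hBρ _ hy) (hBρ _ (hBρ _ hy))) _) hd
  have hrb := hBρ _ hbB
  have hcomm_b : b * ρ b = ρ b * b := by
    set c := D b (ρ b) with hc
    have hcV : c ∈ V := DV b hbB _ hrb
    have hz' := hz b hbB
    set z := b * ρ b * ρ (ρ b)
    have hρc : ρ c = D (ρ b) (ρ (ρ b)) := by simp only [hc, D, map_mul, map_inv]
    have hinvD : ∀ g ∈ B, D (ρ b) g⁻¹ = D (ρ b) g := fun g hg => by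
      have h2 := Dmul (ρ b) hrb g g⁻¹ (B.inv_mem hg)
      have h1 : D (ρ b) (g * g⁻¹) = 1 := by simp only [D]; group
      rw [h1] at h2
      rw [← inv_eq_of_mul_eq_one_right h2.symm]
      exact inv_eq_of_mul_eq_one_right ((S.mem _).1 (DV _ hrb _ hg))
    have e2 : ρ (ρ b) = (b * ρ b)⁻¹ * z := by simp only [z]; group
    have hDz : D (ρ b) z = 1 := by
      show (ρ b)⁻¹ * z⁻¹ * ρ b * z = 1
      rw [mul_assoc _ (ρ b), hcomm _ hrb z hz']; group
    have hDself : D (ρ b) (ρ b) = 1 := by simp only [D]; group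
    rw [e2, Dmul _ hrb _ _ (hAB hz'), hDz, mul_one, hinvD _ (B.mul_mem hbB hrb),
      Dmul _ hrb _ _ hrb, hDself, mul_one] at hρc
    have h3 : D (ρ b) b = c := by
      have e : D (ρ b) b = c⁻¹ := by simp only [hc, D]; group
      rw [e]; exact inv_eq_of_mul_eq_one_right ((S.mem _).1 hcV)
    rw [h3] at hρc
    have := S.fix c hρc
    calc b * ρ b = ρ b * b * c := by rw [hc, ← Dswap]
      _ = _ := by rw [this, mul_one]
  set U := A ⊔ Subgroup.closure {b, ρ b} with hU
  have hUB : U ≤ B := sup_le hAB ((Subgroup.closure_le _).2 (by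
    intro y hy
    simp only [Set.mem_insert_iff, Set.mem_singleton_iff] at hy
    rcases hy with rfl | rfl <;> assumption))
  have hUn : U.Normal := ⟨fun y hy g => by
    have h1 : g * y * g⁻¹ = y * D y g⁻¹ := by simp only [D]; group
    rw [h1]
    exact U.mul_mem hy (le_sup_left (b := Subgroup.closure {b, ρ b}) (DA y (hUB hy) _))⟩
  have hUρ : ∀ y ∈ U, ρ y ∈ U := by
    have : U ≤ U.comap ρ.toMonoidHom := by
      refine sup_le (fun a ha => le_sup_left (b := Subgroup.closure {b, ρ b}) (hAρ a ha)) ((Subgroup.closure_le _).2 ?_)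
      intro y hy
      simp only [Set.mem_insert_iff, Set.mem_singleton_iff] at hy
      have hbU : b ∈ U := le_sup_right (a := A) (Subgroup.subset_closure (by simp))
      have hrbU : ρ b ∈ U := le_sup_right (a := A) (Subgroup.subset_closure (by simp))
      rcases hy with rfl | rfl
      · exact hrbU
      · show ρ (ρ b) ∈ U
        have := U.mul_mem (U.inv_mem (U.mul_mem hbU hrbU)) (le_sup_left (b := Subgroup.closure {b, ρ b}) (hz b hbB))
        rwa [inv_mul_cancel_left] at this
    exact fun y hy => this hy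
  have hUab : ∀ y ∈ U, ∀ w ∈ U, y * w = w * y := by
    have hle : U ≤ Subgroup.closure ((A : Set T) ∪ {b, ρ b}) :=
      sup_le (fun a ha => Subgroup.subset_closure (Or.inl ha)) (Subgroup.closure_mono fun y hy => Or.inr hy)
    haveI : IsMulCommutative (Subgroup.closure ((A : Set T) ∪ {b, ρ b})) := Subgroup.isMulCommutative_closure (by
      have key : ∀ p ∈ ((A : Set T) ∪ {b, ρ b}), p ∈ A ∨ p = b ∨ p = ρ b := by
        intro p hp; simp at hp; tauto
      intro p hp q hq
      rcases key p hp with hp | hp | hp <;> rcases key q hq with hq | hq | hq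
      · exact hAab p hp q hq
      · rw [hq]; exact (hcomm _ hbB p hp).symm
      · rw [hq]; exact (hcomm _ hrb p hp).symm
      · rw [hp]; exact hcomm _ hbB q hq
      · rw [hp, hq]
      · rw [hp, hq]; exact hcomm_b
      · rw [hp]; exact hcomm _ hrb q hq
      · rw [hp, hq]; exact hcomm_b.symm
      · rw [hp, hq])
    intro y hy w hw
    exact Subtype.ext_iff.1 (mul_comm' (⟨y, hle hy⟩ : Subgroup.closure ((A : Set T) ∪ {b, ρ b})) ⟨w, hle hw⟩)
  exact hbA (hmax ⟨hUn, le_sup_of_le_left hVA, hUρ, hUab⟩ le_sup_left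
    (le_sup_right (a := A) (Subgroup.subset_closure (by simp))))

end Three

end Cfsg.Lib.TwoFour
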